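-- Fixed-point-free actions: a group acting fixed-point-freely has no subgroup C_p x C_p.
import Mathlib

set_option autoImplicit false

namespace Cfsg.Agent.Lib.Helper95.FrobCompl

universe u

open scoped IsMulCommutative Pointwise

/-- Two commuting automorphisms `α`, `γ` of order dividing `p` of an abelian group, such that
all `α γ^k` and all `γ^i` (`0 < i < p`) are fixed-point-free, force exponent `p`. -/
lemma abs_pow_eq_one {V : Type*} [CommGroup V] (p : ℕ) (hp : 0 < p) (α γ : MulAut V)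
    (hαγ : α * γ = γ * α) (hα : α ^ p = 1) (hγ : γ ^ p = 1)
    (hfix₁ : ∀ k : ℕ, ∀ v, (α * γ ^ k) v = v → v = 1)
    (hfix₂ : ∀ i : ℕ, 0 < i → i < p → ∀ v, (γ ^ i) v = v → v = 1) (v : V) : v ^ p = 1 := by
  have norm : ∀ τ : MulAut V, τ ^ p = 1 → (∀ v, τ v = v → v = 1) →
      ∀ v, ∏ k ∈ Finset.range p, (τ ^ k) v = 1 := by
    intro τ hτ hf v
    apply hf
    rw [map_prod]
    have h1 : ∀ k, τ ((τ ^ k) v) = (τ ^ (k + 1)) v := fun k => by
      rw [pow_succ', MulAut.mul_apply]
    simp only [h1]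
    have h2 := Finset.prod_range_succ (fun k => (τ ^ k) v) p
    have h3 := Finset.prod_range_succ' (fun k => (τ ^ k) v) p
    rw [h3] at h2
    simp only [pow_zero, hτ, MulAut.one_apply] at h2
    exact mul_right_cancel h2
  have hc : Commute α γ := hαγ
  have key : ∏ k ∈ Finset.range p, ∏ i ∈ Finset.range p, ((α * γ ^ k) ^ i) v = 1 := by
    apply Finset.prod_eq_one
    intro k _
    apply norm (α * γ ^ k) _ (hfix₁ k) v
    rw [(hc.pow_right k).mul_pow, hα, ← pow_mul, mul_comm, pow_mul, hγ, one_pow, mul_one]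
  rw [Finset.prod_comm] at key
  have h4 : ∀ i k, ((α * γ ^ k) ^ i) v = (α ^ i) (((γ ^ i) ^ k) v) := by
    intro i k
    rw [(hc.pow_right k).mul_pow, MulAut.mul_apply, ← pow_mul, ← pow_mul, mul_comm k i]
  simp only [h4] at key
  have h5 : ∀ i, ∏ k ∈ Finset.range p, (α ^ i) (((γ ^ i) ^ k) v)
      = (α ^ i) (∏ k ∈ Finset.range p, ((γ ^ i) ^ k) v) := fun i => (map_prod (α ^ i) _ _).symm
  simp only [h5] at key
  obtain ⟨q, rfl⟩ : ∃ q, p = q + 1 := ⟨p - 1, by omega⟩
  rw [Finset.prod_range_succ'] at key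
  have h6 : ∀ i ∈ Finset.range q,
      (α ^ (i + 1)) (∏ k ∈ Finset.range (q + 1), ((γ ^ (i + 1)) ^ k) v) = 1 := by
    intro i hi
    have hi' := Finset.mem_range.mp hi
    rw [norm (γ ^ (i + 1)) (by rw [← pow_mul, mul_comm, pow_mul, hγ, one_pow])
      (hfix₂ (i + 1) (by omega) (by omega)) v, map_one]
  rw [Finset.prod_eq_one h6, one_mul] at key
  simpa using key

section inG

variable {G : Type u} [Group G]

/-- The normaliser of a subgroup normalises its centre. -/
lemma conj_mem_center_of_mem_normalizer (R : Subgroup G) (g : G)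
    (hg : g ∈ Subgroup.normalizer (R : Set G)) (h : G)
    (hh : h ∈ R ⊓ Subgroup.centralizer (R : Set G)) :
    g * h * g⁻¹ ∈ R ⊓ Subgroup.centralizer (R : Set G) := by
  have hg' := Subgroup.mem_normalizer_iff.mp hg
  refine Subgroup.mem_inf.mpr ⟨(hg' h).mp hh.1, ?_⟩
  rw [Subgroup.mem_centralizer_iff]
  intro w hw
  have hw' : g⁻¹ * w * g ∈ R := by
    rw [hg' (g⁻¹ * w * g)]
    have h1 : g * (g⁻¹ * w * g) * g⁻¹ = w := by group
    rw [h1]
    exact hw
  have h2 := Subgroup.mem_centralizer_iff.mp hh.2 _ hw'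
  calc w * (g * h * g⁻¹) = g * ((g⁻¹ * w * g) * h) * g⁻¹ := by group
    _ = g * (h * (g⁻¹ * w * g)) * g⁻¹ := by rw [h2]
    _ = g * h * g⁻¹ * w := by group

lemma normalizer_le_normalizer_center (R : Subgroup G) :
    Subgroup.normalizer (R : Set G)
      ≤ Subgroup.normalizer ((R ⊓ Subgroup.centralizer (R : Set G) : Subgroup G) : Set G) := by
  intro g hg
  rw [Subgroup.mem_normalizer_iff]
  intro h
  constructor
  · exact conj_mem_center_of_mem_normalizer R g hg h
  · intro hh
    have h1 := conj_mem_center_of_mem_normalizer R g⁻¹ (inv_mem hg) _ hh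
    have h2 : g⁻¹ * (g * h * g⁻¹) * g⁻¹⁻¹ = h := by group
    rw [h2] at h1
    exact h1

/-- If an element `c` of prime order `p` acts fixed-point-freely on the normal subgroup `K`,
then `p` does not divide the order of `K`. -/
lemma not_dvd_card_of_fpf [Finite G] (K : Subgroup G) [K.Normal] (p : ℕ) [Fact p.Prime] (c : G)
    (hcp : c ^ p = 1) (hfix : ∀ k ∈ K, c * k = k * c → k = 1) : ¬ p ∣ Nat.card K := by
  have hp : p.Prime := Fact.out
  let ψ : ↥(Subgroup.zpowers c) →* MulAut ↥K :=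
    (MulAut.conjNormal (H := K)).comp (Subgroup.zpowers c).subtype
  let _ : MulAction ↥(Subgroup.zpowers c) ↥K := MulAction.compHom ↥K ψ
  have hpg : IsPGroup p ↥(Subgroup.zpowers c) := by
    intro g
    refine ⟨1, ?_⟩
    obtain ⟨i, hi⟩ := Subgroup.mem_zpowers_iff.mp g.2
    apply Subtype.ext
    rw [pow_one, Subgroup.coe_pow, ← hi, Subgroup.coe_one, ← zpow_natCast, ← zpow_mul, mul_comm,
      zpow_mul, zpow_natCast, hcp, one_zpow]
  have hmod := hpg.card_modEq_card_fixedPoints ↥K
  have hfp : Nat.card (MulAction.fixedPoints ↥(Subgroup.zpowers c) ↥K) = 1 := by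
    rw [Nat.card_eq_one_iff_unique]
    constructor
    · constructor
      have key : ∀ x : MulAction.fixedPoints ↥(Subgroup.zpowers c) ↥K, x = ⟨1, fun g => by
          change (ψ g) 1 = 1
          exact map_one _⟩ := by
        rintro ⟨x, hx⟩
        apply Subtype.ext
        apply Subtype.ext
        apply hfix x.1 x.2
        have h1 : ((MulAut.conjNormal (H := K) c) x : G) = (x : G) :=
          congrArg Subtype.val (hx ⟨c, Subgroup.mem_zpowers c⟩)
        rw [MulAut.conjNormal_apply] at h1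
        calc c * (x : G) = c * (x : G) * c⁻¹ * c := by group
          _ = (x : G) * c := by rw [h1]
      intro x y
      rw [key x, key y]
    · exact ⟨⟨1, fun g => by
        change (ψ g) 1 = 1
        exact map_one _⟩⟩
  rw [hfp] at hmod
  intro hdvd
  have h1 : Nat.card ↥K % p = 0 := Nat.mod_eq_zero_of_dvd hdvd
  have h2 : Nat.card ↥K % p = 1 % p := hmod
  rw [h1, Nat.mod_eq_of_lt hp.one_lt] at h2
  exact absurd h2 (by norm_num)

/-- Given commuting `a`, `c` with `a^p = c^p = 1` and `p` not dividing the order of the normal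
subgroup `K`, for every prime `r` dividing `|K|` there is a nontrivial `r`-subgroup of `K`
normalised by `a` and `c`. -/
lemma exists_invariant_sylow [Finite G] (K : Subgroup G) [K.Normal] (p : ℕ) [Fact p.Prime]
    (a c : G) (hac : a * c = c * a) (hap : a ^ p = 1) (hcp : c ^ p = 1)
    (hpK : ¬ p ∣ Nat.card K) (r : ℕ) [Fact r.Prime] (hr : r ∣ Nat.card K) :
    ∃ R : Subgroup G, R ≤ K ∧ IsPGroup r R ∧ R ≠ ⊥ ∧ a ∈ Subgroup.normalizer (R : Set G) ∧
      c ∈ Subgroup.normalizer (R : Set G) := by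
  have hp : p.Prime := Fact.out
  have hcomm : ∀ (m : ↥(Subgroup.zpowers a)) (n : ↥(Subgroup.zpowers c)),
      Commute ((Subgroup.zpowers a).subtype m) ((Subgroup.zpowers c).subtype n) := by
    intro m n
    obtain ⟨i, hi⟩ := Subgroup.mem_zpowers_iff.mp m.2
    obtain ⟨j, hj⟩ := Subgroup.mem_zpowers_iff.mp n.2
    change Commute (m : G) (n : G)
    rw [← hi, ← hj]
    exact (show Commute a c from hac).zpow_zpow i j
  let φ : ↥(Subgroup.zpowers a) × ↥(Subgroup.zpowers c) →* G :=
    MonoidHom.noncommCoprod (Subgroup.zpowers a).subtype (Subgroup.zpowers c).subtype hcomm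
  let ψ : ↥(Subgroup.zpowers a) × ↥(Subgroup.zpowers c) →* MulAut ↥K :=
    (MulAut.conjNormal (H := K)).comp φ
  let _ : MulAction (↥(Subgroup.zpowers a) × ↥(Subgroup.zpowers c)) (Sylow r ↥K) :=
    MulAction.compHom (Sylow r ↥K) ψ
  have hpow : ∀ (x : G) (g : G), g ∈ Subgroup.zpowers x → x ^ p = 1 → g ^ p = 1 := by
    intro x g hg hx
    obtain ⟨i, hi⟩ := Subgroup.mem_zpowers_iff.mp hg
    rw [← hi, ← zpow_natCast, ← zpow_mul, mul_comm, zpow_mul, zpow_natCast, hx, one_zpow]
  have hD : IsPGroup p (↥(Subgroup.zpowers a) × ↥(Subgroup.zpowers c)) := by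
    rintro ⟨x, y⟩
    refine ⟨1, ?_⟩
    rw [pow_one]
    apply Prod.ext
    · apply Subtype.ext
      change (x : G) ^ p = 1
      exact hpow a x x.2 hap
    · apply Subtype.ext
      change (y : G) ^ p = 1
      exact hpow c y y.2 hcp
  have hnd : ¬ p ∣ Nat.card (Sylow r ↥K) := by
    intro h
    apply hpK
    let P0 : Sylow r ↥K := default
    exact (h.trans P0.card_dvd_index).trans (Subgroup.index_dvd_card _)
  obtain ⟨R, hR⟩ := hD.nonempty_fixed_point_of_prime_not_dvd_card (Sylow r ↥K) hnd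
  have hRa : ∀ w : ↥K, w ∈ (R : Subgroup ↥K) ↔ MulAut.conjNormal (H := K) a w ∈ (R : Subgroup ↥K) := by
    have h := hR (⟨a, Subgroup.mem_zpowers a⟩, 1)
    have hψ : ψ (⟨a, Subgroup.mem_zpowers a⟩, 1) = MulAut.conjNormal (H := K) a := by
      change MulAut.conjNormal (H := K) (a * 1) = _
      rw [mul_one]
    have h' : (MulAut.conjNormal (H := K) a) • R = R := by
      rw [← hψ]
      exact h
    have h'' : (MulAut.conjNormal (H := K) a) • (R : Subgroup ↥K) = (R : Subgroup ↥K) := by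
      rw [← Sylow.pointwise_smul_def, h']
    intro w
    rw [← MulAut.smul_def]
    conv_rhs => rw [← h'']
    exact Subgroup.smul_mem_pointwise_smul_iff.symm
  have hRc : ∀ w : ↥K, w ∈ (R : Subgroup ↥K) ↔ MulAut.conjNormal (H := K) c w ∈ (R : Subgroup ↥K) := by
    have h := hR (1, ⟨c, Subgroup.mem_zpowers c⟩)
    have hψ : ψ (1, ⟨c, Subgroup.mem_zpowers c⟩) = MulAut.conjNormal (H := K) c := by
      change MulAut.conjNormal (H := K) (1 * c) = _
      rw [one_mul]
    have h' : (MulAut.conjNormal (H := K) c) • R = R := by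
      rw [← hψ]
      exact h
    have h'' : (MulAut.conjNormal (H := K) c) • (R : Subgroup ↥K) = (R : Subgroup ↥K) := by
      rw [← Sylow.pointwise_smul_def, h']
    intro w
    rw [← MulAut.smul_def]
    conv_rhs => rw [← h'']
    exact Subgroup.smul_mem_pointwise_smul_iff.symm
  have hnorm : ∀ g : G, (∀ w : ↥K, w ∈ (R : Subgroup ↥K)
      ↔ MulAut.conjNormal (H := K) g w ∈ (R : Subgroup ↥K)) →
      g ∈ Subgroup.normalizer (((R : Subgroup ↥K).map K.subtype : Subgroup G) : Set G) := by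
    intro g hg
    rw [Subgroup.mem_normalizer_iff]
    intro h
    constructor
    · rintro ⟨w, hw, rfl⟩
      exact ⟨MulAut.conjNormal (H := K) g w, (hg w).mp hw, MulAut.conjNormal_apply g w⟩
    · rintro ⟨w, hw, hwe⟩
      have hK : h ∈ K := by
        have h1 : h = g⁻¹ * (g * h * g⁻¹) * g := by group
        have h2 : g * h * g⁻¹ ∈ K := by
          rw [← hwe]
          exact w.2
        rw [h1]
        have h3 := ‹K.Normal›.conj_mem _ h2 g⁻¹
        rw [inv_inv] at h3
        exact h3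
      refine ⟨⟨h, hK⟩, ?_, rfl⟩
      change (⟨h, hK⟩ : ↥K) ∈ (R : Subgroup ↥K)
      rw [hg ⟨h, hK⟩]
      have h4 : MulAut.conjNormal (H := K) g ⟨h, hK⟩ = w := by
        apply Subtype.ext
        rw [MulAut.conjNormal_apply]
        exact hwe.symm
      rw [h4]
      exact hw
  refine ⟨(R : Subgroup ↥K).map K.subtype, Subgroup.map_subtype_le _, R.isPGroup'.map _, ?_,
    hnorm a hRa, hnorm c hRc⟩
  intro hbot
  have h1 : (R : Subgroup ↥K) = ⊥ :=
    (Subgroup.map_eq_bot_iff_of_injective _ K.subtype_injective).mp hbot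
  exact R.ne_bot_of_dvd_card hr h1

/-- A group acting fixed-point-freely on a nontrivial normal subgroup `K` contains no pair of
independent commuting elements of order `p`. -/
theorem no_rank_two [Finite G] (K : Subgroup G) [K.Normal] (hK : K ≠ ⊥) (p : ℕ) [Fact p.Prime]
    (a c : G) (hac : a * c = c * a) (hap : a ^ p = 1) (hcp : c ^ p = 1)
    (hfix : ∀ i j : ℕ, ¬ (p ∣ i ∧ p ∣ j) → ∀ k ∈ K,
      (a ^ i * c ^ j) * k = k * (a ^ i * c ^ j) → k = 1) : False := by
  have hp : p.Prime := Fact.out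
  have hp1 : ¬ p ∣ 1 := fun h => hp.one_lt.ne' (Nat.dvd_one.mp h)
  -- p does not divide |K|
  have hpK : ¬ p ∣ Nat.card K := by
    apply not_dvd_card_of_fpf K p c hcp
    intro k hk hck
    apply hfix 0 1 (fun h => hp1 h.2) k hk
    rw [pow_zero, one_mul, pow_one]
    exact hck
  -- a prime r dividing |K|
  have hK1 : Nat.card K ≠ 1 := fun h => hK (Subgroup.card_eq_one.mp h)
  obtain ⟨r, hr, hrK⟩ := Nat.exists_prime_and_dvd hK1
  have hrf : Fact r.Prime := ⟨hr⟩
  have hrp : r ≠ p := by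
    rintro rfl
    exact hpK hrK
  obtain ⟨R, hRK, hRr, hRne, haR, hcR⟩ :=
    exists_invariant_sylow K p a c hac hap hcp hpK r hrK
  -- the centre of R
  have haS := normalizer_le_normalizer_center R haR
  have hcS := normalizer_le_normalizer_center R hcR
  have hSne : R ⊓ Subgroup.centralizer (R : Set G) ≠ ⊥ := by
    have hnt : Nontrivial ↥R := (Subgroup.nontrivial_iff_ne_bot R).mpr hRne
    have hcn := hRr.center_nontrivial
    obtain ⟨z, hz⟩ := exists_ne (1 : Subgroup.center ↥R)
    intro hbot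
    apply hz
    apply Subtype.ext
    apply Subtype.ext
    have h1 : ((z : ↥R) : G) ∈ R ⊓ Subgroup.centralizer (R : Set G) := by
      refine Subgroup.mem_inf.mpr ⟨(z : ↥R).2, ?_⟩
      rw [Subgroup.mem_centralizer_iff]
      intro w hw
      have h2 := Subgroup.mem_center_iff.mp z.2 ⟨w, hw⟩
      exact congrArg Subtype.val h2
    rw [hbot, Subgroup.mem_bot] at h1
    exact h1
  generalize hS : R ⊓ Subgroup.centralizer (R : Set G) = S at haS hcS hSne
  have hSR : S ≤ R := by
    rw [← hS]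
    exact inf_le_left
  have hScomm : IsMulCommutative ↥S := by
    refine ⟨⟨fun x y => ?_⟩⟩
    apply Subtype.ext
    have hx : (x : G) ∈ R ⊓ Subgroup.centralizer (R : Set G) := hS ▸ x.2
    have hy : (y : G) ∈ R ⊓ Subgroup.centralizer (R : Set G) := hS ▸ y.2
    exact Subgroup.mem_centralizer_iff.mp hy.2 _ hx.1
  -- automorphisms
  have hcoe : ∀ (g : ↥(Subgroup.normalizer (S : Set G))) (v : ↥S),
      ((S.normalizerMonoidHom g v : ↥S) : G) = (g : G) * v * (g : G)⁻¹ := fun g v => rfl
  have hexp : ∀ v : ↥S, v ^ p = 1 := by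
    apply abs_pow_eq_one p hp.pos (S.normalizerMonoidHom ⟨a, haS⟩) (S.normalizerMonoidHom ⟨c, hcS⟩)
    · rw [← map_mul, ← map_mul]
      congr 1
      exact Subtype.ext hac
    · rw [← map_pow]
      have h1 : (⟨a, haS⟩ : ↥(Subgroup.normalizer (S : Set G))) ^ p = 1 := Subtype.ext hap
      rw [h1, map_one]
    · rw [← map_pow]
      have h1 : (⟨c, hcS⟩ : ↥(Subgroup.normalizer (S : Set G))) ^ p = 1 := Subtype.ext hcp
      rw [h1, map_one]
    · intro k v hv
      rw [← map_pow, ← map_mul] at hv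
      have h1 := congrArg Subtype.val hv
      rw [hcoe] at h1
      apply Subtype.ext
      apply hfix 1 k (fun h => hp1 h.1) v.1 (hRK (hSR v.2))
      rw [pow_one]
      have h2 : (((⟨a, haS⟩ : ↥(Subgroup.normalizer (S : Set G))) * ⟨c, hcS⟩ ^ k :
          ↥(Subgroup.normalizer (S : Set G))) : G) = a * c ^ k := rfl
      rw [h2] at h1
      calc a * c ^ k * (v : G) = a * c ^ k * (v : G) * (a * c ^ k)⁻¹ * (a * c ^ k) := by group
        _ = (v : G) * (a * c ^ k) := by rw [h1]
    · intro i hi0 hip v hv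
      rw [← map_pow] at hv
      have h1 := congrArg Subtype.val hv
      rw [hcoe] at h1
      apply Subtype.ext
      apply hfix 0 i (fun h => by
        have := Nat.le_of_dvd hi0 h.2
        omega) v.1 (hRK (hSR v.2))
      rw [pow_zero, one_mul]
      have h2 : (((⟨c, hcS⟩ : ↥(Subgroup.normalizer (S : Set G))) ^ i :
          ↥(Subgroup.normalizer (S : Set G))) : G) = c ^ i := rfl
      rw [h2] at h1
      calc c ^ i * (v : G) = c ^ i * (v : G) * (c ^ i)⁻¹ * (c ^ i) := by group
        _ = (v : G) * c ^ i := by rw [h1]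
  -- S is an r-group of exponent p, hence trivial
  apply hSne
  rw [eq_bot_iff]
  intro v hv
  rw [Subgroup.mem_bot]
  have h1 : (⟨v, hv⟩ : ↥S) ^ p = 1 := hexp ⟨v, hv⟩
  have h2 : v ^ p = 1 := congrArg Subtype.val h1
  obtain ⟨k, hk⟩ := (hRr.to_le hSR) ⟨v, hv⟩
  have h3 : v ^ (r ^ k) = 1 := congrArg Subtype.val hk
  have h4 : orderOf v ∣ Nat.gcd p (r ^ k) :=
    Nat.dvd_gcd (orderOf_dvd_of_pow_eq_one h2) (orderOf_dvd_of_pow_eq_one h3)
  have hcop : Nat.Coprime p (r ^ k) :=
    Nat.Coprime.pow_right k ((Nat.coprime_primes hp hr).mpr (Ne.symm hrp))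
  rw [hcop.gcd_eq_one] at h4
  exact orderOf_eq_one_iff.mp (Nat.dvd_one.mp h4)

end inG

end Cfsg.Agent.Lib.Helper95.FrobCompl
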