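/-
Recognition of `SL(2,3)`: a group generated by a quaternion group of order 8 and an element of
order 3 acting non-trivially on it is isomorphic to `SL₂(𝔽₃)`; section version included.
-/
import Mathlib
import Cfsg.Agent.Lib.Helper5.PSL2

set_option autoImplicit false

namespace Cfsg.Agent.Lib.Helper95.SL23

open QuaternionGroup

section pow

variable {G : Type*} [Group G]

/-- exponent arithmetic modulo `n` for an element with `x ^ n = 1`. -/
lemma pow_val_add {n : ℕ} [NeZero n] {x : G} (hx : x ^ n = 1) (k l : ZMod n) :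
    x ^ (k + l).val = x ^ k.val * x ^ l.val := by
  rw [ZMod.val_add, ← pow_add]
  conv_rhs => rw [← Nat.mod_add_div (k.val + l.val) n]
  rw [pow_add, pow_mul, hx, one_pow, mul_one]

lemma pow_val_neg {n : ℕ} [NeZero n] {x : G} (hx : x ^ n = 1) (k : ZMod n) :
    x ^ (-k).val = (x ^ k.val)⁻¹ := by
  have h := pow_val_add hx k (-k)
  rw [add_neg_cancel, ZMod.val_zero, pow_zero] at h
  exact eq_inv_of_mul_eq_one_right h.symm

lemma pow_val_sub {n : ℕ} [NeZero n] {x : G} (hx : x ^ n = 1) (k l : ZMod n) :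
    x ^ (k - l).val = x ^ k.val * (x ^ l.val)⁻¹ := by
  rw [sub_eq_add_neg, pow_val_add hx, pow_val_neg hx]

/-- the hom from the cyclic group `ZMod n` determined by an element with `x ^ n = 1`. -/
def powHom (n : ℕ) [NeZero n] (x : G) (hx : x ^ n = 1) : Multiplicative (ZMod n) →* G :=
  MonoidHom.mk' (fun c => x ^ (Multiplicative.toAdd c).val) (by
    intro c d
    exact pow_val_add hx _ _)

lemma powHom_apply (n : ℕ) [NeZero n] (x : G) (hx : x ^ n = 1) (c : Multiplicative (ZMod n)) :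
    powHom n x hx c = x ^ (Multiplicative.toAdd c).val := rfl

/-- the map from `Q₈` determined by two elements. -/
def q8Fun (i j : G) : QuaternionGroup 2 → G
  | a k => i ^ k.val
  | xa k => j * i ^ k.val

lemma q8Fun_a (i j : G) (k : ZMod (2 * 2)) : q8Fun i j (a k) = i ^ k.val := by
  rw [q8Fun]

lemma q8Fun_xa (i j : G) (k : ZMod (2 * 2)) : q8Fun i j (xa k) = j * i ^ k.val := by
  rw [q8Fun]

lemma q8Fun_mul (i j : G) (h4 : i ^ 4 = 1) (h2 : j ^ 2 = i ^ 2) (hc : j * i * j⁻¹ = i⁻¹)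
    (p q : QuaternionGroup 2) : q8Fun i j (p * q) = q8Fun i j p * q8Fun i j q := by
  have h4' : i ^ (2 * 2) = 1 := h4
  have hA : ∀ m : ℕ, i ^ m * j = j * (i ^ m)⁻¹ := by
    intro m
    have h1 : j * i ^ m * j⁻¹ = (i ^ m)⁻¹ := by
      rw [← conj_pow, hc, inv_pow]
    have h2 : j * (i ^ m)⁻¹ * j⁻¹ = i ^ m := by
      have h3 := congrArg (fun w => w⁻¹) h1
      simp only [mul_inv_rev, inv_inv] at h3
      rw [mul_assoc]
      exact h3
    calc i ^ m * j = (j * (i ^ m)⁻¹ * j⁻¹) * j := by rw [h2]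
      _ = j * (i ^ m)⁻¹ := by group
  have hcomm : ∀ m m' : ℕ, i ^ m * (i ^ m')⁻¹ = (i ^ m')⁻¹ * i ^ m := fun m m' =>
    ((Commute.refl i).pow_pow m m').inv_right.eq
  rcases p with k | k <;> rcases q with l | l
  · rw [a_mul_a]
    exact pow_val_add h4' k l
  · rw [a_mul_xa]
    show j * i ^ (l - k).val = i ^ k.val * (j * i ^ l.val)
    rw [pow_val_sub h4', ← mul_assoc (i ^ k.val), hA, mul_assoc, hcomm]
  · rw [xa_mul_a]
    show j * i ^ (k + l).val = j * i ^ k.val * i ^ l.val
    rw [pow_val_add h4', mul_assoc]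
  · rw [xa_mul_xa]
    show i ^ ((2 : ℕ) + l - k : ZMod (2 * 2)).val = j * i ^ k.val * (j * i ^ l.val)
    have e1 : i ^ ((2 : ℕ) + l - k : ZMod (2 * 2)).val = i ^ 2 * i ^ l.val * (i ^ k.val)⁻¹ := by
      rw [pow_val_sub h4', pow_val_add h4']
      rfl
    have e3 : j * i ^ k.val * (j * i ^ l.val) = j * (i ^ k.val * j) * i ^ l.val := by group
    rw [e1, e3, hA, ← h2, mul_assoc (j ^ 2), hcomm, pow_two]
    group

/-- the hom from `Q₈` determined by two elements satisfying the quaternion relations. -/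
def q8Hom (i j : G) (h4 : i ^ 4 = 1) (h2 : j ^ 2 = i ^ 2) (hc : j * i * j⁻¹ = i⁻¹) :
    QuaternionGroup 2 →* G :=
  MonoidHom.mk' (q8Fun i j) (q8Fun_mul i j h4 h2 hc)

lemma q8Hom_apply (i j : G) (h4 : i ^ 4 = 1) (h2 : j ^ 2 = i ^ 2) (hc : j * i * j⁻¹ = i⁻¹)
    (q : QuaternionGroup 2) : q8Hom i j h4 h2 hc q = q8Fun i j q := rfl

/-- every hom out of `Q₈` is of the form `q8Fun`. -/
lemma hom_eq_q8Fun (f : QuaternionGroup 2 →* G) (q : QuaternionGroup 2) :
    f q = q8Fun (f (a 1)) (f (xa 0)) q := by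
  rcases q with k | k
  · show f (a k) = f (a 1) ^ k.val
    rw [← map_pow, a_one_pow, ZMod.natCast_zmod_val]
  · show f (xa k) = f (xa 0) * f (a 1) ^ k.val
    rw [← map_pow, a_one_pow, ZMod.natCast_zmod_val, ← map_mul, xa_mul_a, zero_add]

lemma hom_ext_q8 {f g : QuaternionGroup 2 →* G} (h1 : f (a 1) = g (a 1))
    (h2 : f (xa 0) = g (xa 0)) : f = g := by
  ext q
  rw [hom_eq_q8Fun f, hom_eq_q8Fun g, h1, h2]

end pow

section model

lemma phi_rel1 : (xa 0 : QuaternionGroup 2) ^ 4 = 1 := by decide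
lemma phi_rel2 : (xa 3 : QuaternionGroup 2) ^ 2 = (xa 0) ^ 2 := by decide
lemma phi_rel3 : (xa 3 : QuaternionGroup 2) * xa 0 * (xa 3)⁻¹ = (xa 0)⁻¹ := by decide

/-- the model automorphism of order 3 of `Q₈`, as a hom: `a 1 ↦ xa 0`, `xa 0 ↦ xa 3`. -/
def phiHom : QuaternionGroup 2 →* QuaternionGroup 2 :=
  q8Hom (xa 0) (xa 3) phi_rel1 phi_rel2 phi_rel3

lemma phiHom_cube : ∀ q : QuaternionGroup 2, phiHom (phiHom (phiHom q)) = q := by decide

/-- the model automorphism of order 3 of `Q₈`. -/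
def phiAut : MulAut (QuaternionGroup 2) :=
  { toFun := phiHom
    invFun := fun q => phiHom (phiHom q)
    left_inv := fun q => phiHom_cube q
    right_inv := fun q => phiHom_cube q
    map_mul' := phiHom.map_mul }

lemma phiAut_apply (q : QuaternionGroup 2) : phiAut q = phiHom q := rfl

lemma phiAut_pow_three : phiAut ^ 3 = 1 := by
  ext q
  simp only [pow_succ, pow_zero, one_mul, MulAut.mul_apply, MulAut.one_apply]
  exact phiHom_cube q

/-- the action of `C₃` on `Q₈` in the model. -/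
def phiAct : Multiplicative (ZMod 3) →* MulAut (QuaternionGroup 2) :=
  powHom 3 phiAut phiAut_pow_three

/-- the model of `SL(2,3)`: `Q₈ ⋊ C₃`. -/
abbrev Model := QuaternionGroup 2 ⋊[phiAct] Multiplicative (ZMod 3)

lemma card_model : Nat.card Model = 24 := by
  rw [SemidirectProduct.card, Nat.card_eq_fintype_card, QuaternionGroup.card,
    Nat.card_eq_fintype_card, Fintype.card_multiplicative, ZMod.card]

variable {G : Type*} [Group G]

/-- The quaternion--order-3 relations for a triple `(i, j, y)`. -/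
structure Rels (i j y : G) : Prop where
  h4 : i ^ 4 = 1
  h2 : j ^ 2 = i ^ 2
  hc : j * i * j⁻¹ = i⁻¹
  hy3 : y ^ 3 = 1
  h5 : y * i * y⁻¹ = j
  h6 : y * j * y⁻¹ = i * j

variable {i j y : G}

lemma Rels.compat_one (h : Rels i j y) (q : QuaternionGroup 2) :
    q8Hom i j h.h4 h.h2 h.hc (phiAut q) = y * q8Hom i j h.h4 h.h2 h.hc q * y⁻¹ := by
  have key : (q8Hom i j h.h4 h.h2 h.hc).comp phiAut.toMonoidHom =
      (MulAut.conj y).toMonoidHom.comp (q8Hom i j h.h4 h.h2 h.hc) := by
    apply hom_ext_q8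
    · show q8Fun i j (xa 0) = y * q8Fun i j (a 1) * y⁻¹
      show j * i ^ 0 = y * i ^ 1 * y⁻¹
      rw [pow_zero, mul_one, pow_one, h.h5]
    · show q8Fun i j (xa 3) = y * q8Fun i j (xa 0) * y⁻¹
      show j * i ^ 3 = y * (j * i ^ 0) * y⁻¹
      rw [pow_zero, mul_one, h.h6]
      have h1 : j * i ^ 3 * j⁻¹ = i := by
        rw [← conj_pow, h.hc, inv_pow]
        exact inv_eq_of_mul_eq_one_left (by rw [← pow_succ']; exact h.h4)
      exact mul_inv_eq_iff_eq_mul.mp h1
  exact DFunLike.congr_fun key q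

lemma Rels.compat_pow (h : Rels i j y) (n : ℕ) (q : QuaternionGroup 2) :
    q8Hom i j h.h4 h.h2 h.hc ((phiAut ^ n) q) =
      y ^ n * q8Hom i j h.h4 h.h2 h.hc q * (y ^ n)⁻¹ := by
  induction n generalizing q with
  | zero => simp
  | succ n ih =>
    rw [pow_succ, MulAut.mul_apply, ih, h.compat_one, pow_succ]
    group

/-- the hom from the model to a group with a triple satisfying the relations. -/
noncomputable def Rels.lift (h : Rels i j y) : Model →* G :=
  SemidirectProduct.lift (q8Hom i j h.h4 h.h2 h.hc) (powHom 3 y h.hy3) (by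
    intro g
    ext q
    simp only [MonoidHom.comp_apply, MulEquiv.coe_toMonoidHom, MulAut.conj_apply]
    exact h.compat_pow _ q)

lemma Rels.lift_apply (h : Rels i j y) (x : Model) :
    h.lift x = q8Fun i j x.left * y ^ (Multiplicative.toAdd x.right).val := by
  conv_lhs => rw [← SemidirectProduct.inl_left_mul_inr_right x]
  rw [map_mul]
  unfold Rels.lift
  rw [SemidirectProduct.lift_inl, SemidirectProduct.lift_inr]
  rfl

lemma Rels.lift_injective (h : Rels i j y) (hi2 : i ^ 2 ≠ 1) (hy : y ≠ 1) :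
    Function.Injective h.lift := by
  rw [injective_iff_map_eq_one]
  intro x hx
  rw [h.lift_apply] at hx
  have hq4 : ∀ q : QuaternionGroup 2, q ^ 4 = 1 := by decide
  have h1 : (q8Fun i j x.left) ^ 4 = 1 := by
    rw [← q8Hom_apply i j h.h4 h.h2 h.hc, ← map_pow, hq4, map_one]
  set w := y ^ (Multiplicative.toAdd x.right).val with hw
  have h2 : w ^ 3 = 1 := by
    rw [hw, ← pow_mul, mul_comm, pow_mul, h.hy3, one_pow]
  have h3 : q8Fun i j x.left = w⁻¹ := eq_inv_of_mul_eq_one_left hx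
  have h4 : w = 1 := by
    rw [h3, inv_pow, inv_eq_one] at h1
    calc w = w ^ 4 * (w ^ 3)⁻¹ := by group
      _ = 1 := by rw [h1, h2, inv_one, mul_one]
  have hr : x.right = 1 := by
    have hlt : (Multiplicative.toAdd x.right).val < 3 := ZMod.val_lt _
    have h0 : (Multiplicative.toAdd x.right).val = 0 := by
      by_contra hne
      have h12 : (Multiplicative.toAdd x.right).val = 1 ∨
          (Multiplicative.toAdd x.right).val = 2 := by omega
      rcases h12 with h' | h'
      · rw [hw, h', pow_one] at h4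
        exact hy h4
      · rw [hw, h'] at h4
        apply hy
        calc y = y ^ 3 * (y ^ 2)⁻¹ := by group
          _ = 1 := by rw [h.hy3, h4, inv_one, mul_one]
    have h0' : Multiplicative.toAdd x.right = 0 := (ZMod.val_eq_zero _).mp h0
    exact Multiplicative.toAdd.injective h0'
  have hl : x.left = 1 := by
    rw [h4, inv_one] at h3
    have hi1 : i ≠ 1 := by
      intro h'
      rw [h', one_pow] at hi2
      exact hi2 rfl
    rcases hxl : x.left with k | k
    · rw [hxl] at h3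
      have h3' : i ^ k.val = 1 := h3
      have hlt : k.val < 4 := ZMod.val_lt k
      have h0 : k.val = 0 := by
        by_contra hne
        have h123 : k.val = 1 ∨ k.val = 2 ∨ k.val = 3 := by omega
        rcases h123 with h' | h' | h'
        · rw [h', pow_one] at h3'
          exact hi1 h3'
        · rw [h'] at h3'
          exact hi2 h3'
        · rw [h'] at h3'
          apply hi1
          calc i = i ^ 4 * (i ^ 3)⁻¹ := by group
            _ = 1 := by rw [h.h4, h3', inv_one, mul_one]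
      have h0' : k = 0 := (ZMod.val_eq_zero _).mp h0
      rw [h0']
      rfl
    · exfalso
      rw [hxl] at h3
      have h3' : j * i ^ k.val = 1 := h3
      have hj : j = (i ^ k.val)⁻¹ := eq_inv_of_mul_eq_one_left h3'
      have hcomm : j * i * j⁻¹ = i := by
        rw [hj, inv_inv]
        have := ((Commute.refl i).pow_right k.val).eq
        calc (i ^ k.val)⁻¹ * i * i ^ k.val = (i ^ k.val)⁻¹ * (i * i ^ k.val) := by group
          _ = (i ^ k.val)⁻¹ * (i ^ k.val * i) := by rw [this]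
          _ = i := by group
      rw [h.hc] at hcomm
      apply hi2
      calc i ^ 2 = i * i := pow_two i
        _ = i⁻¹ * i := by rw [hcomm]
        _ = 1 := inv_mul_cancel i
  exact SemidirectProduct.ext hl hr

/-- A group generated by a triple satisfying the relations is isomorphic to the model. -/
theorem Rels.nonempty_mulEquiv_of_closure (h : Rels i j y) (hi2 : i ^ 2 ≠ 1) (hy : y ≠ 1)
    (hgen : Subgroup.closure {i, j, y} = ⊤) : Nonempty (Model ≃* G) := by
  have hsurj : Function.Surjective h.lift := by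
    rw [← MonoidHom.range_eq_top, eq_top_iff, ← hgen, Subgroup.closure_le]
    intro g hg
    rcases hg with rfl | rfl | rfl
    · refine ⟨SemidirectProduct.inl (a 1), ?_⟩
      rw [h.lift_apply]
      show g ^ 1 * y ^ 0 = g
      rw [pow_one, pow_zero, mul_one]
    · refine ⟨SemidirectProduct.inl (xa 0), ?_⟩
      rw [h.lift_apply]
      show g * i ^ 0 * y ^ 0 = g
      rw [pow_zero, pow_zero, mul_one, mul_one]
    · refine ⟨SemidirectProduct.inr (Multiplicative.ofAdd 1), ?_⟩
      rw [h.lift_apply]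
      show i ^ 0 * g ^ 1 = g
      rw [pow_zero, pow_one, one_mul]
  exact ⟨MulEquiv.ofBijective h.lift ⟨h.lift_injective hi2 hy, hsurj⟩⟩

/-- A group of order 24 with a triple satisfying the relations is isomorphic to the model. -/
theorem Rels.nonempty_mulEquiv_of_card (h : Rels i j y) (hi2 : i ^ 2 ≠ 1) (hy : y ≠ 1)
    (hcard : Nat.card G = 24) : Nonempty (Model ≃* G) := by
  have : Finite G := Nat.finite_of_card_ne_zero (by rw [hcard]; norm_num)
  have hbij : Function.Bijective h.lift :=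
    (Nat.bijective_iff_injective_and_card _).mpr
      ⟨h.lift_injective hi2 hy, by rw [card_model, hcard]⟩
  exact ⟨MulEquiv.ofBijective h.lift hbij⟩

end model

section sl23

open Matrix

/-- `SL₂(𝔽₃)`. -/
abbrev S := Matrix.SpecialLinearGroup (Fin 2) (ZMod 3)

/-- generators of `SL₂(𝔽₃)`. -/
def I3 : S := ⟨!![0, 1; -1, 0], by decide⟩
/-- generators of `SL₂(𝔽₃)`. -/
def J3 : S := ⟨!![1, 1; 1, -1], by decide⟩
/-- generators of `SL₂(𝔽₃)`. -/
def Y3 : S := ⟨!![0, 1; -1, -1], by decide⟩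

lemma rels_SL23 : Rels I3 J3 Y3 where
  h4 := by decide
  h2 := by decide
  hc := by
    have h : I3 * J3 * I3 = J3 := by decide
    rw [mul_inv_eq_iff_eq_mul, eq_inv_mul_iff_mul_eq, ← mul_assoc]
    exact h
  hy3 := by decide
  h5 := by
    have h : Y3 * I3 = J3 * Y3 := by decide
    rw [h, mul_inv_cancel_right]
  h6 := by
    have h : Y3 * J3 = I3 * J3 * Y3 := by decide
    rw [h, mul_inv_cancel_right]

lemma card_SL23 : Nat.card S = 24 := by
  rw [Cfsg.Agent.Lib.Helper5.card_SL2, ZMod.card]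
  rfl

/-- The model `Q₈ ⋊ C₃` is isomorphic to `SL₂(𝔽₃)`. -/
theorem nonempty_model_mulEquiv_SL23 : Nonempty (Model ≃* S) :=
  rels_SL23.nonempty_mulEquiv_of_card (by decide) (by decide) card_SL23

/-- A group generated by a triple satisfying the relations is isomorphic to `SL₂(𝔽₃)`. -/
theorem Rels.nonempty_mulEquiv_SL23 {G : Type*} [Group G] {i j y : G} (h : Rels i j y)
    (hi2 : i ^ 2 ≠ 1) (hy : y ≠ 1) (hgen : Subgroup.closure {i, j, y} = ⊤) :
    Nonempty (G ≃* S) := by
  obtain ⟨e1⟩ := h.nonempty_mulEquiv_of_closure hi2 hy hgen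
  obtain ⟨e2⟩ := nonempty_model_mulEquiv_SL23
  exact ⟨e1.symm.trans e2⟩

/-- Quotient version: relations holding modulo a normal subgroup `K` (only `y ^ 3 ∈ K` is
needed modulo `K`). -/
theorem nonempty_quotient_mulEquiv_SL23 {L : Type*} [Group L] (K : Subgroup L) [K.Normal]
    (i j y : L) (h4 : i ^ 4 = 1) (h2 : j ^ 2 = i ^ 2) (hc : j * i * j⁻¹ = i⁻¹)
    (h5 : y * i * y⁻¹ = j) (h6 : y * j * y⁻¹ = i * j) (hy3 : y ^ 3 ∈ K) (hi2 : i ^ 2 ∉ K)
    (hy : y ∉ K) (hgen : Subgroup.closure {i, j, y} = ⊤) : Nonempty (L ⧸ K ≃* S) := by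
  have hrel : Rels (QuotientGroup.mk' K i) (QuotientGroup.mk' K j) (QuotientGroup.mk' K y) :=
    { h4 := by rw [← map_pow, h4, map_one]
      h2 := by rw [← map_pow, h2, map_pow]
      hc := by rw [← map_inv, ← map_mul, ← map_mul, hc, map_inv]
      hy3 := by
        rw [← map_pow]
        exact (QuotientGroup.eq_one_iff _).mpr hy3
      h5 := by rw [← map_inv, ← map_mul, ← map_mul, h5]
      h6 := by rw [← map_inv, ← map_mul, ← map_mul, h6, map_mul] }
  apply hrel.nonempty_mulEquiv_SL23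
  · rw [← map_pow]
    intro h
    exact hi2 ((QuotientGroup.eq_one_iff _).mp h)
  · intro h
    exact hy ((QuotientGroup.eq_one_iff _).mp h)
  · have h1 : (Subgroup.closure {i, j, y}).map (QuotientGroup.mk' K) = ⊤ := by
      rw [hgen]
      exact Subgroup.map_top_of_surjective _ (QuotientGroup.mk'_surjective K)
    rw [MonoidHom.map_closure] at h1
    rw [← h1]
    congr 1
    ext x
    simp only [Set.mem_insert_iff, Set.mem_singleton_iff, Set.mem_image]
    constructor
    · rintro (rfl | rfl | rfl)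
      · exact ⟨i, Or.inl rfl, rfl⟩
      · exact ⟨j, Or.inr (Or.inl rfl), rfl⟩
      · exact ⟨y, Or.inr (Or.inr rfl), rfl⟩
    · rintro ⟨z, (rfl | rfl | rfl), rfl⟩
      · exact Or.inl rfl
      · exact Or.inr (Or.inl rfl)
      · exact Or.inr (Or.inr rfl)

end sl23

section recognition

set_option maxRecDepth 100000 in
lemma exists_adapted : ∀ s t : QuaternionGroup 2,
    (∀ p q, q8Fun s t (p * q) = q8Fun s t p * q8Fun s t q) →
    (∀ q, q8Fun s t (q8Fun s t (q8Fun s t q)) = q) →
    (∃ q, q8Fun s t q ≠ q) →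
    ∃ u : QuaternionGroup 2, u ^ 4 = 1 ∧ (q8Fun s t u) ^ 2 = u ^ 2 ∧
      q8Fun s t u * u * (q8Fun s t u)⁻¹ = u⁻¹ ∧ q8Fun s t (q8Fun s t u) = u * q8Fun s t u ∧
      u ^ 2 ≠ 1 ∧ ∀ q : QuaternionGroup 2, ∃ l : Fin 2, ∃ k : Fin 4,
        q = (q8Fun s t u) ^ (l : ℕ) * u ^ (k : ℕ) := by
  decide +kernel

set_option maxRecDepth 100000 in
lemma cube_or_fourth : ∀ s t : QuaternionGroup 2,
    (∀ p q, q8Fun s t (p * q) = q8Fun s t p * q8Fun s t q) →
    (∀ q, q8Fun s t q = 1 → q = 1) →
    (∀ q, q8Fun s t (q8Fun s t (q8Fun s t q)) = q) ∨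
      (∀ q, q8Fun s t (q8Fun s t (q8Fun s t (q8Fun s t q))) = q) := by
  decide +kernel

variable {G : Type*} [Group G]

/-- conjugation by `y` on `H ≃ Q₈`, transported to `Q₈`. -/
noncomputable def transport (H : Subgroup G) (e : H ≃* QuaternionGroup 2) (y : G)
    (hyN : ∀ h ∈ H, y * h * y⁻¹ ∈ H) : QuaternionGroup 2 →* QuaternionGroup 2 :=
  MonoidHom.mk' (fun q => e ⟨y * (e.symm q : G) * y⁻¹, hyN _ (e.symm q).2⟩) (by
    intro p q
    rw [← map_mul]
    congr 1
    apply Subtype.ext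
    simp only [map_mul, Subgroup.coe_mul]
    group)

lemma coe_symm_transport (H : Subgroup G) (e : H ≃* QuaternionGroup 2) (y : G)
    (hyN : ∀ h ∈ H, y * h * y⁻¹ ∈ H) (q : QuaternionGroup 2) :
    ((e.symm (transport H e y hyN q) : H) : G) = y * (e.symm q : G) * y⁻¹ := by
  show ((e.symm (e ⟨y * (e.symm q : G) * y⁻¹, hyN _ (e.symm q).2⟩) : H) : G) = _
  rw [MulEquiv.symm_apply_apply]

lemma transport_injective (H : Subgroup G) (e : H ≃* QuaternionGroup 2) (y : G)
    (hyN : ∀ h ∈ H, y * h * y⁻¹ ∈ H) : Function.Injective (transport H e y hyN) := by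
  intro p q hpq
  have h1 := coe_symm_transport H e y hyN p
  have h2 := coe_symm_transport H e y hyN q
  rw [hpq, h2] at h1
  have h3 : (e.symm q : G) = (e.symm p : G) := mul_left_cancel (mul_right_cancel h1)
  exact (e.symm.injective (Subtype.ext h3)).symm

/-- If `y ^ 3` centralizes `H ≃ Q₈` and `y` normalizes but does not centralize `H`, then `H`
has generators `i, j` adapted to `y`. -/
theorem exists_adapted_pair (H : Subgroup G) (e : H ≃* QuaternionGroup 2) (y : G)
    (hyN : ∀ h ∈ H, y * h * y⁻¹ ∈ H) (hy3 : ∀ h ∈ H, y ^ 3 * h * (y ^ 3)⁻¹ = h)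
    (hyC : ∃ h ∈ H, y * h * y⁻¹ ≠ h) :
    ∃ i j : G, i ∈ H ∧ j ∈ H ∧ i ^ 4 = 1 ∧ j ^ 2 = i ^ 2 ∧ j * i * j⁻¹ = i⁻¹ ∧
      y * i * y⁻¹ = j ∧ y * j * y⁻¹ = i * j ∧ i ^ 2 ≠ 1 ∧ H ≤ Subgroup.closure {i, j} := by
  set α := transport H e y hyN with hα
  have hαq : ∀ q, α q = q8Fun (α (a 1)) (α (xa 0)) q := hom_eq_q8Fun α
  have hc := coe_symm_transport H e y hyN
  have hyp1 : ∀ p q, q8Fun (α (a 1)) (α (xa 0)) (p * q) =
      q8Fun (α (a 1)) (α (xa 0)) p * q8Fun (α (a 1)) (α (xa 0)) q := by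
    intro p q
    rw [← hαq, ← hαq, ← hαq, map_mul]
  have hyp2 : ∀ q, q8Fun (α (a 1)) (α (xa 0)) (q8Fun (α (a 1)) (α (xa 0))
      (q8Fun (α (a 1)) (α (xa 0)) q)) = q := by
    intro q
    rw [← hαq, ← hαq, ← hαq]
    apply e.symm.injective
    apply Subtype.ext
    rw [hc, hc, hc]
    have h := hy3 _ (e.symm q).2
    have h3 : y ^ 3 = y * y * y := by rw [pow_succ, pow_two]
    rw [h3] at h
    calc y * (y * (y * (e.symm q : G) * y⁻¹) * y⁻¹) * y⁻¹
        = y * y * y * (e.symm q : G) * (y * y * y)⁻¹ := by group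
      _ = (e.symm q : G) := h
  have hyp3 : ∃ q, q8Fun (α (a 1)) (α (xa 0)) q ≠ q := by
    obtain ⟨h, hh, hne⟩ := hyC
    refine ⟨e ⟨h, hh⟩, ?_⟩
    rw [← hαq]
    intro heq
    have h1 := hc (e ⟨h, hh⟩)
    rw [heq, MulEquiv.symm_apply_apply] at h1
    exact hne h1.symm
  obtain ⟨u, hu4, hu2, huc, hu6, hune, hugen⟩ := exists_adapted _ _ hyp1 hyp2 hyp3
  rw [← hαq] at hu2 huc hugen
  rw [← hαq, ← hαq] at hu6
  have hj : ((e.symm (α u) : H) : G) = y * (e.symm u : G) * y⁻¹ := hc u
  refine ⟨(e.symm u : G), (e.symm (α u) : G), (e.symm u).2, (e.symm (α u)).2, ?_, ?_, ?_, ?_, ?_,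
    ?_, ?_⟩
  · rw [← Subgroup.coe_pow, ← map_pow, hu4, map_one, Subgroup.coe_one]
  · rw [← Subgroup.coe_pow, ← map_pow, hu2, map_pow, Subgroup.coe_pow]
  · have h := congrArg (fun q => ((e.symm q : H) : G)) huc
    simpa only [map_mul, map_inv, Subgroup.coe_mul, Subgroup.coe_inv] using h
  · exact hj.symm
  · have h := congrArg (fun q => ((e.symm q : H) : G)) hu6
    simp only [map_mul, Subgroup.coe_mul] at h
    rw [← h]
    exact (hc (α u)).symm
  · intro h
    apply hune
    apply e.symm.injective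
    apply Subtype.ext
    rw [map_pow, Subgroup.coe_pow, h, map_one, Subgroup.coe_one]
  · intro h hh
    obtain ⟨l, k, hlk⟩ := hugen (e ⟨h, hh⟩)
    have h1 := congrArg (fun q => ((e.symm q : H) : G)) hlk
    simp only [MulEquiv.symm_apply_apply, map_mul, map_pow, Subgroup.coe_mul,
      Subgroup.coe_pow] at h1
    rw [h1]
    apply Subgroup.mul_mem
    · exact Subgroup.pow_mem _ (Subgroup.subset_closure (by simp)) _
    · exact Subgroup.pow_mem _ (Subgroup.subset_closure (by simp)) _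

/-- An odd-order element normalizing but not centralizing `H ≃ Q₈` has its cube centralizing
`H`. -/
theorem cube_centralizes (H : Subgroup G) (e : H ≃* QuaternionGroup 2) (y : G)
    (hyN : ∀ h ∈ H, y * h * y⁻¹ ∈ H) (hodd : Odd (orderOf y)) :
    ∀ h ∈ H, y ^ 3 * h * (y ^ 3)⁻¹ = h := by
  set α := transport H e y hyN with hα
  have hαq : ∀ q, α q = q8Fun (α (a 1)) (α (xa 0)) q := hom_eq_q8Fun α
  have hc := coe_symm_transport H e y hyN
  have hyp1 : ∀ p q, q8Fun (α (a 1)) (α (xa 0)) (p * q) =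
      q8Fun (α (a 1)) (α (xa 0)) p * q8Fun (α (a 1)) (α (xa 0)) q := by
    intro p q
    rw [← hαq, ← hαq, ← hαq, map_mul]
  have hyp2 : ∀ q, q8Fun (α (a 1)) (α (xa 0)) q = 1 → q = 1 := by
    intro q hq
    rw [← hαq] at hq
    apply transport_injective H e y hyN
    rw [← hα, hq, map_one]
  have key : ∀ q : QuaternionGroup 2, ∀ n : ℕ,
      ((e.symm (α^[n] q) : H) : G) = y ^ n * (e.symm q : G) * (y ^ n)⁻¹ := by
    intro q n
    induction n with
    | zero => simp
    | succ n ih =>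
      rw [Function.iterate_succ_apply', hc, ih, pow_succ']
      group
  rcases cube_or_fourth _ _ hyp1 hyp2 with h3 | h4
  · intro h hh
    have h1 := key (e ⟨h, hh⟩) 3
    have h2 := h3 (e ⟨h, hh⟩)
    rw [← hαq, ← hαq, ← hαq] at h2
    have h5 : α^[3] (e ⟨h, hh⟩) = e ⟨h, hh⟩ := h2
    rw [h5, MulEquiv.symm_apply_apply] at h1
    exact h1.symm
  · -- `y ^ 4` centralizes `H`, hence so does `y`
    have hcent4 : ∀ h ∈ H, y ^ 4 * h * (y ^ 4)⁻¹ = h := by
      intro h hh
      have h1 := key (e ⟨h, hh⟩) 4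
      have h2 := h4 (e ⟨h, hh⟩)
      rw [← hαq, ← hαq, ← hαq, ← hαq] at h2
      have h5 : α^[4] (e ⟨h, hh⟩) = e ⟨h, hh⟩ := h2
      rw [h5, MulEquiv.symm_apply_apply] at h1
      exact h1.symm
    have hmem4 : y ^ 4 ∈ Subgroup.centralizer (H : Set G) := by
      rw [Subgroup.mem_centralizer_iff]
      intro h hh
      have := hcent4 h hh
      rw [mul_inv_eq_iff_eq_mul] at this
      exact this.symm
    have hcop : (orderOf y).Coprime 4 := by
      have : (orderOf y).Coprime 2 := Nat.Coprime.symm (Nat.coprime_two_left.mpr hodd)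
      exact Nat.Coprime.pow_right 2 this
    have hmem : y ∈ Subgroup.centralizer (H : Set G) := by
      by_cases h1 : orderOf y = 1
      · rw [orderOf_eq_one_iff.mp h1]
        exact Subgroup.one_mem _
      · have hpos : 0 < orderOf y := hodd.pos
        have hgt : 1 < orderOf y := by omega
        obtain ⟨m, -, hm⟩ := Nat.exists_mul_mod_eq_one_of_coprime hcop.symm hgt
        have h2 : y = (y ^ 4) ^ m := by
          rw [← pow_mul, ← pow_mod_orderOf, hm, pow_one]
        rw [h2]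
        exact Subgroup.pow_mem _ hmem4 m
    have hmem3 : y ^ 3 ∈ Subgroup.centralizer (H : Set G) := Subgroup.pow_mem _ hmem 3
    intro h hh
    rw [Subgroup.mem_centralizer_iff] at hmem3
    rw [mul_inv_eq_iff_eq_mul]
    exact (hmem3 h hh).symm

/-- **Recognition of `SL₂(𝔽₃)`**: a group generated by a subgroup `Q ≃ Q₈` and an element `y`
with `y ^ 3 = 1` normalizing but not centralizing `Q` is isomorphic to `SL₂(𝔽₃)`. -/
theorem nonempty_mulEquiv_SL23 {X : Type*} [Group X] (Q : Subgroup X)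
    (e : Q ≃* QuaternionGroup 2) (y : X) (hy3 : y ^ 3 = 1) (hyN : ∀ h ∈ Q, y * h * y⁻¹ ∈ Q)
    (hyC : ∃ h ∈ Q, y * h * y⁻¹ ≠ h) (hgen : Q ⊔ Subgroup.zpowers y = ⊤) :
    Nonempty (X ≃* S) := by
  obtain ⟨i, j, hi, hj, h4, h2, hc, h5, h6, hi2, hcl⟩ :=
    exists_adapted_pair Q e y hyN (by intro h hh; rw [hy3]; simp) hyC
  have hrel : Rels i j y := ⟨h4, h2, hc, hy3, h5, h6⟩
  apply hrel.nonempty_mulEquiv_SL23 hi2
  · rintro rfl
    obtain ⟨h, hh, hne⟩ := hyC
    exact hne (by simp)
  · rw [eq_top_iff, ← hgen, sup_le_iff]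
    constructor
    · refine hcl.trans (Subgroup.closure_mono ?_)
      intro x hx
      rcases hx with rfl | rfl
      · simp
      · simp
    · rw [Subgroup.zpowers_le]
      exact Subgroup.subset_closure (by simp)

/-- **Section version**: if `H ≃ Q₈` is a subgroup of `G` and `y` is an element of odd order
normalizing but not centralizing `H`, with `y ^ 3` centralizing `H`, then `G` has a section
isomorphic to `SL₂(𝔽₃)`. -/
theorem exists_section_SL23_of_cube (H : Subgroup G) (e : H ≃* QuaternionGroup 2) (y : G)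
    (hyN : ∀ h ∈ H, y * h * y⁻¹ ∈ H) (hy3 : ∀ h ∈ H, y ^ 3 * h * (y ^ 3)⁻¹ = h)
    (hodd : Odd (orderOf y)) (hyC : ∃ h ∈ H, y * h * y⁻¹ ≠ h) :
    ∃ (L K : Subgroup G) (hK : (K.subgroupOf L).Normal), L ≤ H ⊔ Subgroup.zpowers y ∧
      Nonempty ((L ⧸ K.subgroupOf L) ≃* S) := by
  obtain ⟨i, j, hi, hj, h4, h2, hc, h5, h6, hi2, hcl⟩ := exists_adapted_pair H e y hyN hy3 hyC
  have hL : Subgroup.closure {i, j, y} ≤ H ⊔ Subgroup.zpowers y := by
    rw [Subgroup.closure_le]
    intro x hx
    rcases hx with rfl | rfl | rfl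
    · exact Subgroup.mem_sup_left hi
    · exact Subgroup.mem_sup_left hj
    · exact Subgroup.mem_sup_right (Subgroup.mem_zpowers _)
  have hiL : i ∈ Subgroup.closure {i, j, y} := Subgroup.subset_closure (by simp)
  have hjL : j ∈ Subgroup.closure {i, j, y} := Subgroup.subset_closure (by simp)
  have hyL : y ∈ Subgroup.closure {i, j, y} := Subgroup.subset_closure (by simp)
  have hcentral : ∀ g ∈ Subgroup.closure {i, j, y}, Commute g (y ^ 3) := by
    have hle : Subgroup.closure {i, j, y} ≤ Subgroup.centralizer {y ^ 3} := by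
      rw [Subgroup.closure_le]
      intro x hx
      rw [SetLike.mem_coe, Subgroup.mem_centralizer_singleton_iff]
      rcases hx with rfl | rfl | rfl
      · have := hy3 x hi
        rw [mul_inv_eq_iff_eq_mul] at this
        exact this.symm
      · have := hy3 x hj
        rw [mul_inv_eq_iff_eq_mul] at this
        exact this.symm
      · exact ((Commute.refl x).pow_right 3).eq
    intro g hg
    have := hle hg
    rw [Subgroup.mem_centralizer_singleton_iff] at this
    exact this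
  have hK : ((Subgroup.zpowers (y ^ 3)).subgroupOf (Subgroup.closure {i, j, y})).Normal := by
    constructor
    intro n hn g
    rw [Subgroup.mem_subgroupOf] at hn ⊢
    obtain ⟨m, hm⟩ := Subgroup.mem_zpowers_iff.mp hn
    have hcomm : Commute (g : G) (n : G) := by
      rw [← hm]
      exact (hcentral g g.2).zpow_right m
    have : ((g * n * g⁻¹ : Subgroup.closure {i, j, y}) : G) = (n : G) := by
      rw [Subgroup.coe_mul, Subgroup.coe_mul, Subgroup.coe_inv, hcomm.eq, mul_inv_cancel_right]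
    rw [this]
    exact hn
  refine ⟨Subgroup.closure {i, j, y}, Subgroup.zpowers (y ^ 3), hK, hL, ?_⟩
  have := hK
  apply nonempty_quotient_mulEquiv_SL23 _ (⟨i, hiL⟩ : Subgroup.closure {i, j, y}) ⟨j, hjL⟩
    ⟨y, hyL⟩
  · apply Subtype.ext
    simpa using h4
  · apply Subtype.ext
    simpa using h2
  · apply Subtype.ext
    simpa using hc
  · apply Subtype.ext
    simpa using h5
  · apply Subtype.ext
    simpa using h6
  · rw [Subgroup.mem_subgroupOf]
    simp only [Subgroup.coe_pow]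
    exact Subgroup.mem_zpowers _
  · rw [Subgroup.mem_subgroupOf]
    simp only [Subgroup.coe_pow]
    intro hmem
    have hle : Subgroup.zpowers (y ^ 3) ≤ Subgroup.zpowers y :=
      Subgroup.zpowers_le.mpr (Subgroup.pow_mem _ (Subgroup.mem_zpowers y) 3)
    have hdvd : orderOf (i ^ 2) ∣ orderOf y := orderOf_dvd_of_mem_zpowers (hle hmem)
    have h2' : orderOf (i ^ 2) = 2 := by
      apply orderOf_eq_prime
      · rw [← pow_mul]
        exact h4
      · exact hi2
    rw [h2'] at hdvd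
    exact (Nat.not_even_iff_odd.mpr hodd) (even_iff_two_dvd.mpr hdvd)
  · rw [Subgroup.mem_subgroupOf]
    intro hmem
    obtain ⟨m, hm⟩ := Subgroup.mem_zpowers_iff.mp hmem
    obtain ⟨h, hh, hne⟩ := hyC
    apply hne
    have hc3 : y ^ 3 ∈ Subgroup.centralizer (H : Set G) := by
      rw [Subgroup.mem_centralizer_iff]
      intro h' hh'
      have := hy3 h' hh'
      rw [mul_inv_eq_iff_eq_mul] at this
      exact this.symm
    have hcy : y ∈ Subgroup.centralizer (H : Set G) := by
      have h1 : (y ^ 3) ^ m = y := hm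
      rw [← h1]
      exact Subgroup.zpow_mem _ hc3 m
    rw [Subgroup.mem_centralizer_iff] at hcy
    rw [mul_inv_eq_iff_eq_mul]
    exact (hcy h hh).symm
  · have h1 := Subgroup.closure_closure_coe_preimage (k := ({i, j, y} : Set G))
    rw [← h1]
    congr 1
    ext x
    simp only [Set.mem_insert_iff, Set.mem_singleton_iff, Set.mem_preimage, Subtype.ext_iff]

/-- **Section version**: if `H ≃ Q₈` is a subgroup of `G` and `y` is an element of odd order
normalizing but not centralizing `H`, then `G` has a section isomorphic to `SL₂(𝔽₃)`. -/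
theorem exists_section_SL23 (H : Subgroup G) (e : H ≃* QuaternionGroup 2) (y : G)
    (hyN : ∀ h ∈ H, y * h * y⁻¹ ∈ H) (hodd : Odd (orderOf y))
    (hyC : ∃ h ∈ H, y * h * y⁻¹ ≠ h) :
    ∃ (L K : Subgroup G) (hK : (K.subgroupOf L).Normal), L ≤ H ⊔ Subgroup.zpowers y ∧
      Nonempty ((L ⧸ K.subgroupOf L) ≃* S) :=
  exists_section_SL23_of_cube H e y hyN (cube_centralizes H e y hyN hodd) hodd hyC

end recognition

end Cfsg.Agent.Lib.Helper95.SL23
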