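/-
Numerical lemmas comparing orders of Sylow subgroups of symmetric groups, used for the bound on
nilpotent subgroups of symmetric groups.
-/
import Mathlib

set_option autoImplicit false

namespace Cfsg.Agent.Lib.Helper95.NilpNum

open Nat

/-- the `2`-adic valuation of `n!` -/
def e2 (n : ℕ) : ℕ := (n !).factorization 2

/-- the order of a Sylow `2`-subgroup of the symmetric group of degree `n` -/
def F (n : ℕ) : ℕ := 2 ^ e2 n

/-- the bound for transitive nilpotent groups -/
def T (m : ℕ) : ℕ := if m = 3 then 3 else F m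

/-- the bound for nilpotent groups -/
def g (m : ℕ) : ℕ := if m % 4 = 3 then 3 * F (m - 3) else F m

theorem e2_two_mul (n : ℕ) : e2 (2 * n) = e2 n + n :=
  Nat.factorization_factorial_mul Nat.prime_two

theorem e2_succ (n : ℕ) : e2 (n + 1) = e2 n + (n + 1).factorization 2 := by
  unfold e2
  rw [Nat.factorial_succ, Nat.factorization_mul (by positivity) (Nat.factorial_ne_zero _)]
  simp only [Finsupp.coe_add, Pi.add_apply]
  omega

theorem e2_two_mul_add_one (n : ℕ) : e2 (2 * n + 1) = e2 n + n := by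
  rw [e2_succ, Nat.factorization_eq_zero_of_not_dvd (by omega), add_zero, e2_two_mul]

theorem e2_zero : e2 0 = 0 := by
  unfold e2; simp

theorem e2_one : e2 1 = 0 := by
  have := e2_two_mul_add_one 0
  simpa [e2_zero] using this

theorem e2_two : e2 2 = 1 := by
  have := e2_two_mul 1
  simpa [e2_one] using this

theorem e2_three : e2 3 = 1 := by
  have := e2_two_mul_add_one 1
  simpa [e2_one] using this

theorem e2_four : e2 4 = 3 := by
  have := e2_two_mul 2
  simpa [e2_two] using this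

theorem e2_five : e2 5 = 3 := by
  have := e2_two_mul_add_one 2
  simpa [e2_two] using this

theorem e2_nine : e2 9 = 7 := by
  have := e2_two_mul_add_one 4
  simpa [e2_four] using this

theorem e2_add (a b : ℕ) : e2 a + e2 b ≤ e2 (a + b) := by
  have h := Nat.factorial_mul_factorial_dvd_factorial_add a b
  have h2 := (Nat.factorization_le_iff_dvd
    (mul_ne_zero (Nat.factorial_ne_zero a) (Nat.factorial_ne_zero b))
    (Nat.factorial_ne_zero (a + b))).mpr h
  have h3 := h2 2
  rw [Nat.factorization_mul (Nat.factorial_ne_zero a) (Nat.factorial_ne_zero b)] at h3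
  exact h3

theorem e2_mono {a b : ℕ} (h : a ≤ b) : e2 a ≤ e2 b := by
  obtain ⟨c, rfl⟩ := Nat.exists_eq_add_of_le h
  have := e2_add a c
  omega

/-- the wreath product inequality -/
theorem e2_mul (q j : ℕ) (hq : 0 < q) : j * e2 q + e2 j ≤ e2 (q * j) := by
  induction j with
  | zero => simp
  | succ j ih =>
    have hdvd : (q * j)! * q ! * (j + 1) ∣ (q * (j + 1))! := by
      obtain ⟨q', rfl⟩ : ∃ q', q = q' + 1 := ⟨q - 1, by omega⟩
      have h1 := Nat.add_choose_mul_factorial_mul_factorial ((q' + 1) * j) (q' + 1)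
      have h2 := Nat.add_one_mul_choose_eq ((q' + 1) * j + q') q'
      have e : (q' + 1) * j + q' + 1 = (q' + 1) * (j + 1) := by ring
      rw [e] at h2
      have h3 : (q' + 1) * ((j + 1) * ((q' + 1) * j + q').choose q')
          = (q' + 1) * ((q' + 1) * (j + 1)).choose (q' + 1) := by
        calc (q' + 1) * ((j + 1) * ((q' + 1) * j + q').choose q')
            = (q' + 1) * (j + 1) * ((q' + 1) * j + q').choose q' := by ring
          _ = ((q' + 1) * (j + 1)).choose (q' + 1) * (q' + 1) := h2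
          _ = _ := by ring
      have h4 := Nat.eq_of_mul_eq_mul_left (Nat.succ_pos q') h3
      have e2' : (q' + 1) * j + (q' + 1) = (q' + 1) * (j + 1) := by ring
      rw [e2'] at h1
      rw [← h1, ← h4]
      exact ⟨((q' + 1) * j + q').choose q', by ring⟩
    have hne : (q * j)! * q ! * (j + 1) ≠ 0 := by positivity
    have h2 := (Nat.factorization_le_iff_dvd hne (Nat.factorial_ne_zero _)).mpr hdvd 2
    rw [Nat.factorization_mul (by positivity) (by positivity),
      Nat.factorization_mul (Nat.factorial_ne_zero _) (Nat.factorial_ne_zero _)] at h2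
    simp only [Finsupp.coe_add, Pi.add_apply] at h2
    have h3 := e2_succ j
    have h4 : e2 (q * j) + e2 q + (j + 1).factorization 2 ≤ e2 (q * (j + 1)) := h2
    have h5 : (j + 1) * e2 q = j * e2 q + e2 q := by ring
    omega

theorem F_pos (n : ℕ) : 0 < F n := by unfold F; positivity

theorem F_mul_le (a b : ℕ) : F a * F b ≤ F (a + b) := by
  unfold F
  rw [← pow_add]
  exact Nat.pow_le_pow_right (by norm_num) (e2_add a b)

theorem F_pow_mul_le (q j : ℕ) (hq : 0 < q) : F q ^ j * F j ≤ F (q * j) := by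
  unfold F
  rw [← pow_mul, ← pow_add]
  apply Nat.pow_le_pow_right (by norm_num)
  have := e2_mul q j hq
  rw [mul_comm]; exact this

theorem F_mono {a b : ℕ} (h : a ≤ b) : F a ≤ F b := by
  unfold F
  exact Nat.pow_le_pow_right (by norm_num) (e2_mono h)

theorem F_zero : F 0 = 1 := by unfold F; rw [e2_zero]; rfl
theorem F_one : F 1 = 1 := by unfold F; rw [e2_one]; rfl
theorem F_three : F 3 = 2 := by unfold F; rw [e2_three]; rfl
theorem F_nine : F 9 = 128 := by unfold F; rw [e2_nine]; rfl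

theorem two_le_F {q : ℕ} (hq : 2 ≤ q) : 2 ≤ F q := by
  have := F_mono hq
  have h2 : F 2 = 2 := by unfold F; rw [e2_two]; rfl
  omega

theorem e2_four_mul (j : ℕ) : e2 (4 * j) = e2 j + 3 * j := by
  have h1 := e2_two_mul (2 * j)
  have h2 := e2_two_mul j
  have e : 2 * (2 * j) = 4 * j := by ring
  rw [e] at h1
  omega

theorem e2_four_mul_add_one (j : ℕ) : e2 (4 * j + 1) = e2 j + 3 * j := by
  have h1 := e2_two_mul_add_one (2 * j)
  have h2 := e2_two_mul j
  have e : 2 * (2 * j) + 1 = 4 * j + 1 := by ring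
  rw [e] at h1
  omega

theorem e2_four_mul_add_two (j : ℕ) : e2 (4 * j + 2) = e2 j + 3 * j + 1 := by
  have h1 := e2_two_mul (2 * j + 1)
  have h2 := e2_two_mul_add_one j
  have e : 2 * (2 * j + 1) = 4 * j + 2 := by ring
  rw [e] at h1
  omega

theorem e2_four_mul_add_three (j : ℕ) : e2 (4 * j + 3) = e2 j + 3 * j + 1 := by
  have h1 := e2_two_mul_add_one (2 * j + 1)
  have h2 := e2_two_mul_add_one j
  have e : 2 * (2 * j + 1) + 1 = 4 * j + 3 := by ring
  rw [e] at h1
  omega

theorem F_four_mul_add_three (j : ℕ) : F (4 * j + 3) = 2 * F (4 * j) := by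
  unfold F
  rw [e2_four_mul_add_three, e2_four_mul, pow_succ]; ring

theorem F_le_g (m : ℕ) : F m ≤ g m := by
  unfold g
  split_ifs with h
  · obtain ⟨j, rfl⟩ : ∃ j, m = 4 * j + 3 := ⟨m / 4, by omega⟩
    rw [F_four_mul_add_three]
    have e : 4 * j + 3 - 3 = 4 * j := by omega
    rw [e]; omega
  · exact le_refl _

theorem g_pos (m : ℕ) : 0 < g m := lt_of_lt_of_le (F_pos m) (F_le_g m)

theorem T_le_g (m : ℕ) : T m ≤ g m := by
  unfold T
  split_ifs with h
  · subst h
    unfold g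
    simp [F_zero]
  · exact F_le_g m

theorem g_of_mod {m : ℕ} (h : m % 4 ≠ 3) : g m = F m := by
  unfold g; rw [if_neg h]

theorem g_add_three (j : ℕ) : g (4 * j + 3) = 3 * F (4 * j) := by
  unfold g
  rw [if_pos (by omega)]
  have e : 4 * j + 3 - 3 = 4 * j := by omega
  rw [e]

theorem F_step1 (j : ℕ) : 8 * F (4 * j + 1) ≤ F (4 * j + 4) := by
  unfold F
  have e : 4 * j + 4 = 4 * (j + 1) := by ring
  rw [e, e2_four_mul, e2_four_mul_add_one]
  have h := e2_mono (Nat.le_add_right j 1)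
  have e3 : (8 : ℕ) = 2 ^ 3 := by norm_num
  rw [e3, ← pow_add]
  apply Nat.pow_le_pow_right (by norm_num)
  omega

theorem F_step2 (j : ℕ) : 4 * F (4 * j + 2) ≤ F (4 * j + 5) := by
  unfold F
  have e : 4 * j + 5 = 4 * (j + 1) + 1 := by ring
  rw [e, e2_four_mul_add_one, e2_four_mul_add_two]
  have h := e2_mono (Nat.le_add_right j 1)
  have e3 : (4 : ℕ) = 2 ^ 2 := by norm_num
  rw [e3, ← pow_add]
  apply Nat.pow_le_pow_right (by norm_num)
  omega

theorem F_step3 (j : ℕ) : 16 * F (4 * j) ≤ F (4 * j + 6) := by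
  unfold F
  have e : 4 * j + 6 = 4 * (j + 1) + 2 := by ring
  rw [e, e2_four_mul_add_two, e2_four_mul]
  have h := e2_mono (Nat.le_add_right j 1)
  have e3 : (16 : ℕ) = 2 ^ 4 := by norm_num
  rw [e3, ← pow_add]
  apply Nat.pow_le_pow_right (by norm_num)
  omega

theorem g_mul_le_aux (a b : ℕ) (ha : a % 4 = 3) : g a * g b ≤ g (a + b) := by
  obtain ⟨i, rfl⟩ : ∃ i, a = 4 * i + 3 := ⟨a / 4, by omega⟩
  rw [g_add_three]
  have hb4 : b % 4 = 0 ∨ b % 4 = 1 ∨ b % 4 = 2 ∨ b % 4 = 3 := by omega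
  rcases hb4 with hb | hb | hb | hb
  · obtain ⟨j, rfl⟩ : ∃ j, b = 4 * j := ⟨b / 4, by omega⟩
    rw [g_of_mod (by omega)]
    have e : 4 * i + 3 + 4 * j = 4 * (i + j) + 3 := by ring
    rw [e, g_add_three]
    have := F_mul_le (4 * i) (4 * j)
    have e2' : 4 * i + 4 * j = 4 * (i + j) := by ring
    rw [e2'] at this
    nlinarith
  · obtain ⟨j, rfl⟩ : ∃ j, b = 4 * j + 1 := ⟨b / 4, by omega⟩
    rw [g_of_mod (by omega)]
    have h1 := F_step1 j
    have h2 := F_mul_le (4 * i) (4 * j + 4)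
    have e : 4 * i + (4 * j + 4) = 4 * i + 3 + (4 * j + 1) := by ring
    rw [e] at h2
    have h3 := F_le_g (4 * i + 3 + (4 * j + 1))
    have hpos := F_pos (4 * i)
    have hpos2 := F_pos (4 * j + 1)
    calc 3 * F (4 * i) * F (4 * j + 1) ≤ F (4 * i) * (8 * F (4 * j + 1)) := by nlinarith
      _ ≤ F (4 * i) * F (4 * j + 4) := Nat.mul_le_mul_left _ h1
      _ ≤ _ := h2.trans h3
  · obtain ⟨j, rfl⟩ : ∃ j, b = 4 * j + 2 := ⟨b / 4, by omega⟩
    rw [g_of_mod (by omega)]
    have h1 := F_step2 j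
    have h2 := F_mul_le (4 * i) (4 * j + 5)
    have e : 4 * i + (4 * j + 5) = 4 * i + 3 + (4 * j + 2) := by ring
    rw [e] at h2
    have h3 := F_le_g (4 * i + 3 + (4 * j + 2))
    have hpos := F_pos (4 * i)
    have hpos2 := F_pos (4 * j + 2)
    calc 3 * F (4 * i) * F (4 * j + 2) ≤ F (4 * i) * (4 * F (4 * j + 2)) := by nlinarith
      _ ≤ F (4 * i) * F (4 * j + 5) := Nat.mul_le_mul_left _ h1
      _ ≤ _ := h2.trans h3
  · obtain ⟨j, rfl⟩ : ∃ j, b = 4 * j + 3 := ⟨b / 4, by omega⟩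
    rw [g_add_three]
    have h1 := F_step3 j
    have h2 := F_mul_le (4 * i) (4 * j + 6)
    have e : 4 * i + (4 * j + 6) = 4 * i + 3 + (4 * j + 3) := by ring
    rw [e] at h2
    have h3 := F_le_g (4 * i + 3 + (4 * j + 3))
    have hpos := F_pos (4 * i)
    have hpos2 := F_pos (4 * j)
    calc 3 * F (4 * i) * (3 * F (4 * j)) ≤ F (4 * i) * (16 * F (4 * j)) := by nlinarith
      _ ≤ F (4 * i) * F (4 * j + 6) := Nat.mul_le_mul_left _ h1
      _ ≤ _ := h2.trans h3

theorem g_mul_le (a b : ℕ) : g a * g b ≤ g (a + b) := by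
  by_cases ha : a % 4 = 3
  · exact g_mul_le_aux a b ha
  · by_cases hb : b % 4 = 3
    · rw [mul_comm, add_comm]
      exact g_mul_le_aux b a hb
    · rw [g_of_mod ha, g_of_mod hb]
      exact (F_mul_le a b).trans (F_le_g _)


/-- `n ≤ F n` for `n ≥ 4`. -/
theorem le_F {n : ℕ} (hn : 4 ≤ n) : n ≤ F n := by
  obtain ⟨j, hj⟩ : ∃ j, n = 2 * j ∨ n = 2 * j + 1 := ⟨n / 2, by omega⟩
  have hj2 : 2 ≤ j := by omega
  have hF : F n = 2 ^ j * F j := by
    unfold F
    rcases hj with rfl | rfl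
    · rw [e2_two_mul, pow_add, mul_comm]
    · rw [e2_two_mul_add_one, pow_add, mul_comm]
  rw [hF]
  have h1 := two_le_F hj2
  have h2 : j < 2 ^ j := Nat.lt_two_pow_self
  calc n ≤ (j + 1) * 2 := by omega
    _ ≤ 2 ^ j * F j := Nat.mul_le_mul h2 h1

/-- the `p`-adic valuation of `(p ^ a)!` -/
def sv (p a : ℕ) : ℕ := ((p ^ a)!).factorization p

theorem sv_zero (p : ℕ) : sv p 0 = 0 := by
  unfold sv; simp

theorem sv_succ {p : ℕ} (hp : p.Prime) (a : ℕ) : sv p (a + 1) = sv p a + p ^ a := by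
  unfold sv
  rw [pow_succ, mul_comm]
  exact Nat.factorization_factorial_mul hp

theorem sv_one {p : ℕ} (hp : p.Prime) : sv p 1 = 1 := by
  rw [sv_succ hp, sv_zero]; simp

theorem sv_two_eq (a : ℕ) : sv 2 a = e2 (2 ^ a) := rfl

/-- Claim A: for primes `p ≥ 5`, the Sylow `p`-subgroup of `Sym(p ^ a)` is no larger than the
Sylow `2`-subgroup. -/
theorem claimA {p : ℕ} (hp : p.Prime) (hp5 : 5 ≤ p) (a : ℕ) : p ^ sv p a ≤ F (p ^ a) := by
  induction a with
  | zero => rw [sv_zero]; simp [F_one]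
  | succ a ih =>
    rw [sv_succ hp, pow_add]
    have h1 : p ≤ F p := le_F (by omega)
    have h2 : p ^ (p ^ a) ≤ F p ^ (p ^ a) := Nat.pow_le_pow_left h1 _
    have h3 := F_pow_mul_le p (p ^ a) hp.pos
    have e : p * p ^ a = p ^ (a + 1) := by ring
    rw [e] at h3
    calc p ^ sv p a * p ^ p ^ a ≤ F (p ^ a) * F p ^ (p ^ a) := Nat.mul_le_mul ih h2
      _ = F p ^ (p ^ a) * F (p ^ a) := by ring
      _ ≤ _ := h3

theorem sv_three_add_two (a : ℕ) : sv 3 (a + 2) = sv 3 a + 4 * 3 ^ a := by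
  rw [sv_succ Nat.prime_three, sv_succ Nat.prime_three, pow_succ]; ring

theorem F_nine_mul (j : ℕ) : 128 ^ j * F j ≤ F (9 * j) := by
  have := F_pow_mul_le 9 j (by norm_num)
  rwa [F_nine] at this

theorem claimB1 (a : ℕ) : 2 * 3 ^ sv 3 a ≤ 3 * F (3 ^ a) := by
  induction a using Nat.twoStepInduction with
  | zero => rw [sv_zero]; simp [F_one]
  | one => rw [sv_one Nat.prime_three]; simp [F_three]
  | more a ih _ =>
    rw [sv_three_add_two, pow_add]
    have h1 := F_nine_mul (3 ^ a)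
    have e : 9 * 3 ^ a = 3 ^ (a + 2) := by ring
    rw [e] at h1
    have h2 : (3 : ℕ) ^ (4 * 3 ^ a) = 81 ^ (3 ^ a) := by
      rw [pow_mul]; norm_num
    rw [h2]
    have h3 : (81 : ℕ) ^ (3 ^ a) ≤ 128 ^ (3 ^ a) := Nat.pow_le_pow_left (by norm_num) _
    calc 2 * (3 ^ sv 3 a * 81 ^ 3 ^ a) = (2 * 3 ^ sv 3 a) * 81 ^ 3 ^ a := by ring
      _ ≤ (3 * F (3 ^ a)) * 128 ^ 3 ^ a := Nat.mul_le_mul ih h3
      _ = 3 * (128 ^ 3 ^ a * F (3 ^ a)) := by ring
      _ ≤ _ := Nat.mul_le_mul_left _ h1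

theorem pow_81_128 (j : ℕ) (hj : 1 ≤ j) : 3 * 81 ^ j ≤ 2 * 128 ^ j := by
  obtain ⟨i, rfl⟩ : ∃ i, j = i + 1 := ⟨j - 1, by omega⟩
  have h3 : (81 : ℕ) ^ i ≤ 128 ^ i := Nat.pow_le_pow_left (by norm_num) _
  rw [pow_succ, pow_succ]
  omega

theorem claimB2 (a : ℕ) (ha : 2 ≤ a) : 3 ^ sv 3 a ≤ F (3 ^ a) := by
  obtain ⟨b, rfl⟩ : ∃ b, a = b + 2 := ⟨a - 2, by omega⟩
  rw [sv_three_add_two, pow_add]
  have h1 := F_nine_mul (3 ^ b)
  have e : 9 * 3 ^ b = 3 ^ (b + 2) := by ring
  rw [e] at h1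
  have h2 : (3 : ℕ) ^ (4 * 3 ^ b) = 81 ^ (3 ^ b) := by
    rw [pow_mul]; norm_num
  rw [h2]
  have h3 := pow_81_128 (3 ^ b) (Nat.one_le_pow _ _ (by norm_num))
  have h4 := claimB1 b
  have h5 : 2 * (2 * (3 ^ sv 3 b * 81 ^ 3 ^ b)) ≤ 2 * (2 * F (3 ^ (b + 2))) := by
    calc 2 * (2 * (3 ^ sv 3 b * 81 ^ 3 ^ b)) = (2 * 3 ^ sv 3 b) * (2 * 81 ^ 3 ^ b) := by ring
      _ ≤ (3 * F (3 ^ b)) * (2 * 81 ^ 3 ^ b) := Nat.mul_le_mul_right _ h4
      _ = 2 * F (3 ^ b) * (3 * 81 ^ 3 ^ b) := by ring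
      _ ≤ 2 * F (3 ^ b) * (2 * 128 ^ 3 ^ b) := Nat.mul_le_mul_left _ h3
      _ = 2 * (2 * (128 ^ 3 ^ b * F (3 ^ b))) := by ring
      _ ≤ _ := Nat.mul_le_mul_left _ (Nat.mul_le_mul_left _ h1)
  omega

theorem prime_cases {p : ℕ} (hp : p.Prime) : p = 2 ∨ p = 3 ∨ 5 ≤ p := by
  have h2 := hp.two_le
  by_contra h
  push Not at h
  have : p = 4 := by omega
  subst this
  norm_num at hp

/-- (K1) -/
theorem key1 {p : ℕ} (hp : p.Prime) (a : ℕ) : 2 * p ^ sv p a ≤ 3 * F (p ^ a) := by
  rcases prime_cases hp with rfl | rfl | h5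
  · rw [sv_two_eq]
    have : F (2 ^ a) = 2 ^ e2 (2 ^ a) := rfl
    rw [← this]
    have := F_pos (2 ^ a)
    omega
  · exact claimB1 a
  · have := claimA hp h5 a
    omega

/-- (K2) -/
theorem key2 {p : ℕ} (hp : p.Prime) (a : ℕ) (ha : 1 ≤ a) : p ^ sv p a ≤ T (p ^ a) := by
  have hne : ∀ q : ℕ, 2 ≤ q → q ≠ 3 → ∀ b : ℕ, q ^ b ≠ 3 ∨ (q = 3 ∧ b = 1) := by
    intro q hq hq3 b
    left
    intro h
    have h1 : q ∣ 3 := by
      rcases b with _ | b
      · simp at h
      · rw [← h]; exact dvd_pow_self q (by omega)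
    have h3 := Nat.le_of_dvd (by norm_num) h1
    interval_cases q
    · norm_num at h1
    · exact hq3 rfl
  rcases prime_cases hp with rfl | rfl | h5
  · have h1 : (2 : ℕ) ^ a ≠ 3 := by
      rcases hne 2 le_rfl (by norm_num) a with h | h
      · exact h
      · omega
    unfold T
    rw [if_neg h1, sv_two_eq]
    exact le_refl _
  · rcases Nat.lt_or_ge a 2 with h | h
    · have : a = 1 := by omega
      subst this
      rw [sv_one Nat.prime_three]
      unfold T
      simp
    · have h1 : (3 : ℕ) ^ a ≠ 3 := by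
        intro h2
        have : (3 : ℕ) ^ a = 3 ^ 1 := by simpa using h2
        have := Nat.pow_right_injective (by norm_num : 2 ≤ 3) this
        omega
      unfold T
      rw [if_neg h1]
      exact claimB2 a h
  · have h1 : p ^ a ≠ 3 := by
      rcases hne p (by omega) (by omega) a with h | h
      · exact h
      · omega
    unfold T
    rw [if_neg h1]
    exact claimA hp h5 a

theorem T_step {p : ℕ} (hp : p.Prime) (a : ℕ) (ha : 1 ≤ a) (m' : ℕ) (hm' : 1 ≤ m') :
    p ^ sv p a * T m' ≤ T (p ^ a * m') := by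
  have hq2 : 2 ≤ p ^ a := by
    calc 2 ≤ p := hp.two_le
      _ = p ^ 1 := (pow_one p).symm
      _ ≤ p ^ a := Nat.pow_le_pow_right hp.pos ha
  have hqpos : 0 < p ^ a := by omega
  have hFq := two_le_F hq2
  have k1 := key1 hp a
  by_cases h1 : m' = 1
  · subst h1
    have : T 1 = 1 := by unfold T; simp [F_one]
    rw [this, mul_one, mul_one]
    exact key2 hp a ha
  by_cases h3 : m' = 3
  · subst h3
    have hT3 : T 3 = 3 := by unfold T; simp
    have hne : p ^ a * 3 ≠ 3 := by omega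
    unfold T
    rw [if_pos rfl, if_neg hne]
    have h4 := F_pow_mul_le (p ^ a) 3 hqpos
    rw [F_three] at h4
    have h5 : 4 * F (p ^ a) ≤ F (p ^ a) ^ 3 := by
      have : F (p ^ a) ^ 3 = F (p ^ a) * F (p ^ a) * F (p ^ a) := by ring
      rw [this]
      nlinarith
    nlinarith
  · have hm2 : 2 ≤ m' := by omega
    have hne : p ^ a * m' ≠ 3 := by
      intro h
      have : 2 * 2 ≤ p ^ a * m' := Nat.mul_le_mul hq2 hm2
      omega
    unfold T
    rw [if_neg h3, if_neg hne]
    have h4 := F_pow_mul_le (p ^ a) m' hqpos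
    have h5 : 2 * F (p ^ a) ≤ F (p ^ a) ^ m' := by
      obtain ⟨i, rfl⟩ : ∃ i, m' = i + 2 := ⟨m' - 2, by omega⟩
      have h6 : 1 ≤ F (p ^ a) ^ i := Nat.one_le_pow _ _ (by omega)
      rw [pow_add]
      nlinarith
    have hpos := F_pos m'
    calc p ^ sv p a * F m' ≤ 2 * F (p ^ a) * F m' := by nlinarith
      _ ≤ F (p ^ a) ^ m' * F m' := Nat.mul_le_mul_right _ h5
      _ ≤ _ := h4

/-- The numerical heart of the bound for transitive nilpotent permutation groups. -/
theorem numeric_bound : ∀ m : ℕ, 1 ≤ m → ∀ k : ℕ, k ≠ 0 →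
    (∀ p : ℕ, p.Prime → k.factorization p ≤ ((p ^ m.factorization p)!).factorization p) →
    k ≤ T m := by
  intro m
  induction m using Nat.strong_induction_on with
  | _ m ih =>
    intro hm k hk hfac
    by_cases hm1 : m = 1
    · subst hm1
      have hk1 : k = 1 := by
        apply Nat.eq_of_factorization_eq hk one_ne_zero
        intro p
        by_cases hp : p.Prime
        · have := hfac p hp
          simp at this
          simp [this]
        · simp [Nat.factorization_eq_zero_of_not_prime _ hp]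
      subst hk1
      unfold T; simp [F_one]
    · have hp : m.minFac.Prime := Nat.minFac_prime hm1
      set p := m.minFac with hpdef
      have hpm : p ∣ m := Nat.minFac_dvd m
      have hm0 : m ≠ 0 := by omega
      have ha : 1 ≤ m.factorization p :=
        (hp.dvd_iff_one_le_factorization hm0).mp hpm
      set a := m.factorization p with hadef
      set m' := m / p ^ a with hm'def
      have hmm' : p ^ a * m' = m := Nat.ordProj_mul_ordCompl_eq_self m p
      have hm'pos : 1 ≤ m' := by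
        rcases Nat.eq_zero_or_pos m' with h | h
        · rw [h, mul_zero] at hmm'; omega
        · exact h
      have hq2 : 2 ≤ p ^ a := by
        calc 2 ≤ p := hp.two_le
          _ = p ^ 1 := (pow_one p).symm
          _ ≤ p ^ a := Nat.pow_le_pow_right hp.pos ha
      have hm'lt : m' < m := by
        rw [← hmm']
        nlinarith
      set k' := k / p ^ k.factorization p with hk'def
      have hkk' : p ^ k.factorization p * k' = k := Nat.ordProj_mul_ordCompl_eq_self k p
      have hk'0 : k' ≠ 0 := by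
        intro h
        rw [h, mul_zero] at hkk'
        exact hk hkk'.symm
      have hfac' : ∀ r : ℕ, r.Prime →
          k'.factorization r ≤ ((r ^ m'.factorization r)!).factorization r := by
        intro r hr
        have e1 : k'.factorization = k.factorization.erase p := Nat.factorization_ordCompl k p
        have e2 : m'.factorization = m.factorization.erase p := Nat.factorization_ordCompl m p
        rw [e1, e2]
        by_cases hrp : r = p
        · subst hrp
          simp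
        · rw [Finsupp.erase_ne hrp, Finsupp.erase_ne hrp]
          exact hfac r hr
      have h1 := ih m' hm'lt hm'pos k' hk'0 hfac'
      have h2 := hfac p hp
      have h3 : p ^ k.factorization p ≤ p ^ sv p a := Nat.pow_le_pow_right hp.pos h2
      have h4 := T_step hp a ha m' hm'pos
      rw [hmm'] at h4
      calc k = p ^ k.factorization p * k' := hkk'.symm
        _ ≤ p ^ sv p a * T m' := Nat.mul_le_mul h3 h1
        _ ≤ _ := h4

end Cfsg.Agent.Lib.Helper95.NilpNum
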