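/-
Numerical lemmas for the bound on nilpotent subgroups of alternating groups.
-/
import Cfsg.Agent.Lib.Helper95.NilpNum

set_option autoImplicit false

namespace Cfsg.Agent.Lib.Helper95.NilpNum

open Nat

/-- computable version of `e2` with fuel -/
def e2f : ℕ → ℕ → ℕ
  | 0, _ => 0
  | f + 1, n => n / 2 + e2f f (n / 2)

theorem e2_half (n : ℕ) : e2 n = e2 (n / 2) + n / 2 := by
  rcases Nat.even_or_odd' n with ⟨j, rfl | rfl⟩
  · rw [e2_two_mul]; simp
  · rw [e2_two_mul_add_one]
    have : (2 * j + 1) / 2 = j := by omega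
    rw [this]

theorem e2_eq_e2f (f n : ℕ) (h : n ≤ f) : e2 n = e2f f n := by
  induction f generalizing n with
  | zero =>
    have : n = 0 := by omega
    subst this
    simp [e2f, e2_zero]
  | succ f ih =>
    rw [e2_half, e2f, ih (n / 2) (by omega)]
    ring

/-- computable version of `F` -/
def Fc (n : ℕ) : ℕ := 2 ^ e2f n n

theorem F_eq_Fc (n : ℕ) : F n = Fc n := by
  unfold F Fc; rw [e2_eq_e2f n n le_rfl]

/-- computable version of `g` -/
def gc (m : ℕ) : ℕ := if m % 4 = 3 then 3 * Fc (m - 3) else Fc m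

theorem g_eq_gc (m : ℕ) : g m = gc m := by
  unfold g gc; simp only [F_eq_Fc]

/-- the bound for nilpotent subgroups of alternating groups -/
def h (m : ℕ) : ℕ :=
  if m ≤ 1 then 1 else if m = 3 then 3 else if m = 5 then 5 else if m = 6 then 9
  else if m = 9 then 81 else gc m / 2

theorem h_special : ∀ a ∈ ({1, 3, 5, 6, 9} : Finset ℕ), ∀ b ∈ ({1, 3, 5, 6, 9} : Finset ℕ),
    h a * h b ≤ h (a + b) := by decide

theorem two_dvd_F {q : ℕ} (hq : 2 ≤ q) : 2 ∣ F q := by
  unfold F
  have : 1 ≤ e2 q := by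
    have := e2_mono hq
    rw [e2_two] at this
    exact this
  exact dvd_pow_self 2 (by omega)

theorem two_dvd_g {m : ℕ} (hm : 2 ≤ m) (h3 : m ≠ 3) : 2 ∣ g m := by
  unfold g
  split_ifs with h
  · exact Dvd.dvd.mul_left (two_dvd_F (by omega)) 3
  · exact two_dvd_F hm

theorem h_generic {m : ℕ} (h1 : ¬ m ≤ 1) (h3 : m ≠ 3) (h5 : m ≠ 5) (h6 : m ≠ 6) (h9 : m ≠ 9) :
    2 * h m = g m := by
  unfold h
  rw [if_neg h1, if_neg h3, if_neg h5, if_neg h6, if_neg h9, ← g_eq_gc]
  exact Nat.mul_div_cancel' (two_dvd_g (by omega) h3)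

theorem g_le_two_h (m : ℕ) : g m ≤ 2 * h m := by
  by_cases h1 : m ≤ 1
  · have hh : h m = 1 := by unfold h; rw [if_pos h1]
    have hg : g m = 1 := by
      rw [g_of_mod (by omega)]
      interval_cases m
      · exact F_zero
      · exact F_one
    omega
  by_cases h3 : m = 3
  · subst h3; rw [g_eq_gc]; decide
  by_cases h5 : m = 5
  · subst h5; rw [g_eq_gc]; decide
  by_cases h6 : m = 6
  · subst h6; rw [g_eq_gc]; decide
  by_cases h9 : m = 9
  · subst h9; rw [g_eq_gc]; decide
  exact (h_generic h1 h3 h5 h6 h9).ge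

theorem h_le_g (m : ℕ) : h m ≤ g m := by
  by_cases h1 : m ≤ 1
  · have hh : h m = 1 := by unfold h; rw [if_pos h1]
    have hg := g_pos m
    omega
  by_cases h3 : m = 3
  · subst h3; rw [g_eq_gc]; decide
  by_cases h5 : m = 5
  · subst h5; rw [g_eq_gc]; decide
  by_cases h6 : m = 6
  · subst h6; rw [g_eq_gc]; decide
  by_cases h9 : m = 9
  · subst h9; rw [g_eq_gc]; decide
  have := h_generic h1 h3 h5 h6 h9
  omega

theorem h_pos (m : ℕ) : 0 < h m := by
  have h1 := g_le_two_h m
  have h2 := g_pos m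
  omega

theorem F_half_le_h (m : ℕ) : F m / 2 ≤ h m :=
  Nat.div_le_of_le_mul ((F_le_g m).trans (g_le_two_h m))

theorem h_mul_le (a b : ℕ) (ha : 1 ≤ a) (hb : 1 ≤ b) : h a * h b ≤ h (a + b) := by
  have key : ∀ a b : ℕ, ¬ (a ∈ ({1, 3, 5, 6, 9} : Finset ℕ)) → 1 ≤ a → h a * h b ≤ h (a + b) := by
    intro a b hns ha
    simp only [Finset.mem_insert, Finset.mem_singleton, not_or] at hns
    obtain ⟨h1, h3, h5, h6, h9⟩ := hns
    have e := h_generic (m := a) (by omega) h3 h5 h6 h9
    have e2 := h_le_g b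
    have e3 := g_mul_le a b
    have e4 := g_le_two_h (a + b)
    have : 2 * (h a * h b) ≤ 2 * h (a + b) := by
      calc 2 * (h a * h b) = g a * h b := by rw [← e]; ring
        _ ≤ g a * g b := Nat.mul_le_mul_left _ e2
        _ ≤ g (a + b) := e3
        _ ≤ _ := e4
    omega
  by_cases hsa : a ∈ ({1, 3, 5, 6, 9} : Finset ℕ)
  · by_cases hsb : b ∈ ({1, 3, 5, 6, 9} : Finset ℕ)
    · exact h_special a hsa b hsb
    · rw [mul_comm, add_comm]; exact key b a hsb hb
  · exact key a b hsa ha

theorem h_of_generic {n : ℕ} (hn : n % 4 ≠ 3) (h2 : 2 ≤ n) (h5 : n ≠ 5) (h6 : n ≠ 6)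
    (h9 : n ≠ 9) : h n = F n / 2 := by
  have := h_generic (m := n) (by omega) (by omega) h5 h6 h9
  rw [g_of_mod hn] at this
  omega

/-- the bound for transitive nilpotent groups whose degree is not a power of two -/
def T2 (m : ℕ) : ℕ :=
  if m = 1 then 1 else if m = 3 then 3 else if m = 5 then 5 else if m = 9 then 81 else F m / 2

theorem T2_one : T2 1 = 1 := by unfold T2; simp
theorem T2_three : T2 3 = 3 := by unfold T2; simp
theorem T2_five : T2 5 = 5 := by unfold T2; simp
theorem T2_nine : T2 9 = 81 := by unfold T2; simp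

theorem T2_generic {m : ℕ} (h1 : m ≠ 1) (h3 : m ≠ 3) (h5 : m ≠ 5) (h9 : m ≠ 9) :
    T2 m = F m / 2 := by
  unfold T2; rw [if_neg h1, if_neg h3, if_neg h5, if_neg h9]

theorem F_five : F 5 = 8 := by unfold F; rw [e2_five]; rfl

theorem T2_le_F {m : ℕ} (h3 : m ≠ 3) : T2 m ≤ F m := by
  by_cases h1 : m = 1
  · subst h1; rw [T2_one, F_one]
  by_cases h5 : m = 5
  · subst h5; rw [T2_five, F_five]; norm_num
  by_cases h9 : m = 9
  · subst h9; rw [T2_nine, F_nine]; norm_num
  rw [T2_generic h1 h3 h5 h9]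
  exact Nat.div_le_self _ _

theorem two_T2_le (m : ℕ) : 2 * T2 m ≤ 3 * F m := by
  by_cases h3 : m = 3
  · subst h3; rw [T2_three, F_three]
  · have h1 := T2_le_F h3
    have h2 := F_pos m
    omega

theorem T2_le_h (m : ℕ) : T2 m ≤ h m := by
  by_cases h1 : m = 1
  · subst h1; rw [T2_one]; decide
  by_cases h3 : m = 3
  · subst h3; rw [T2_three]; decide
  by_cases h5 : m = 5
  · subst h5; rw [T2_five]; decide
  by_cases h9 : m = 9
  · subst h9; rw [T2_nine]; decide
  rw [T2_generic h1 h3 h5 h9]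
  exact F_half_le_h m

theorem two_mul_add_one_le_pow (j : ℕ) (hj : 3 ≤ j) : 2 * j + 1 ≤ 2 ^ j := by
  induction j, hj using Nat.le_induction with
  | base => norm_num
  | succ j hj ih => rw [pow_succ]; omega

theorem two_mul_le_F {n : ℕ} (hn : 6 ≤ n) : 2 * n ≤ F n := by
  obtain ⟨j, hj⟩ : ∃ j, n = 2 * j ∨ n = 2 * j + 1 := ⟨n / 2, by omega⟩
  have hj3 : 3 ≤ j := by omega
  have hF : F n = 2 ^ j * F j := by
    unfold F
    rcases hj with rfl | rfl
    · rw [e2_two_mul, pow_add, mul_comm]
    · rw [e2_two_mul_add_one, pow_add, mul_comm]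
  rw [hF]
  have h1 := two_le_F (show 2 ≤ j by omega)
  have h2 := two_mul_add_one_le_pow j hj3
  calc 2 * n ≤ (2 * j + 1) * 2 := by omega
    _ ≤ 2 ^ j * F j := Nat.mul_le_mul h2 h1

theorem claim_step {p : ℕ} (hp : p.Prime) (hp4 : 4 ≤ p) (a : ℕ)
    (ih : 2 * p ^ sv p a ≤ F (p ^ a)) : 2 * p ^ sv p (a + 1) ≤ F (p ^ (a + 1)) := by
  rw [sv_succ hp, pow_add]
  have h1 : p ≤ F p := le_F hp4
  have h2 : p ^ (p ^ a) ≤ F p ^ (p ^ a) := Nat.pow_le_pow_left h1 _
  have h3 := F_pow_mul_le p (p ^ a) hp.pos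
  have e : p * p ^ a = p ^ (a + 1) := by ring
  rw [e] at h3
  calc 2 * (p ^ sv p a * p ^ p ^ a) = (2 * p ^ sv p a) * p ^ p ^ a := by ring
    _ ≤ F (p ^ a) * F p ^ (p ^ a) := Nat.mul_le_mul ih h2
    _ = F p ^ (p ^ a) * F (p ^ a) := by ring
    _ ≤ _ := h3

theorem claimA7 {p : ℕ} (hp : p.Prime) (hp7 : 7 ≤ p) (a : ℕ) (ha : 1 ≤ a) :
    2 * p ^ sv p a ≤ F (p ^ a) := by
  induction a, ha using Nat.le_induction with
  | base =>
    rw [sv_one hp, pow_one]
    exact two_mul_le_F (by omega)
  | succ a ha ih => exact claim_step hp (by omega) a ih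

theorem claimA5 (a : ℕ) (ha : 2 ≤ a) : 2 * 5 ^ sv 5 a ≤ F (5 ^ a) := by
  induction a, ha using Nat.le_induction with
  | base =>
    have hs : sv 5 2 = 6 := by rw [sv_succ Nat.prime_five, sv_one Nat.prime_five]; norm_num
    have hF : F 25 = 2 ^ 22 := by
      unfold F; rw [e2_eq_e2f 25 25 le_rfl]; rfl
    have e : (5 : ℕ) ^ 2 = 25 := by norm_num
    rw [hs, e, hF]; norm_num
  | succ a ha ih => exact claim_step Nat.prime_five (by norm_num) a ih

theorem claimB3 (a : ℕ) (ha : 3 ≤ a) : 2 * 3 ^ sv 3 a ≤ F (3 ^ a) := by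
  obtain ⟨b, rfl⟩ : ∃ b, a = b + 3 := ⟨a - 3, by omega⟩
  clear ha
  induction b using Nat.twoStepInduction with
  | zero =>
    have hs : sv 3 3 = 13 := by
      rw [sv_succ Nat.prime_three, sv_succ Nat.prime_three, sv_one Nat.prime_three]
      norm_num
    have hF : F 27 = 2 ^ 23 := by
      unfold F; rw [e2_eq_e2f 27 27 le_rfl]; rfl
    have e : (3 : ℕ) ^ (0 + 3) = 27 := by norm_num
    rw [hs, e, hF]; norm_num
  | one =>
    have hs : sv 3 4 = 40 := by
      rw [sv_succ Nat.prime_three, sv_succ Nat.prime_three, sv_succ Nat.prime_three,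
        sv_one Nat.prime_three]
      norm_num
    have hF : F 81 = 2 ^ 78 := by
      unfold F; rw [e2_eq_e2f 81 81 le_rfl]; rfl
    have e : (3 : ℕ) ^ (1 + 3) = 81 := by norm_num
    rw [hs, e, hF]; norm_num
  | more b ih _ =>
    have e0 : b + 2 + 3 = (b + 3) + 2 := by ring
    rw [e0, sv_three_add_two, pow_add]
    have h1 := F_nine_mul (3 ^ (b + 3))
    have e : 9 * 3 ^ (b + 3) = 3 ^ (b + 3 + 2) := by ring
    rw [e] at h1
    have h2 : (3 : ℕ) ^ (4 * 3 ^ (b + 3)) = 81 ^ (3 ^ (b + 3)) := by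
      rw [pow_mul]; norm_num
    rw [h2]
    have h3 : (81 : ℕ) ^ (3 ^ (b + 3)) ≤ 128 ^ (3 ^ (b + 3)) :=
      Nat.pow_le_pow_left (by norm_num) _
    calc 2 * (3 ^ sv 3 (b + 3) * 81 ^ 3 ^ (b + 3))
        = (2 * 3 ^ sv 3 (b + 3)) * 81 ^ 3 ^ (b + 3) := by ring
      _ ≤ F (3 ^ (b + 3)) * 128 ^ 3 ^ (b + 3) := Nat.mul_le_mul ih h3
      _ = 128 ^ 3 ^ (b + 3) * F (3 ^ (b + 3)) := by ring
      _ ≤ _ := h1


theorem T2_step {p : ℕ} (hp : p.Prime) (a : ℕ) (ha : 1 ≤ a) (m' : ℕ) (hm' : 1 ≤ m')
    (hodd : m' % 2 = 1) (hcop : ¬ p ∣ m') (h23 : p = 2 ∨ m' ≠ 3) (hnot2 : ¬ (p = 2 ∧ m' = 1)) :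
    p ^ sv p a * T2 m' ≤ T2 (p ^ a * m') := by
  have hq2 : 2 ≤ p ^ a := by
    calc 2 ≤ p := hp.two_le
      _ = p ^ 1 := (pow_one p).symm
      _ ≤ p ^ a := Nat.pow_le_pow_right hp.pos ha
  have hqpos : 0 < p ^ a := by omega
  have hFq := two_le_F hq2
  by_cases h1 : m' = 1
  · subst h1
    rw [T2_one, mul_one, mul_one]
    have hp2 : p ≠ 2 := fun h => hnot2 ⟨h, rfl⟩
    rcases prime_cases hp with rfl | rfl | h5
    · exact absurd rfl hp2
    · -- p = 3
      rcases Nat.lt_or_ge a 3 with h | h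
      · have : a = 1 ∨ a = 2 := by omega
        rcases this with rfl | rfl
        · rw [sv_one Nat.prime_three, pow_one, T2_three]
        · have hs : sv 3 2 = 4 := by
            rw [sv_succ Nat.prime_three, sv_one Nat.prime_three]; norm_num
          have e : (3 : ℕ) ^ 2 = 9 := by norm_num
          rw [hs, e, T2_nine]; norm_num
      · have h27 : 27 ≤ 3 ^ a := by
          calc 27 = 3 ^ 3 := by norm_num
            _ ≤ 3 ^ a := Nat.pow_le_pow_right (by norm_num) h
        rw [T2_generic (by omega) (by omega) (by omega) (by omega)]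
        rw [Nat.le_div_iff_mul_le (by norm_num)]
        have := claimB3 a h
        omega
    · by_cases hp5 : p = 5
      · subst hp5
        rcases Nat.lt_or_ge a 2 with h | h
        · have : a = 1 := by omega
          subst this
          rw [sv_one Nat.prime_five, pow_one, T2_five]
        · have h25 : 25 ≤ 5 ^ a := by
            calc 25 = 5 ^ 2 := by norm_num
              _ ≤ 5 ^ a := Nat.pow_le_pow_right (by norm_num) h
          rw [T2_generic (by omega) (by omega) (by omega) (by omega)]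
          rw [Nat.le_div_iff_mul_le (by norm_num)]
          have := claimA5 a h
          omega
      · have hp7 : 7 ≤ p := by
          by_contra hlt
          have : p = 6 := by omega
          subst this
          norm_num at hp
        have hpa : p ≤ p ^ a := by
          calc p = p ^ 1 := (pow_one p).symm
            _ ≤ p ^ a := Nat.pow_le_pow_right hp.pos ha
        have h9 : p ^ a ≠ 9 := by
          intro h
          have hdvd : p ∣ 9 := by rw [← h]; exact dvd_pow_self p (by omega)
          have h3 : p ∣ 3 := by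
            have : p ∣ 3 * 3 := by norm_num; exact hdvd
            rcases (Nat.Prime.dvd_mul hp).mp this with h | h <;> exact h
          have := Nat.le_of_dvd (by norm_num) h3
          omega
        rw [T2_generic (by omega) (by omega) (by omega) h9]
        rw [Nat.le_div_iff_mul_le (by norm_num)]
        have := claimA7 hp hp7 a ha
        omega
  · have hm3 : 3 ≤ m' := by omega
    have hq9 : p ^ a * m' ≠ 9 := by
      intro h
      have h6 : 2 * 3 ≤ p ^ a * m' := Nat.mul_le_mul hq2 hm3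
      have hq3 : p ^ a ≤ 3 := by
        by_contra hlt
        have : 4 * 3 ≤ p ^ a * m' := Nat.mul_le_mul (by omega) hm3
        omega
      have hq : p ^ a = 2 ∨ p ^ a = 3 := by omega
      rcases hq with hq | hq
      · rw [hq] at h; omega
      · rw [hq] at h
        have hm : m' = 3 := by omega
        apply hcop
        rw [hm, ← hq]
        exact dvd_pow_self p (by omega)
    have hq6 : 2 * 3 ≤ p ^ a * m' := Nat.mul_le_mul hq2 hm3
    rw [T2_generic (by omega) (by omega) (by omega) hq9]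
    rw [Nat.le_div_iff_mul_le (by norm_num)]
    have h4 := F_pow_mul_le (p ^ a) m' hqpos
    have h5 : 3 * F (p ^ a) ≤ F (p ^ a) ^ m' := by
      obtain ⟨i, rfl⟩ : ∃ i, m' = i + 3 := ⟨m' - 3, by omega⟩
      have h6 : 1 ≤ F (p ^ a) ^ i := Nat.one_le_pow _ _ (by omega)
      have h7 : F (p ^ a) ^ (i + 3) = F (p ^ a) ^ i * (F (p ^ a) * F (p ^ a) * F (p ^ a)) := by
        ring
      rw [h7]
      have h8 : 3 * F (p ^ a) ≤ F (p ^ a) * F (p ^ a) * F (p ^ a) := by
        have : 2 * 2 ≤ F (p ^ a) * F (p ^ a) := Nat.mul_le_mul hFq hFq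
        calc 3 * F (p ^ a) ≤ (2 * 2) * F (p ^ a) := by omega
          _ ≤ F (p ^ a) * F (p ^ a) * F (p ^ a) := Nat.mul_le_mul_right _ this
      calc 3 * F (p ^ a) ≤ 1 * (F (p ^ a) * F (p ^ a) * F (p ^ a)) := by rw [one_mul]; exact h8
        _ ≤ F (p ^ a) ^ i * (F (p ^ a) * F (p ^ a) * F (p ^ a)) := Nat.mul_le_mul_right _ h6
    have hpos := F_pos m'
    have key : 2 * p ^ sv p a * T2 m' ≤ 3 * F (p ^ a) * F m' := by
      rcases h23 with rfl | h3
      · have e : (2 : ℕ) ^ sv 2 a = F (2 ^ a) := rfl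
        rw [e]
        have := two_T2_le m'
        nlinarith
      · have k1 := key1 hp a
        have k2 := T2_le_F h3
        exact Nat.mul_le_mul k1 k2
    calc p ^ sv p a * T2 m' * 2 = 2 * p ^ sv p a * T2 m' := by ring
      _ ≤ 3 * F (p ^ a) * F m' := key
      _ ≤ F (p ^ a) ^ m' * F m' := Nat.mul_le_mul_right _ h5
      _ ≤ _ := h4

/-- The numerical bound for transitive nilpotent permutation groups whose degree is not a
power of two. -/
theorem numeric_bound2 : ∀ m : ℕ, 1 ≤ m → (∀ a : ℕ, 1 ≤ a → m ≠ 2 ^ a) → ∀ k : ℕ, k ≠ 0 →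
    (∀ p : ℕ, p.Prime → k.factorization p ≤ ((p ^ m.factorization p)!).factorization p) →
    k ≤ T2 m := by
  intro m
  induction m using Nat.strong_induction_on with
  | _ m ih =>
    intro hm hm2 k hk hfac
    by_cases hm1 : m = 1
    · subst hm1
      have hk1 : k = 1 := by
        apply Nat.eq_of_factorization_eq hk one_ne_zero
        intro p
        by_cases hp : p.Prime
        · have := hfac p hp
          simp at this
          simp [this]
        · simp [Nat.factorization_eq_zero_of_not_prime _ hp]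
      subst hk1
      rw [T2_one]
    · have hp : m.minFac.Prime := Nat.minFac_prime hm1
      set p := m.minFac with hpdef
      have hpm : p ∣ m := Nat.minFac_dvd m
      have hm0 : m ≠ 0 := by omega
      have ha : 1 ≤ m.factorization p :=
        (hp.dvd_iff_one_le_factorization hm0).mp hpm
      set a := m.factorization p with hadef
      set m' := m / p ^ a with hm'def
      have hmm' : p ^ a * m' = m := Nat.ordProj_mul_ordCompl_eq_self m p
      have hm'pos : 1 ≤ m' := by
        rcases Nat.eq_zero_or_pos m' with h | h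
        · rw [h, mul_zero] at hmm'; omega
        · exact h
      have hq2 : 2 ≤ p ^ a := by
        calc 2 ≤ p := hp.two_le
          _ = p ^ 1 := (pow_one p).symm
          _ ≤ p ^ a := Nat.pow_le_pow_right hp.pos ha
      have hm'lt : m' < m := by
        rw [← hmm']
        nlinarith
      have hcop : ¬ p ∣ m' := Nat.not_dvd_ordCompl hp hm0
      have hm'dvd : m' ∣ m := Dvd.intro_left _ hmm'
      have hodd : m' % 2 = 1 := by
        by_contra hev
        have h2 : 2 ∣ m' := by omega
        have h2m : 2 ∣ m := h2.trans hm'dvd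
        have hp2 : p = 2 := by
          rw [hpdef]; exact (Nat.minFac_eq_two_iff m).mpr h2m
        rw [hp2] at hcop
        exact hcop h2
      have h23 : p = 2 ∨ m' ≠ 3 := by
        by_cases h3 : m' = 3
        · left
          have h3m : 3 ∣ m := by rw [← h3]; exact hm'dvd
          have hp3 : p ≤ 3 := by rw [hpdef]; exact Nat.minFac_le_of_dvd (by norm_num) h3m
          have hpne : p ≠ 3 := by
            intro h
            rw [h, h3] at hcop
            exact hcop (dvd_refl 3)
          have := hp.two_le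
          omega
        · right; exact h3
      have hnot2 : ¬ (p = 2 ∧ m' = 1) := by
        rintro ⟨h2, h1⟩
        apply hm2 a ha
        rw [← hmm', h1, h2, mul_one]
      set k' := k / p ^ k.factorization p with hk'def
      have hkk' : p ^ k.factorization p * k' = k := Nat.ordProj_mul_ordCompl_eq_self k p
      have hk'0 : k' ≠ 0 := by
        intro h
        rw [h, mul_zero] at hkk'
        exact hk hkk'.symm
      have hfac' : ∀ r : ℕ, r.Prime →
          k'.factorization r ≤ ((r ^ m'.factorization r)!).factorization r := by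
        intro r hr
        have e1 : k'.factorization = k.factorization.erase p := Nat.factorization_ordCompl k p
        have e2 : m'.factorization = m.factorization.erase p := Nat.factorization_ordCompl m p
        rw [e1, e2]
        by_cases hrp : r = p
        · subst hrp
          simp
        · rw [Finsupp.erase_ne hrp, Finsupp.erase_ne hrp]
          exact hfac r hr
      have hm'2 : ∀ b : ℕ, 1 ≤ b → m' ≠ 2 ^ b := by
        intro b hb h
        have : 2 ∣ m' := by rw [h]; exact dvd_pow_self 2 (by omega)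
        omega
      have h1 := ih m' hm'lt hm'pos hm'2 k' hk'0 hfac'
      have h2 := hfac p hp
      have h3 : p ^ k.factorization p ≤ p ^ sv p a := Nat.pow_le_pow_right hp.pos h2
      have h4 := T2_step hp a ha m' hm'pos hodd hcop h23 hnot2
      rw [hmm'] at h4
      calc k = p ^ k.factorization p * k' := hkk'.symm
        _ ≤ p ^ sv p a * T2 m' := Nat.mul_le_mul h3 h1
        _ ≤ _ := h4

end Cfsg.Agent.Lib.Helper95.NilpNum
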