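/-
Odd-order elements acting on 2-groups with a cyclic subgroup of index at most 2.
-/
import Mathlib

set_option autoImplicit false

namespace Cfsg.Agent.Lib.Helper95.OddAut

variable {G : Type*} [Group G]

/-- An element of odd order normalizing a finite cyclic `2`-subgroup centralizes it. -/
theorem centralizes_cyclic_two (D : Subgroup G) [Finite D] (hc : IsCyclic D) (h2 : IsPGroup 2 D)
    (y : G) (hy : ∀ d ∈ D, y * d * y⁻¹ ∈ D) (hodd : Odd (orderOf y)) :
    ∀ d ∈ D, y * d * y⁻¹ = d := by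
  have hyN : y ∈ Subgroup.normalizer (D : Set G) := by
    apply Subgroup.mem_normalizer_fintype
    exact hy
  set α : MulAut D := D.normalizerMonoidHom ⟨y, hyN⟩ with hα
  have h1 : orderOf α ∣ orderOf y := by
    have := orderOf_map_dvd D.normalizerMonoidHom (⟨y, hyN⟩ : Subgroup.normalizer (D : Set G))
    rwa [Subgroup.orderOf_mk] at this
  have h3 : orderOf α ∣ Nat.card (MulAut D) := orderOf_dvd_natCard α
  rw [IsCyclic.card_mulAut] at h3
  obtain ⟨a, ha⟩ := IsPGroup.iff_card.mp h2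
  have h4 : ∃ b, (Nat.card D).totient = 2 ^ b := by
    rw [ha]
    rcases Nat.eq_zero_or_pos a with h0 | hpos
    · refine ⟨0, ?_⟩
      rw [h0]
      simp
    · refine ⟨a - 1, ?_⟩
      rw [Nat.totient_prime_pow Nat.prime_two hpos]
      simp
  obtain ⟨b, hb⟩ := h4
  rw [hb] at h3
  have h5 : orderOf α = 1 := by
    have hcop : Nat.Coprime (orderOf y) (2 ^ b) :=
      Nat.Coprime.pow_right b (Nat.Coprime.symm (Nat.coprime_two_left.mpr hodd))
    exact Nat.eq_one_of_dvd_coprimes hcop h1 h3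
  have h6 : α = 1 := orderOf_eq_one_iff.mp h5
  intro d hd
  have h7 : α ⟨d, hd⟩ = ⟨d, hd⟩ := by rw [h6]; rfl
  have h8 : ((α ⟨d, hd⟩ : D) : G) = y * d * y⁻¹ := rfl
  rw [← h8, h7]

/-- Stability: if `y` of odd order centralizes a `2`-subgroup `D` and moves `x` only by an
element of `D`, then `y` centralizes `x`. -/
theorem centralizes_of_comm_mem (D : Subgroup G) (h2 : IsPGroup 2 D) (y : G)
    (hodd : Odd (orderOf y)) (hD : ∀ d ∈ D, y * d * y⁻¹ = d) (x : G)
    (hx : y * x * y⁻¹ * x⁻¹ ∈ D) : y * x * y⁻¹ = x := by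
  obtain ⟨d, hd⟩ : ∃ d, d = y * x * y⁻¹ * x⁻¹ := ⟨_, rfl⟩
  rw [← hd] at hx
  have hyx : y * x * y⁻¹ = d * x := by rw [hd]; group
  have hpow : ∀ k : ℕ, y ^ k * x * (y ^ k)⁻¹ = d ^ k * x := by
    intro k
    induction k with
    | zero => simp
    | succ k ih =>
      have h1 : y ^ (k + 1) * x * (y ^ (k + 1))⁻¹ = y * (y ^ k * x * (y ^ k)⁻¹) * y⁻¹ := by
        rw [pow_succ']
        group
      rw [h1, ih]
      have h2 : y * (d ^ k * x) * y⁻¹ = (y * d ^ k * y⁻¹) * (y * x * y⁻¹) := by group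
      rw [h2, hD _ (Subgroup.pow_mem _ hx k), hyx, pow_succ, mul_assoc]
  have h1 := hpow (orderOf y)
  rw [pow_orderOf_eq_one, one_mul, inv_one, mul_one] at h1
  have h3 : d ^ orderOf y = 1 := by
    have := h1.symm
    rwa [mul_eq_right] at this
  have h4 : orderOf d ∣ orderOf y := orderOf_dvd_of_pow_eq_one h3
  obtain ⟨k, hk⟩ := h2 ⟨d, hx⟩
  have h5 : d ^ 2 ^ k = 1 := by
    have := congrArg Subtype.val hk
    simpa using this
  have h6 : orderOf d ∣ 2 ^ k := orderOf_dvd_of_pow_eq_one h5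
  have hcop : Nat.Coprime (orderOf y) (2 ^ k) :=
    Nat.Coprime.pow_right k (Nat.Coprime.symm (Nat.coprime_two_left.mpr hodd))
  have h7 : orderOf d = 1 := Nat.eq_one_of_dvd_coprimes hcop h4 h6
  rw [hyx, orderOf_eq_one_iff.mp h7, one_mul]

/-- index-two membership: two elements of `Q` outside a subgroup `D` of index `2` differ by an
element of `D`. -/
theorem mul_inv_mem_of_relIndex_two {Q D : Subgroup G} (hidx : D.relIndex Q = 2) {u v : G}
    (hu : u ∈ Q) (hv : v ∈ Q) (huD : u ∉ D) (hvD : v ∉ D) : u * v⁻¹ ∈ D := by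
  have h := Subgroup.mul_mem_iff_of_index_two (H := D.subgroupOf Q) hidx
    (a := ⟨u, hu⟩) (b := (⟨v, hv⟩ : Q)⁻¹)
  have h1 : (⟨u, hu⟩ * (⟨v, hv⟩ : Q)⁻¹ : Q) ∈ D.subgroupOf Q := by
    rw [h]
    constructor
    · intro h'
      exact absurd (Subgroup.mem_subgroupOf.mp h') huD
    · intro h'
      rw [Subgroup.inv_mem_iff] at h'
      exact absurd (Subgroup.mem_subgroupOf.mp h') hvD
  exact Subgroup.mem_subgroupOf.mp h1

/-- If `y` of odd order normalizes the `2`-group `Q` and centralizes a subgroup `D` of index `2`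
in `Q`, then `y` centralizes `Q`. -/
theorem centralizes_of_relIndex_two (Q D : Subgroup G) (hDQ : D ≤ Q) (h2 : IsPGroup 2 Q)
    (hidx : D.relIndex Q = 2) (y : G) (hodd : Odd (orderOf y))
    (hyQ : ∀ q ∈ Q, y * q * y⁻¹ ∈ Q) (hyD : ∀ d ∈ D, y * d * y⁻¹ = d) :
    ∀ q ∈ Q, y * q * y⁻¹ = q := by
  intro q hq
  apply centralizes_of_comm_mem D (h2.to_le hDQ) y hodd hyD
  by_cases hqD : q ∈ D
  · rw [hyD q hqD, mul_inv_cancel]
    exact Subgroup.one_mem _
  · apply mul_inv_mem_of_relIndex_two hidx (hyQ q hq) hq _ hqD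
    intro h'
    apply hqD
    have h1 := hyD _ h'
    have h3 : y * q * y⁻¹ = q := by
      have h4 : y * (y * q * y⁻¹) * y⁻¹ = y * q * y⁻¹ := h1
      exact mul_left_cancel (mul_right_cancel h4)
    rw [← h3]
    exact h'

end Cfsg.Agent.Lib.Helper95.OddAut
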