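/-
A 2-group with a cyclic subgroup of index at most 2 admitting a non-trivial action of an element
of odd order is a quaternion group of order 8 (or has order 4).
-/
import Mathlib
import Cfsg.Agent.S0016
import Cfsg.Agent.Lib.Helper95.OddAut

set_option autoImplicit false

namespace Cfsg.Agent.Lib.Helper95.OddAutQ8

open Cfsg.Agent.Lib.Helper95.OddAut

variable {G : Type*} [Group G]

/-- a finite cyclic subgroup has at most one involution -/
theorem involution_unique_of_cyclic (C : Subgroup G) [Finite C] (hC : IsCyclic C) {s t : G}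
    (hs : s ∈ C) (ht : t ∈ C) (hs2 : s ^ 2 = 1) (ht2 : t ^ 2 = 1) (hs1 : s ≠ 1) (ht1 : t ≠ 1) :
    s = t := by
  classical
  by_contra hne
  have := Fintype.ofFinite C
  have h := IsCyclic.card_pow_eq_one_le (α := C) (n := 2) (by norm_num)
  have hsub : ({1, ⟨s, hs⟩, ⟨t, ht⟩} : Finset C) ⊆ Finset.univ.filter (fun a : C => a ^ 2 = 1) := by
    intro x hx
    simp only [Finset.mem_insert, Finset.mem_singleton] at hx
    simp only [Finset.mem_filter, Finset.mem_univ, true_and]
    rcases hx with rfl | rfl | rfl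
    · simp
    · exact Subtype.ext hs2
    · exact Subtype.ext ht2
  have hcard : ({1, ⟨s, hs⟩, ⟨t, ht⟩} : Finset C).card = 3 := by
    rw [Finset.card_insert_of_notMem, Finset.card_insert_of_notMem, Finset.card_singleton]
    · simp only [Finset.mem_singleton]
      intro h'
      exact hne (congrArg Subtype.val h')
    · simp only [Finset.mem_insert, Finset.mem_singleton]
      rintro (h' | h')
      · exact hs1 (congrArg Subtype.val h').symm
      · exact ht1 (congrArg Subtype.val h').symm
  have := Finset.card_le_card hsub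
  omega

theorem card_eq_relIndex_mul_card {H K : Subgroup G} (h : H ≤ K) :
    Nat.card K = H.relIndex K * Nat.card H := by
  have h1 := Subgroup.card_mul_index (H.subgroupOf K)
  have h2 : Nat.card (H.subgroupOf K) = Nat.card H :=
    Nat.card_congr (Subgroup.subgroupOfEquivOfLe h).toEquiv
  rw [h2] at h1
  rw [← h1, mul_comm]
  rfl

/-- squares lie in every subgroup of index two -/
theorem sq_mem_of_relIndex_two {Q E : Subgroup G} (hidx : E.relIndex Q = 2) {q : G} (hq : q ∈ Q) :
    q ^ 2 ∈ E := by
  have h := Subgroup.mul_mem_iff_of_index_two (H := E.subgroupOf Q) hidx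
    (a := ⟨q, hq⟩) (b := ⟨q, hq⟩)
  have h1 : (⟨q, hq⟩ * ⟨q, hq⟩ : Q) ∈ E.subgroupOf Q := h.mpr Iff.rfl
  have h2 := Subgroup.mem_subgroupOf.mp h1
  rw [pow_two]
  exact h2

/-- A finite `2`-subgroup `Q` of order at least `8` with a cyclic subgroup `D` of index at most
`2`, normalized but not centralized by an element `y` of odd order, is a quaternion group of
order `8`. -/
theorem nonempty_mulEquiv_quaternion_of_odd_action [Finite G] (Q D : Subgroup G) (hDQ : D ≤ Q)
    (h2 : IsPGroup 2 Q) (hD : IsCyclic D) (hidx : Nat.card Q ≤ 2 * Nat.card D)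
    (hQ8 : 8 ≤ Nat.card Q) (y : G) (hodd : Odd (orderOf y)) (hyQ : ∀ q ∈ Q, y * q * y⁻¹ ∈ Q)
    (hyC : ∃ q ∈ Q, y * q * y⁻¹ ≠ q) : Nonempty (Q ≃* QuaternionGroup 2) := by
  classical
  set c : G →* G := (MulAut.conj y).toMonoidHom with hc
  have hc_apply : ∀ g, c g = y * g * y⁻¹ := fun g => rfl
  have hc_inj : Function.Injective c := (MulAut.conj y).injective
  -- `Q` is not cyclic
  have hQnc : ¬ IsCyclic Q := by
    intro hcyc
    obtain ⟨q, hq, hne⟩ := hyC
    exact hne (centralizes_cyclic_two Q hcyc h2 y hyQ hodd q hq)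
  have hDne : D ≠ Q := by
    rintro rfl
    exact hQnc hD
  have hcardQD := card_eq_relIndex_mul_card hDQ
  have hDpos : 0 < Nat.card D := Nat.card_pos
  have hrel : D.relIndex Q = 2 := by
    have h1 : D.relIndex Q ≠ 1 := by
      intro h
      exact hDne (le_antisymm hDQ (Subgroup.relIndex_eq_one.mp h))
    have h0 : D.relIndex Q ≠ 0 := by
      intro h
      rw [h, zero_mul] at hcardQD
      have : 0 < Nat.card Q := Nat.card_pos
      omega
    have hle : D.relIndex Q ≤ 2 := by
      by_contra hgt
      push Not at hgt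
      have : 3 * Nat.card D ≤ D.relIndex Q * Nat.card D := Nat.mul_le_mul_right _ hgt
      omega
    omega
  have hcardQ : Nat.card Q = 2 * Nat.card D := by rw [hcardQD, hrel]
  have hrelE : ∀ E : Subgroup G, E ≤ Q → Nat.card E = Nat.card D → E.relIndex Q = 2 := by
    intro E hEQ hE
    have h := card_eq_relIndex_mul_card hEQ
    rw [hE, hcardQ] at h
    exact Nat.eq_of_mul_eq_mul_right hDpos h.symm
  have heqE : ∀ E E' : Subgroup G, E ≤ E' → Nat.card E = Nat.card D →
      Nat.card E' = Nat.card D → E = E' := by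
    intro E E' hle h1 h2
    exact Subgroup.eq_of_le_of_card_ge hle (by rw [h1, h2])
  -- the conjugates of `D`
  set D2 := D.map c with hD2
  have hD2Q : D2 ≤ Q := by
    rintro _ ⟨d, hd, rfl⟩
    exact hyQ d (hDQ hd)
  have hD2card : Nat.card D2 = Nat.card D := Subgroup.card_map_of_injective hc_inj
  have hD2ne : D2 ≠ D := by
    intro h
    have hyD : ∀ d ∈ D, y * d * y⁻¹ ∈ D := by
      intro d hd
      have h1 : c d ∈ D2 := Subgroup.mem_map_of_mem c hd
      rw [h] at h1
      exact h1
    have hcent := centralizes_cyclic_two D hD (h2.to_le hDQ) y hyD hodd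
    obtain ⟨q, hq, hne⟩ := hyC
    exact hne (centralizes_of_relIndex_two Q D hDQ h2 hrel y hodd hyQ hcent q hq)
  set D3 := D2.map c with hD3
  have hD3Q : D3 ≤ Q := by
    rintro _ ⟨d, hd, rfl⟩
    exact hyQ d (hD2Q hd)
  have hD3card : Nat.card D3 = Nat.card D := by
    rw [hD3, Subgroup.card_map_of_injective hc_inj, hD2card]
  have hD3ne2 : D3 ≠ D2 := by
    intro h
    exact hD2ne (Subgroup.map_injective hc_inj h)
  have hD3ne : D3 ≠ D := by
    intro h
    apply hD2ne
    have hy2 : ∀ d ∈ D, (y ^ 2) * d * (y ^ 2)⁻¹ ∈ D := by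
      intro d hd
      have h1 : c (c d) ∈ D3 := Subgroup.mem_map_of_mem c (Subgroup.mem_map_of_mem c hd)
      rw [h] at h1
      have h' : c (c d) = y ^ 2 * d * (y ^ 2)⁻¹ := by
        rw [hc_apply, hc_apply, pow_two]
        group
      rw [← h']
      exact h1
    have hN2 : y ^ 2 ∈ Subgroup.normalizer (D : Set G) := Subgroup.mem_normalizer_fintype hy2
    have hN : y ∈ Subgroup.normalizer (D : Set G) := by
      by_cases h1 : orderOf y = 1
      · rw [orderOf_eq_one_iff.mp h1]
        exact Subgroup.one_mem _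
      · have hpos : 0 < orderOf y := hodd.pos
        have hgt : 1 < orderOf y := by omega
        have hcop : Nat.Coprime 2 (orderOf y) := Nat.coprime_two_left.mpr hodd
        obtain ⟨m, -, hm⟩ := Nat.exists_mul_mod_eq_one_of_coprime hcop hgt
        have h2 : y = (y ^ 2) ^ m := by
          rw [← pow_mul, ← pow_mod_orderOf, hm, pow_one]
        rw [h2]
        exact Subgroup.pow_mem _ hN2 m
    apply heqE D2 D _ hD2card rfl
    rintro _ ⟨d, hd, rfl⟩
    exact ((Subgroup.mem_normalizer_iff.mp hN) d).mp hd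
  have hD2cyc : IsCyclic D2 := by
    have := hD
    exact isCyclic_of_surjective (D.equivMapOfInjective c hc_inj) (MulEquiv.surjective _)
  have hD3cyc : IsCyclic D3 := by
    have := hD2cyc
    exact isCyclic_of_surjective (D2.equivMapOfInjective c hc_inj) (MulEquiv.surjective _)
  -- a generator of `D`
  obtain ⟨⟨d, hdD⟩, hgen⟩ := hD.exists_generator
  have hgen' : ∀ x ∈ D, ∃ k : ℤ, d ^ k = x := by
    intro x hx
    obtain ⟨k, hk⟩ := Subgroup.mem_zpowers_iff.mp (hgen ⟨x, hx⟩)
    exact ⟨k, by simpa using congrArg Subtype.val hk⟩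
  have hDz : D = Subgroup.zpowers d := by
    apply le_antisymm
    · intro x hx
      obtain ⟨k, hk⟩ := hgen' x hx
      exact Subgroup.mem_zpowers_iff.mpr ⟨k, hk⟩
    · exact Subgroup.zpowers_le.mpr hdD
  have hord : orderOf d = Nat.card D := by
    rw [← Nat.card_zpowers, ← hDz]
  have hrel2 := hrelE D2 hD2Q hD2card
  have hrel3 := hrelE D3 hD3Q hD3card
  have hdQ : d ∈ Q := hDQ hdD
  have hd2 : d ∉ D2 := by
    intro h
    apply hD2ne
    symm
    apply heqE D D2 _ rfl hD2card
    rw [hDz]
    exact Subgroup.zpowers_le.mpr h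
  have hsq2 : d ^ 2 ∈ D2 := sq_mem_of_relIndex_two hrel2 hdQ
  have hsq3 : d ^ 2 ∈ D3 := sq_mem_of_relIndex_two hrel3 hdQ
  -- `D ⊓ D2 ≤ D3`
  have hZ3 : ∀ z, z ∈ D → z ∈ D2 → z ∈ D3 := by
    intro z hz hz2
    obtain ⟨k, rfl⟩ := hgen' z hz
    rcases Int.even_or_odd' k with ⟨m, rfl | rfl⟩
    · have : d ^ (2 * m) = (d ^ 2) ^ m := by
        rw [zpow_mul, zpow_ofNat]
      rw [this]
      exact Subgroup.zpow_mem _ hsq3 m
    · exfalso
      apply hd2
      have : d = d ^ (2 * m + 1) * ((d ^ 2) ^ m)⁻¹ := by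
        rw [zpow_add, zpow_mul, zpow_one, zpow_ofNat]
        group
      rw [this]
      exact Subgroup.mul_mem _ hz2 (Subgroup.inv_mem _ (Subgroup.zpow_mem _ hsq2 m))
  -- the involution `z0`
  obtain ⟨a, ha⟩ := IsPGroup.iff_card.mp (h2.to_le hDQ)
  have ha2 : 2 ≤ a := by
    by_contra h
    push Not at h
    have : Nat.card D ≤ 2 := by
      rw [ha]
      interval_cases a <;> simp
    omega
  obtain ⟨z0, hz0⟩ : ∃ z0, z0 = (d ^ 2) ^ (2 ^ (a - 2)) := ⟨_, rfl⟩
  have hz0D : z0 ∈ D := by
    rw [hz0]
    exact Subgroup.pow_mem _ (Subgroup.pow_mem _ hdD 2) _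
  have hz0D2 : z0 ∈ D2 := by
    rw [hz0]
    exact Subgroup.pow_mem _ hsq2 _
  have hz0D3 : z0 ∈ D3 := by
    rw [hz0]
    exact Subgroup.pow_mem _ hsq3 _
  have hz0eq : z0 = d ^ (2 ^ (a - 1)) := by
    rw [hz0, ← pow_mul]
    congr 1
    have : a - 1 = (a - 2) + 1 := by omega
    rw [this, pow_succ, mul_comm]
  have hz0sq : z0 ^ 2 = 1 := by
    rw [hz0eq, ← pow_mul, ← pow_succ]
    have : a - 1 + 1 = a := by omega
    rw [this, ← ha, ← hord, pow_orderOf_eq_one]
  have hz0ne : z0 ≠ 1 := by
    rw [hz0eq]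
    intro h
    have h1 := orderOf_dvd_of_pow_eq_one h
    rw [hord, ha] at h1
    have h3 : 2 ^ a ≤ 2 ^ (a - 1) := Nat.le_of_dvd (by positivity) h1
    have h4 : 2 ^ (a - 1) < 2 ^ a := Nat.pow_lt_pow_right (by norm_num) (by omega)
    omega
  -- uniqueness of the involution
  have huniq_inv : ∀ t ∈ Q, t ^ 2 = 1 → t ≠ 1 → t = z0 := by
    intro t htQ ht2 ht1
    by_cases htD : t ∈ D
    · exact involution_unique_of_cyclic D hD htD hz0D ht2 hz0sq ht1 hz0ne
    · by_cases htD2 : t ∈ D2
      · exact involution_unique_of_cyclic D2 hD2cyc htD2 hz0D2 ht2 hz0sq ht1 hz0ne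
      · have htD3 : t ∈ D3 := by
          have hd3mem : c (c d) ∈ D3 :=
            Subgroup.mem_map_of_mem c (Subgroup.mem_map_of_mem c hdD)
          have hd3Q : c (c d) ∈ Q := hD3Q hd3mem
          have hd3D : c (c d) ∉ D := by
            intro h
            apply hD3ne
            apply heqE D3 D _ hD3card rfl
            rintro _ ⟨x, ⟨w, hw, rfl⟩, rfl⟩
            obtain ⟨k, rfl⟩ := hgen' w hw
            rw [map_zpow, map_zpow]
            exact Subgroup.zpow_mem _ h k
          have hd3D2 : c (c d) ∉ D2 := by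
            intro h
            apply hD3ne2
            apply heqE D3 D2 _ hD3card hD2card
            rintro _ ⟨x, ⟨w, hw, rfl⟩, rfl⟩
            obtain ⟨k, rfl⟩ := hgen' w hw
            rw [map_zpow, map_zpow]
            exact Subgroup.zpow_mem _ h k
          have h1 := mul_inv_mem_of_relIndex_two hrel htQ hd3Q htD hd3D
          have h2 := mul_inv_mem_of_relIndex_two hrel2 htQ hd3Q htD2 hd3D2
          have h3 := hZ3 _ h1 h2
          have : t = t * (c (c d))⁻¹ * c (c d) := by group
          rw [this]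
          exact Subgroup.mul_mem _ h3 hd3mem
        exact involution_unique_of_cyclic D3 hD3cyc htD3 hz0D3 ht2 hz0sq ht1 hz0ne
  -- apply the classification of `2`-groups with a unique involution
  have huniq : ∀ A B : Subgroup Q, Nat.card A = 2 → Nat.card B = 2 → A = B := by
    have key : ∀ A : Subgroup Q, Nat.card A = 2 →
        A = Subgroup.zpowers (⟨z0, hDQ hz0D⟩ : Q) := by
      intro A hA
      have hne : A ≠ ⊥ := by
        intro h
        rw [h, Subgroup.card_bot] at hA
        omega
      obtain ⟨x, hx⟩ := (Subgroup.ne_bot_iff_exists_ne_one).mp hne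
      have hx2 : x ^ 2 = 1 := by
        have h := pow_card_eq_one' (G := ↥A) (x := x)
        rw [hA] at h
        exact h
      have hx2' : ((x : Q) : G) ^ 2 = 1 := by
        have := congrArg (fun w : A => ((w : Q) : G)) hx2
        simpa using this
      have hx1' : ((x : Q) : G) ≠ 1 := by
        intro h
        apply hx
        apply Subtype.ext
        apply Subtype.ext
        simpa using h
      have hxz := huniq_inv _ (x : Q).2 hx2' hx1'
      have hxz' : (x : Q) = ⟨z0, hDQ hz0D⟩ := Subtype.ext hxz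
      symm
      apply Subgroup.eq_of_le_of_card_ge
      · rw [Subgroup.zpowers_le, ← hxz']
        exact x.2
      · rw [hA, Nat.card_zpowers]
        have : orderOf (⟨z0, hDQ hz0D⟩ : Q) = 2 := by
          apply orderOf_eq_prime
          · apply Subtype.ext
            simpa using hz0sq
          · intro h
            exact hz0ne (congrArg Subtype.val h)
        rw [this]
    intro A B hA hB
    rw [key A hA, key B hB]
  rcases Cfsg.Agent.S0016.result (G := ↥Q) 2 h2 huniq with hcyc | ⟨-, n, ⟨e⟩⟩
  · exact absurd hcyc hQnc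
  · have hcardn : Nat.card Q = 4 * 2 ^ n := by
      rw [Nat.card_congr e.toEquiv, Nat.card_eq_fintype_card, QuaternionGroup.card]
    have hn0 : n ≠ 0 := by
      rintro rfl
      rw [hcardn] at hQ8
      norm_num at hQ8
    by_cases hn1 : n = 1
    · subst hn1
      exact ⟨e⟩
    · exfalso
      have hn2 : 2 ≤ n := by omega
      have hcardD : Nat.card D = 2 * 2 ^ n := by omega
      have h4 : 4 ≤ 2 ^ n := by
        calc 4 = 2 ^ 2 := by norm_num
          _ ≤ 2 ^ n := Nat.pow_le_pow_right (by norm_num) hn2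
      have hA : ∀ g : G, ∀ hg : g ∈ Q, orderOf g = 2 * 2 ^ n →
          e ⟨g, hg⟩ ∈ Subgroup.zpowers (QuaternionGroup.a 1 : QuaternionGroup (2 ^ n)) := by
        intro g hg hog
        have ho : orderOf (e ⟨g, hg⟩) = 2 * 2 ^ n := by
          rw [MulEquiv.orderOf_eq, Subgroup.orderOf_mk, hog]
        rcases hq : e ⟨g, hg⟩ with k | k
        · have : (QuaternionGroup.a k : QuaternionGroup (2 ^ n)) =
              (QuaternionGroup.a 1) ^ k.val := by
            rw [QuaternionGroup.a_one_pow, ZMod.natCast_zmod_val]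
          rw [this]
          exact Subgroup.pow_mem _ (Subgroup.mem_zpowers _) _
        · rw [hq, QuaternionGroup.orderOf_xa] at ho
          omega
      have hcd : c d ∈ Q := hD2Q (Subgroup.mem_map_of_mem c hdD)
      have hcdD : c d ∉ D := by
        intro h
        apply hD2ne
        apply heqE D2 D _ hD2card rfl
        rintro _ ⟨w, hw, rfl⟩
        obtain ⟨k, rfl⟩ := hgen' w hw
        rw [map_zpow]
        exact Subgroup.zpow_mem _ h k
      have hod : orderOf d = 2 * 2 ^ n := by rw [hord, hcardD]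
      have hocd : orderOf (c d) = 2 * 2 ^ n := by rw [orderOf_injective c hc_inj, hod]
      have hed := hA d hdQ hod
      have hecd := hA (c d) hcd hocd
      have hall : ∀ q : Q, e q ∈
          Subgroup.zpowers (QuaternionGroup.a 1 : QuaternionGroup (2 ^ n)) := by
        rintro ⟨q, hq⟩
        by_cases hqD : q ∈ D
        · obtain ⟨k, hk⟩ := hgen' q hqD
          have : (⟨q, hq⟩ : Q) = (⟨d, hdQ⟩ : Q) ^ k := by
            apply Subtype.ext
            simp [hk]
          rw [this, map_zpow]
          exact Subgroup.zpow_mem _ hed k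
        · have h1 := mul_inv_mem_of_relIndex_two hrel hq hcd hqD hcdD
          obtain ⟨k, hk⟩ := hgen' _ h1
          have : (⟨q, hq⟩ : Q) = (⟨d, hdQ⟩ : Q) ^ k * ⟨c d, hcd⟩ := by
            apply Subtype.ext
            simp [hk]
          rw [this, map_mul, map_zpow]
          exact Subgroup.mul_mem _ (Subgroup.zpow_mem _ hed k) hecd
      have hAtop : Subgroup.zpowers (QuaternionGroup.a 1 : QuaternionGroup (2 ^ n)) = ⊤ := by
        rw [eq_top_iff]
        intro x _
        obtain ⟨q, rfl⟩ := e.surjective x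
        exact hall q
      have hc1 : Nat.card (Subgroup.zpowers (QuaternionGroup.a 1 : QuaternionGroup (2 ^ n))) =
          2 * 2 ^ n := by
        rw [Nat.card_zpowers, QuaternionGroup.orderOf_a_one]
      have hc2 : Nat.card (Subgroup.zpowers (QuaternionGroup.a 1 : QuaternionGroup (2 ^ n))) =
          4 * 2 ^ n := by
        rw [hAtop, Subgroup.card_top, Nat.card_eq_fintype_card, QuaternionGroup.card]
      have : 0 < 2 ^ n := by positivity
      omega

end Cfsg.Agent.Lib.Helper95.OddAutQ8
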