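/-
More on the recognition of `SL(2,3)`: the subgroup `H ⊔ ⟨y⟩` itself, and the fact that two
automorphisms of order three of `Q₈` differ by an inner automorphism and possibly inversion.
-/
import Mathlib
import Cfsg.Agent.Lib.Helper95.SL23

set_option autoImplicit false

namespace Cfsg.Agent.Lib.Helper95.SL23

open QuaternionGroup

variable {G : Type*} [Group G]

/-- If `H ≃ Q₈`, `y ^ 3 = 1` and `y` normalizes but does not centralize `H`, then
`H ⊔ ⟨y⟩ ≃ SL₂(𝔽₃)`. -/
theorem nonempty_sup_zpowers_mulEquiv_SL23 (H : Subgroup G) (e : H ≃* QuaternionGroup 2) (y : G)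
    (hy3 : y ^ 3 = 1) (hyN : ∀ h ∈ H, y * h * y⁻¹ ∈ H) (hyC : ∃ h ∈ H, y * h * y⁻¹ ≠ h) :
    Nonempty (↥(H ⊔ Subgroup.zpowers y) ≃* S) := by
  obtain ⟨i, j, hi, hj, h4, h2, hc, h5, h6, hi2, hcl⟩ :=
    exists_adapted_pair H e y hyN (by intro h hh; rw [hy3]; simp) hyC
  have hU : H ⊔ Subgroup.zpowers y = Subgroup.closure {i, j, y} := by
    apply le_antisymm
    · rw [sup_le_iff]
      constructor
      · refine hcl.trans (Subgroup.closure_mono ?_)
        intro x hx
        rcases hx with rfl | rfl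
        · simp
        · simp
      · rw [Subgroup.zpowers_le]
        exact Subgroup.subset_closure (by simp)
    · rw [Subgroup.closure_le]
      intro x hx
      rcases hx with rfl | rfl | rfl
      · exact Subgroup.mem_sup_left hi
      · exact Subgroup.mem_sup_left hj
      · exact Subgroup.mem_sup_right (Subgroup.mem_zpowers _)
  rw [hU]
  have hiL : i ∈ Subgroup.closure {i, j, y} := Subgroup.subset_closure (by simp)
  have hjL : j ∈ Subgroup.closure {i, j, y} := Subgroup.subset_closure (by simp)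
  have hyL : y ∈ Subgroup.closure {i, j, y} := Subgroup.subset_closure (by simp)
  have hrel : Rels (⟨i, hiL⟩ : Subgroup.closure {i, j, y}) ⟨j, hjL⟩ ⟨y, hyL⟩ :=
    { h4 := by apply Subtype.ext; simpa using h4
      h2 := by apply Subtype.ext; simpa using h2
      hc := by apply Subtype.ext; simpa using hc
      hy3 := by apply Subtype.ext; simpa using hy3
      h5 := by apply Subtype.ext; simpa using h5
      h6 := by apply Subtype.ext; simpa using h6 }
  apply hrel.nonempty_mulEquiv_SL23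
  · intro h
    apply hi2
    have := congrArg Subtype.val h
    simpa using this
  · intro h
    obtain ⟨h', hh', hne⟩ := hyC
    apply hne
    have : y = 1 := by
      have := congrArg Subtype.val h
      simpa using this
    rw [this]
    simp
  · have h1 := Subgroup.closure_closure_coe_preimage (k := ({i, j, y} : Set G))
    rw [← h1]
    congr 1
    ext x
    simp only [Set.mem_insert_iff, Set.mem_singleton_iff, Set.mem_preimage, Subtype.ext_iff]

set_option maxRecDepth 100000 in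
lemma order_three_conj : ∀ s t s' t' : QuaternionGroup 2,
    (∀ p q, q8Fun s t (p * q) = q8Fun s t p * q8Fun s t q) →
    (∀ q, q8Fun s t (q8Fun s t (q8Fun s t q)) = q) →
    (∃ q, q8Fun s t q ≠ q) →
    (∀ p q, q8Fun s' t' (p * q) = q8Fun s' t' p * q8Fun s' t' q) →
    (∀ q, q8Fun s' t' (q8Fun s' t' (q8Fun s' t' q)) = q) →
    (∃ q, q8Fun s' t' q ≠ q) →
    ∃ q : QuaternionGroup 2, (∀ r, q8Fun s' t' r = q * q8Fun s t r * q⁻¹) ∨
      (∀ r, q8Fun s' t' r = q * q8Fun s t (q8Fun s t r) * q⁻¹) := by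
  decide +kernel

/-- Two elements `y, y'` normalizing `H ≃ Q₈`, with cubes centralizing `H` and both acting
non-trivially: `y'` acts on `H` like `q * y` or `q * y ^ 2` for some `q ∈ H`. -/
theorem exists_mul_conj_eq (H : Subgroup G) (e : H ≃* QuaternionGroup 2) (y y' : G)
    (hyN : ∀ h ∈ H, y * h * y⁻¹ ∈ H) (hy3 : ∀ h ∈ H, y ^ 3 * h * (y ^ 3)⁻¹ = h)
    (hyC : ∃ h ∈ H, y * h * y⁻¹ ≠ h)
    (hyN' : ∀ h ∈ H, y' * h * y'⁻¹ ∈ H) (hy3' : ∀ h ∈ H, y' ^ 3 * h * (y' ^ 3)⁻¹ = h)
    (hyC' : ∃ h ∈ H, y' * h * y'⁻¹ ≠ h) :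
    ∃ q ∈ H, (∀ h ∈ H, y' * h * y'⁻¹ = (q * y) * h * (q * y)⁻¹) ∨
      (∀ h ∈ H, y' * h * y'⁻¹ = (q * y ^ 2) * h * (q * y ^ 2)⁻¹) := by
  -- hypotheses of the decidable statement for a given element
  have hyps : ∀ (w : G) (hwN : ∀ h ∈ H, w * h * w⁻¹ ∈ H),
      (∀ h ∈ H, w ^ 3 * h * (w ^ 3)⁻¹ = h) → (∃ h ∈ H, w * h * w⁻¹ ≠ h) →
      (∀ p q, q8Fun (transport H e w hwN (a 1)) (transport H e w hwN (xa 0)) (p * q) =
        q8Fun (transport H e w hwN (a 1)) (transport H e w hwN (xa 0)) p *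
          q8Fun (transport H e w hwN (a 1)) (transport H e w hwN (xa 0)) q) ∧
      (∀ q, q8Fun (transport H e w hwN (a 1)) (transport H e w hwN (xa 0))
        (q8Fun (transport H e w hwN (a 1)) (transport H e w hwN (xa 0))
          (q8Fun (transport H e w hwN (a 1)) (transport H e w hwN (xa 0)) q)) = q) ∧
      (∃ q, q8Fun (transport H e w hwN (a 1)) (transport H e w hwN (xa 0)) q ≠ q) := by
    intro w hwN hw3 hwC
    have hαq : ∀ q, transport H e w hwN q =
        q8Fun (transport H e w hwN (a 1)) (transport H e w hwN (xa 0)) q :=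
      hom_eq_q8Fun (transport H e w hwN)
    have hc := coe_symm_transport H e w hwN
    refine ⟨?_, ?_, ?_⟩
    · intro p q
      rw [← hαq, ← hαq, ← hαq, map_mul]
    · intro q
      rw [← hαq, ← hαq, ← hαq]
      apply e.symm.injective
      apply Subtype.ext
      rw [hc, hc, hc]
      have h := hw3 _ (e.symm q).2
      have h3 : w ^ 3 = w * w * w := by rw [pow_succ, pow_two]
      rw [h3] at h
      calc w * (w * (w * (e.symm q : G) * w⁻¹) * w⁻¹) * w⁻¹
          = w * w * w * (e.symm q : G) * (w * w * w)⁻¹ := by group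
        _ = (e.symm q : G) := h
    · obtain ⟨h, hh, hne⟩ := hwC
      refine ⟨e ⟨h, hh⟩, ?_⟩
      rw [← hαq]
      intro heq
      have h1 := hc (e ⟨h, hh⟩)
      rw [heq, MulEquiv.symm_apply_apply] at h1
      exact hne h1.symm
  obtain ⟨a1, a2, a3⟩ := hyps y hyN hy3 hyC
  obtain ⟨b1, b2, b3⟩ := hyps y' hyN' hy3' hyC'
  obtain ⟨q₀, hq₀⟩ := order_three_conj _ _ _ _ a1 a2 a3 b1 b2 b3
  have hα := hom_eq_q8Fun (transport H e y hyN)
  have hα' := hom_eq_q8Fun (transport H e y' hyN')
  have hc := coe_symm_transport H e y hyN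
  have hc' := coe_symm_transport H e y' hyN'
  refine ⟨(e.symm q₀ : G), (e.symm q₀).2, ?_⟩
  rcases hq₀ with hq | hq
  · left
    intro h hh
    have h1 := hq (e ⟨h, hh⟩)
    rw [← hα, ← hα'] at h1
    have h2 := congrArg (fun r => ((e.symm r : H) : G)) h1
    simp only [map_mul, map_inv, Subgroup.coe_mul, Subgroup.coe_inv] at h2
    rw [hc, hc', MulEquiv.symm_apply_apply] at h2
    rw [h2]
    group
  · right
    intro h hh
    have h1 := hq (e ⟨h, hh⟩)
    rw [← hα, ← hα, ← hα'] at h1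
    have h2 := congrArg (fun r => ((e.symm r : H) : G)) h1
    simp only [map_mul, map_inv, Subgroup.coe_mul, Subgroup.coe_inv] at h2
    rw [hc, hc, hc', MulEquiv.symm_apply_apply] at h2
    rw [h2, pow_two]
    group

end Cfsg.Agent.Lib.Helper95.SL23
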