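/-
Sylow subgroups of symmetric groups: orbit decomposition, elementary abelian abelianisation.
-/
import Cfsg.Agent.S2254
import Mathlib

set_option autoImplicit false

namespace Cfsg.Agent.Lib.Helper95.SylowSym

open Cfsg.Agent.S2255 (restrP restrP_injective)
open Cfsg.Agent.S2254 (orbit_invariant)
open RegularWreathProduct

/-- the `p`-th power of every element lies in the derived subgroup -/
def EA (p : ℕ) (G : Type*) [Group G] : Prop := ∀ x : G, x ^ p ∈ commutator G

theorem map_commutator_le {G H : Type*} [Group G] [Group H] (f : G →* H) :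
    (commutator G).map f ≤ commutator H := by
  rw [← derivedSeries_one, ← derivedSeries_one]
  exact map_derivedSeries_le_derivedSeries f 1

theorem EA_of_surjective {G H : Type*} [Group G] [Group H] (p : ℕ) (f : G →* H)
    (hf : Function.Surjective f) (h : EA p G) : EA p H := by
  intro x
  obtain ⟨y, rfl⟩ := hf x
  rw [← map_pow]
  exact map_commutator_le f ⟨_, h y, rfl⟩

theorem EA_prod {G₁ G₂ : Type*} [Group G₁] [Group G₂] (p : ℕ) (h1 : EA p G₁) (h2 : EA p G₂) :
    EA p (G₁ × G₂) := by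
  intro x
  have e : x ^ p = MonoidHom.inl G₁ G₂ (x.1 ^ p) * MonoidHom.inr G₁ G₂ (x.2 ^ p) := by
    ext <;> simp
  rw [e]
  exact mul_mem (map_commutator_le _ ⟨_, h1 x.1, rfl⟩) (map_commutator_le _ ⟨_, h2 x.2, rfl⟩)

theorem EA_of_subsingleton (p : ℕ) (G : Type*) [Group G] [Subsingleton G] : EA p G := by
  intro x
  rw [Subsingleton.elim (x ^ p) 1]
  exact one_mem _

/-- a group generated by elements of order dividing `p` has elementary abelian abelianisation -/
theorem EA_of_closure {Γ : Type*} [Group Γ] (p : ℕ) (Q : Subgroup Γ) (T : Set Γ)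
    (hT : Subgroup.closure T = Q) (hT1 : ∀ t ∈ T, t ^ p = 1) : EA p Q := by
  subst hT
  set Q := Subgroup.closure T with hQ
  let ψ : Q →* Abelianization Q := (powMonoidHom p).comp Abelianization.of
  have hker : ∀ x : Q, ψ x = 1 := by
    have hle : Q ≤ ψ.ker.map Q.subtype := by
      refine (Subgroup.closure_le _).mpr ?_
      intro t ht
      have htQ : t ∈ Q := Subgroup.subset_closure ht
      refine ⟨⟨t, htQ⟩, ?_, rfl⟩
      rw [SetLike.mem_coe, MonoidHom.mem_ker]
      show Abelianization.of (⟨t, htQ⟩ : Q) ^ p = 1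
      rw [← map_pow]
      have : (⟨t, htQ⟩ : Q) ^ p = 1 := Subtype.ext (by simpa using hT1 t ht)
      rw [this, map_one]
    intro x
    obtain ⟨y, hy, hyx⟩ := hle x.2
    have : y = x := Subtype.ext hyx
    rw [← this]; exact hy
  intro x
  have := hker x
  rw [← Abelianization.ker_of, MonoidHom.mem_ker, map_pow]
  exact this

/-- the embedding of the base group of a regular wreath product -/
def baseHom (D Q : Type*) [Group D] [Group Q] : (Q → D) →* D ≀ᵣ Q where
  toFun f := ⟨f, 1⟩
  map_one' := rfl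
  map_mul' a b := by ext <;> simp [mul_def]

theorem EA_wreath {D Q : Type*} [Group D] [Group Q] [Finite Q] (p : ℕ) (hD : EA p D)
    (hQ : ∀ q : Q, q ^ p = 1) : EA p (D ≀ᵣ Q) := by
  classical
  let ψ : D ≀ᵣ Q →* Abelianization (D ≀ᵣ Q) := (powMonoidHom p).comp Abelianization.of
  have hψ : ∀ w, ψ w = 1 ↔ w ^ p ∈ commutator (D ≀ᵣ Q) := by
    intro w
    rw [← Abelianization.ker_of, MonoidHom.mem_ker, map_pow]; rfl
  have hbase : ψ.comp (baseHom D Q) = 1 := by
    apply MonoidHom.pi_ext
    intro x d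
    show ψ (baseHom D Q (Pi.mulSingle x d)) = 1
    rw [hψ]
    have : baseHom D Q (Pi.mulSingle x d) ^ p =
        ((baseHom D Q).comp (MonoidHom.mulSingle (fun _ : Q => D) x)) (d ^ p) := by
      rw [map_pow]; rfl
    rw [this]
    exact map_commutator_le _ ⟨_, hD d, rfl⟩
  intro w
  rw [← hψ]
  have hw : w = baseHom D Q w.left * inl w.right := by
    ext <;> simp [baseHom, mul_def]
  rw [hw, map_mul]
  have h1 : ψ (baseHom D Q w.left) = 1 := DFunLike.congr_fun hbase w.left
  have h2 : ψ (inl w.right) = 1 := by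
    rw [hψ, ← map_pow, hQ, map_one]; exact one_mem _
  rw [h1, h2, mul_one]

theorem EA_iterated (p : ℕ) (G : Type*) [Group G] [Finite G] (hG : ∀ g : G, g ^ p = 1) (n : ℕ) :
    EA p (IteratedWreathProduct G n) := by
  induction n with
  | zero =>
    intro x
    have : x ^ p = 1 := Subsingleton.elim (α := PUnit) _ _
    rw [this]; exact one_mem _
  | succ n ih => exact EA_wreath p ih hG

/-! ### Orbit decomposition of Sylow subgroups -/

theorem card_map_prod {α : Type} [Fintype α] [DecidableEq α] (s : Set α) [DecidablePred (· ∈ s)]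
    (R₁ : Subgroup (Equiv.Perm {x // x ∈ s})) (R₂ : Subgroup (Equiv.Perm {x // ¬ x ∈ s})) :
    Nat.card ((R₁.prod R₂).map (Equiv.Perm.subtypeCongrHom (· ∈ s))) =
      Nat.card R₁ * Nat.card R₂ := by
  rw [Nat.card_congr ((R₁.prod R₂).equivMapOfInjective _
    (Equiv.Perm.subtypeCongrHom_injective _)).toEquiv.symm,
    Nat.card_congr (Subgroup.prodEquiv _ _).toEquiv, Nat.card_prod]

theorem isPGroup_map_prod {α : Type} [Fintype α] [DecidableEq α] (p : ℕ) [Fact p.Prime]
    (s : Set α) [DecidablePred (· ∈ s)]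
    (R₁ : Subgroup (Equiv.Perm {x // x ∈ s})) (R₂ : Subgroup (Equiv.Perm {x // ¬ x ∈ s}))
    (h1 : IsPGroup p R₁) (h2 : IsPGroup p R₂) :
    IsPGroup p ((R₁.prod R₂).map (Equiv.Perm.subtypeCongrHom (· ∈ s))) := by
  obtain ⟨a, ha⟩ := IsPGroup.iff_card.mp h1
  obtain ⟨b, hb⟩ := IsPGroup.iff_card.mp h2
  exact IsPGroup.of_card (n := a + b) (by rw [card_map_prod, ha, hb, pow_add])

theorem le_map_prod_restr {α : Type} [Fintype α] [DecidableEq α] (P : Subgroup (Equiv.Perm α))
    (s : Set α) [DecidablePred (· ∈ s)]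
    (hinv : ∀ σ ∈ P, ∀ x, σ x ∈ s ↔ x ∈ s) (hinv' : ∀ σ ∈ P, ∀ x, ¬ σ x ∈ s ↔ ¬ x ∈ s) :
    P ≤ ((restrP P (· ∈ s) hinv).range.prod (restrP P (fun x => ¬ x ∈ s) hinv').range).map
      (Equiv.Perm.subtypeCongrHom (· ∈ s)) := by
  intro σ hσ
  refine ⟨(restrP P (· ∈ s) hinv ⟨σ, hσ⟩, restrP P (fun x => ¬ x ∈ s) hinv' ⟨σ, hσ⟩),
    ⟨⟨⟨σ, hσ⟩, rfl⟩, ⟨⟨σ, hσ⟩, rfl⟩⟩, ?_⟩
  ext x
  by_cases hx : x ∈ s
  · rw [Equiv.Perm.subtypeCongrHom_apply, Equiv.Perm.subtypeCongr.left_apply _ _ hx]; rfl
  · rw [Equiv.Perm.subtypeCongrHom_apply, Equiv.Perm.subtypeCongr.right_apply _ _ hx]; rfl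

/-- A Sylow subgroup of a symmetric group with an invariant set is the direct product of Sylow
subgroups of the symmetric groups on the set and on its complement. -/
theorem sylow_decomp {α : Type} [Fintype α] [DecidableEq α] (p : ℕ) [Fact p.Prime]
    (P : Sylow p (Equiv.Perm α)) (s : Set α) [DecidablePred (· ∈ s)]
    (hinv : ∀ σ ∈ P, ∀ x, σ x ∈ s ↔ x ∈ s) :
    ∃ (P₁ : Sylow p (Equiv.Perm {x // x ∈ s})) (P₂ : Sylow p (Equiv.Perm {x // ¬ x ∈ s})),
      (P : Subgroup (Equiv.Perm α)) = ((P₁ : Subgroup (Equiv.Perm {x // x ∈ s})).prod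
        (P₂ : Subgroup (Equiv.Perm {x // ¬ x ∈ s}))).map (Equiv.Perm.subtypeCongrHom (· ∈ s)) := by
  have hinv' : ∀ σ ∈ P, ∀ x, ¬ σ x ∈ s ↔ ¬ x ∈ s := fun σ hσ x => not_congr (hinv σ hσ x)
  set ρ₁ := restrP (P : Subgroup (Equiv.Perm α)) (· ∈ s) hinv with hρ₁
  set ρ₂ := restrP (P : Subgroup (Equiv.Perm α)) (fun x => ¬ x ∈ s) hinv' with hρ₂
  have hP : IsPGroup p (P : Subgroup (Equiv.Perm α)) := P.isPGroup'
  have hp1 : IsPGroup p ρ₁.range :=
    hP.of_surjective ρ₁.rangeRestrict (MonoidHom.rangeRestrict_surjective _)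
  have hp2 : IsPGroup p ρ₂.range :=
    hP.of_surjective ρ₂.rangeRestrict (MonoidHom.rangeRestrict_surjective _)
  have hle := le_map_prod_restr (P : Subgroup (Equiv.Perm α)) s hinv hinv'
  have heq : (ρ₁.range.prod ρ₂.range).map (Equiv.Perm.subtypeCongrHom (· ∈ s)) =
      (P : Subgroup (Equiv.Perm α)) :=
    P.is_maximal' (isPGroup_map_prod p s _ _ hp1 hp2) hle
  have hmax1 : ∀ {R : Subgroup (Equiv.Perm {x // x ∈ s})}, IsPGroup p R → ρ₁.range ≤ R →
      R = ρ₁.range := by
    intro R hR hle1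
    apply le_antisymm _ hle1
    intro r hr
    have hle' : (P : Subgroup (Equiv.Perm α)) ≤
        (R.prod ρ₂.range).map (Equiv.Perm.subtypeCongrHom (· ∈ s)) :=
      hle.trans (Subgroup.map_mono (Subgroup.prod_mono hle1 le_rfl))
    have heq' := P.is_maximal' (isPGroup_map_prod p s _ _ hR hp2) hle'
    have hmem : Equiv.Perm.subtypeCongrHom (· ∈ s) (r, 1) ∈ (P : Subgroup (Equiv.Perm α)) := by
      rw [← heq']
      exact ⟨(r, 1), ⟨hr, one_mem _⟩, rfl⟩
    refine ⟨⟨_, hmem⟩, ?_⟩
    ext x
    show ((Equiv.Perm.subtypeCongrHom (· ∈ s) (r, 1)) (x : α) : α) = _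
    rw [Equiv.Perm.subtypeCongrHom_apply, Equiv.Perm.subtypeCongr.left_apply _ _ x.2]
  have hmax2 : ∀ {R : Subgroup (Equiv.Perm {x // ¬ x ∈ s})}, IsPGroup p R → ρ₂.range ≤ R →
      R = ρ₂.range := by
    intro R hR hle2
    apply le_antisymm _ hle2
    intro r hr
    have hle' : (P : Subgroup (Equiv.Perm α)) ≤
        (ρ₁.range.prod R).map (Equiv.Perm.subtypeCongrHom (· ∈ s)) :=
      hle.trans (Subgroup.map_mono (Subgroup.prod_mono le_rfl hle2))
    have heq' := P.is_maximal' (isPGroup_map_prod p s _ _ hp1 hR) hle'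
    have hmem : Equiv.Perm.subtypeCongrHom (· ∈ s) (1, r) ∈ (P : Subgroup (Equiv.Perm α)) := by
      rw [← heq']
      exact ⟨(1, r), ⟨one_mem _, hr⟩, rfl⟩
    refine ⟨⟨_, hmem⟩, ?_⟩
    ext x
    show ((Equiv.Perm.subtypeCongrHom (· ∈ s) (1, r)) (x : α) : α) = _
    rw [Equiv.Perm.subtypeCongrHom_apply, Equiv.Perm.subtypeCongr.right_apply _ _ x.2]
  exact ⟨⟨ρ₁.range, hp1, hmax1⟩, ⟨ρ₂.range, hp2, hmax2⟩, heq.symm⟩

theorem card_mulZMod (p : ℕ) [NeZero p] : Nat.card (Multiplicative (ZMod p)) = p := by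
  rw [Nat.card_eq_fintype_card, Fintype.card_multiplicative, ZMod.card]

theorem isPretransitive_of_orbit {α : Type*} (N : Subgroup (Equiv.Perm α)) (ω : α)
    (htr : MulAction.orbit N ω = Set.univ) : MulAction.IsPretransitive N α := by
  refine ⟨fun x y => ?_⟩
  have hx : x ∈ MulAction.orbit N ω := by rw [htr]; trivial
  have hy : y ∈ MulAction.orbit N ω := by rw [htr]; trivial
  obtain ⟨a, rfl⟩ := hx
  obtain ⟨b, rfl⟩ := hy
  exact ⟨b * a⁻¹, by simp [mul_smul]⟩

theorem card_split {α : Type} [Fintype α] [DecidableEq α] (s : Set α) [DecidablePred (· ∈ s)] :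
    Nat.card {x // x ∈ s} + Nat.card {x // ¬ x ∈ s} = Nat.card α := by
  rw [Nat.card_eq_fintype_card, Nat.card_eq_fintype_card,
    Nat.card_eq_fintype_card, Fintype.card_subtype_compl]
  have := Fintype.card_subtype_le (· ∈ s)
  omega

/-- Sylow `p`-subgroups of symmetric groups have elementary abelian abelianisation. -/
theorem EA_sylow (p : ℕ) [Fact p.Prime] : ∀ m : ℕ, ∀ (α : Type) [Fintype α] [DecidableEq α],
    Nat.card α = m → ∀ P : Sylow p (Equiv.Perm α), EA p (P : Subgroup (Equiv.Perm α)) := by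
  have hp : p.Prime := Fact.out
  have : NeZero p := ⟨hp.ne_zero⟩
  intro m
  induction m using Nat.strong_induction_on with
  | _ m ih =>
    intro α _ _ hα P
    classical
    rcases isEmpty_or_nonempty α with hempty | hne
    · exact EA_of_subsingleton p _
    · obtain ⟨ω⟩ := hne
      by_cases htr : MulAction.orbit (P : Subgroup (Equiv.Perm α)) ω = Set.univ
      · obtain ⟨k, hk⟩ := P.isPGroup'.card_orbit ω
        have hcard : Nat.card α = p ^ k := by
          rw [← hk, htr]; exact (Nat.card_congr (Equiv.Set.univ α)).symm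
        have e := Sylow.mulEquivIteratedWreathProduct p k α hcard (Multiplicative (ZMod p))
          (card_mulZMod p) P
        have hG : ∀ g : Multiplicative (ZMod p), g ^ p = 1 := by
          intro g
          have := pow_card_eq_one' (G := Multiplicative (ZMod p)) (x := g)
          rwa [card_mulZMod] at this
        exact EA_of_surjective p e.symm.toMonoidHom e.symm.surjective (EA_iterated p _ hG k)
      · set s := MulAction.orbit (P : Subgroup (Equiv.Perm α)) ω with hs
        have hinv : ∀ σ ∈ P, ∀ x, σ x ∈ s ↔ x ∈ s :=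
          orbit_invariant (P : Subgroup (Equiv.Perm α)) ω
        obtain ⟨P₁, P₂, hP⟩ := sylow_decomp p P s hinv
        have hadd := card_split s
        have hs0 : 0 < Nat.card {x // x ∈ s} := by
          have : Nonempty {x // x ∈ s} := ⟨⟨ω, MulAction.mem_orbit_self ω⟩⟩
          exact Nat.card_pos
        have hsc0 : 0 < Nat.card {x // ¬ x ∈ s} := by
          obtain ⟨y, hy⟩ := (Set.ne_univ_iff_exists_notMem s).mp htr
          have : Nonempty {x // ¬ x ∈ s} := ⟨⟨y, hy⟩⟩
          exact Nat.card_pos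
        have h1 := ih _ (by omega) {x // x ∈ s} rfl P₁
        have h2 := ih _ (by omega) {x // ¬ x ∈ s} rfl P₂
        have h12 := EA_prod p h1 h2
        let F : ↥(P₁ : Subgroup (Equiv.Perm {x // x ∈ s})) ×
            ↥(P₂ : Subgroup (Equiv.Perm {x // ¬ x ∈ s})) →* ↥(P : Subgroup (Equiv.Perm α)) :=
          MonoidHom.codRestrict ((Equiv.Perm.subtypeCongrHom (· ∈ s)).comp
            (MonoidHom.prodMap (P₁ : Subgroup (Equiv.Perm {x // x ∈ s})).subtype
              (P₂ : Subgroup (Equiv.Perm {x // ¬ x ∈ s})).subtype))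
            (P : Subgroup (Equiv.Perm α)) (by
              intro x
              rw [hP]
              exact ⟨(x.1, x.2), ⟨x.1.2, x.2.2⟩, rfl⟩)
        refine EA_of_surjective p F ?_ h12
        intro y
        have hy : (y : Equiv.Perm α) ∈ ((P₁ : Subgroup (Equiv.Perm {x // x ∈ s})).prod
            (P₂ : Subgroup (Equiv.Perm {x // ¬ x ∈ s}))).map (Equiv.Perm.subtypeCongrHom (· ∈ s)) :=
          hP ▸ y.2
        obtain ⟨⟨a, b⟩, ⟨ha, hb⟩, hab⟩ := hy
        exact ⟨(⟨a, ha⟩, ⟨b, hb⟩), Subtype.ext hab⟩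

/-! ### Generating sets of involutions whose odd members commute -/

/-- a generating set of involutions (of the source) whose odd members pairwise commute -/
def GoodHom {D : Type*} [Group D] {Λ : Type*} [Fintype Λ] [DecidableEq Λ]
    (θ : D →* Equiv.Perm Λ) : Prop :=
  ∃ S : Set D, Subgroup.closure S = ⊤ ∧ (∀ s ∈ S, s * s = 1) ∧
    ∀ s ∈ S, ∀ s' ∈ S, Equiv.Perm.sign (θ s) = -1 → Equiv.Perm.sign (θ s') = -1 →
      s * s' = s' * s

/-- a generating set of involutions whose odd members pairwise commute -/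
def Good {α : Type*} [Fintype α] [DecidableEq α] (P : Subgroup (Equiv.Perm α)) : Prop :=
  ∃ S : Set (Equiv.Perm α), Subgroup.closure S = P ∧ (∀ s ∈ S, s * s = 1) ∧
    ∀ s ∈ S, ∀ s' ∈ S, Equiv.Perm.sign s = -1 → Equiv.Perm.sign s' = -1 → s * s' = s' * s

theorem Good_range {D : Type*} [Group D] {Λ : Type*} [Fintype Λ] [DecidableEq Λ]
    (θ : D →* Equiv.Perm Λ) (h : GoodHom θ) : Good θ.range := by
  obtain ⟨S, hS, h1, h2⟩ := h
  refine ⟨θ '' S, ?_, ?_, ?_⟩
  · rw [← MonoidHom.map_closure, hS, MonoidHom.range_eq_map]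
  · rintro _ ⟨s, hs, rfl⟩
    rw [← map_mul, h1 s hs, map_one]
  · rintro _ ⟨s, hs, rfl⟩ _ ⟨s', hs', rfl⟩ e e'
    rw [← map_mul, ← map_mul, h2 s hs s' hs' e e']

theorem Good_map {α β : Type*} [Fintype α] [DecidableEq α] [Fintype β] [DecidableEq β]
    (F : Equiv.Perm α →* Equiv.Perm β)
    (hF : ∀ x, Equiv.Perm.sign (F x) = Equiv.Perm.sign x) (P : Subgroup (Equiv.Perm α))
    (h : Good P) : Good (P.map F) := by
  obtain ⟨S, hS, h1, h2⟩ := h
  refine ⟨F '' S, ?_, ?_, ?_⟩
  · rw [← MonoidHom.map_closure, hS]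
  · rintro _ ⟨s, hs, rfl⟩
    rw [← map_mul, h1 s hs, map_one]
  · rintro _ ⟨s, hs, rfl⟩ _ ⟨s', hs', rfl⟩ e e'
    rw [hF] at e e'
    rw [← map_mul, ← map_mul, h2 s hs s' hs' e e']

theorem GoodHom_comp {D : Type*} [Group D] {Λ Λ' : Type*} [Fintype Λ] [DecidableEq Λ]
    [Fintype Λ'] [DecidableEq Λ'] (θ : D →* Equiv.Perm Λ) (F : Equiv.Perm Λ →* Equiv.Perm Λ')
    (hF : ∀ x, Equiv.Perm.sign (F x) = Equiv.Perm.sign x) (h : GoodHom θ) :
    GoodHom (F.comp θ) := by
  obtain ⟨S, hS, h1, h2⟩ := h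
  exact ⟨S, hS, h1, fun s hs s' hs' e e' =>
    h2 s hs s' hs' (by rw [← hF]; exact e) (by rw [← hF]; exact e')⟩

theorem Good_prod {α : Type} [Fintype α] [DecidableEq α] (s : Set α) [DecidablePred (· ∈ s)]
    (R₁ : Subgroup (Equiv.Perm {x // x ∈ s})) (R₂ : Subgroup (Equiv.Perm {x // ¬ x ∈ s}))
    (h1 : Good R₁) (h2 : Good R₂) :
    Good ((R₁.prod R₂).map (Equiv.Perm.subtypeCongrHom (· ∈ s))) := by
  obtain ⟨S₁, hS₁, a1, b1⟩ := h1
  obtain ⟨S₂, hS₂, a2, b2⟩ := h2
  set J := Equiv.Perm.subtypeCongrHom (· ∈ s) with hJ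
  have hsign : ∀ x y, Equiv.Perm.sign (J (x, y)) = Equiv.Perm.sign x * Equiv.Perm.sign y := by
    intro x y
    rw [hJ, Equiv.Perm.subtypeCongrHom_apply, Equiv.Perm.sign_subtypeCongr]
  refine ⟨(fun x => J (x, 1)) '' S₁ ∪ (fun y => J (1, y)) '' S₂, ?_, ?_, ?_⟩
  · apply le_antisymm
    · rw [Subgroup.closure_le]
      rintro _ (⟨x, hx, rfl⟩ | ⟨y, hy, rfl⟩)
      · exact ⟨(x, 1), ⟨hS₁ ▸ Subgroup.subset_closure hx, one_mem _⟩, rfl⟩
      · exact ⟨(1, y), ⟨one_mem _, hS₂ ▸ Subgroup.subset_closure hy⟩, rfl⟩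
    · rintro _ ⟨⟨x, y⟩, ⟨hx, hy⟩, rfl⟩
      have e : J (x, y) = J (x, 1) * J (1, y) := by
        rw [← map_mul]; simp
      rw [e]
      refine mul_mem ?_ ?_
      · have hle : R₁ ≤ (Subgroup.closure ((fun x => J (x, 1)) '' S₁ ∪
            (fun y => J (1, y)) '' S₂)).comap (J.comp (MonoidHom.inl _ _)) := by
          rw [← hS₁, Subgroup.closure_le]
          intro z hz
          exact Subgroup.subset_closure (Or.inl ⟨z, hz, rfl⟩)
        exact hle hx
      · have hle : R₂ ≤ (Subgroup.closure ((fun x => J (x, 1)) '' S₁ ∪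
            (fun y => J (1, y)) '' S₂)).comap (J.comp (MonoidHom.inr _ _)) := by
          rw [← hS₂, Subgroup.closure_le]
          intro z hz
          exact Subgroup.subset_closure (Or.inr ⟨z, hz, rfl⟩)
        exact hle hy
  · rintro _ (⟨x, hx, rfl⟩ | ⟨y, hy, rfl⟩)
    · show J (x, 1) * J (x, 1) = 1
      rw [← map_mul, Prod.mk_mul_mk, a1 x hx, mul_one]
      exact map_one J
    · show J (1, y) * J (1, y) = 1
      rw [← map_mul, Prod.mk_mul_mk, a2 y hy, mul_one]
      exact map_one J
  · rintro _ (⟨x, hx, rfl⟩ | ⟨y, hy, rfl⟩) _ (⟨x', hx', rfl⟩ | ⟨y', hy', rfl⟩) e e'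
    · have ex : Equiv.Perm.sign x = -1 := by
        have := hsign x 1; rw [map_one, mul_one] at this; rw [← this]; exact e
      have ex' : Equiv.Perm.sign x' = -1 := by
        have := hsign x' 1; rw [map_one, mul_one] at this; rw [← this]; exact e'
      show J (x, 1) * J (x', 1) = J (x', 1) * J (x, 1)
      rw [← map_mul, ← map_mul, Prod.mk_mul_mk, Prod.mk_mul_mk, b1 x hx x' hx' ex ex']
    · show J (x, 1) * J (1, y') = J (1, y') * J (x, 1)
      rw [← map_mul, ← map_mul, Prod.mk_mul_mk, Prod.mk_mul_mk, mul_one, one_mul, mul_one,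
        one_mul]
    · show J (1, y) * J (x', 1) = J (x', 1) * J (1, y)
      rw [← map_mul, ← map_mul, Prod.mk_mul_mk, Prod.mk_mul_mk, mul_one, one_mul, mul_one,
        one_mul]
    · have ey : Equiv.Perm.sign y = -1 := by
        have := hsign 1 y; rw [map_one, one_mul] at this; rw [← this]; exact e
      have ey' : Equiv.Perm.sign y' = -1 := by
        have := hsign 1 y'; rw [map_one, one_mul] at this; rw [← this]; exact e'
      show J (1, y) * J (1, y') = J (1, y') * J (1, y)
      rw [← map_mul, ← map_mul, Prod.mk_mul_mk, Prod.mk_mul_mk, b2 y hy y' hy' ey ey']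

theorem sign_toPerm_base {D Q Λ : Type*} [Group D] [Group Q] [MulAction D Λ] [Fintype Q]
    [DecidableEq Q] [Fintype Λ] [DecidableEq Λ] (x : Q) (d : D) :
    Equiv.Perm.sign (toPerm D Q Λ (baseHom D Q (Pi.mulSingle x d))) =
      Equiv.Perm.sign (MulAction.toPermHom D Λ d) := by
  have e : toPerm D Q Λ (baseHom D Q (Pi.mulSingle x d)) =
      Equiv.prodCongrLeft (fun y => (MulAction.toPerm
        (Pi.mulSingle (M := fun _ : Q => D) x d y) : Equiv.Perm Λ)) := by
    ext ⟨l, y⟩ <;> simp [toPerm, baseHom]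
  rw [e, Equiv.Perm.sign_prodCongrLeft, Finset.prod_eq_single x]
  · simp
  · intro y _ hy
    rw [Pi.mulSingle_eq_of_ne hy]
    have h1 : (MulAction.toPerm (1 : D) : Equiv.Perm Λ) = 1 := map_one (MulAction.toPermHom D Λ)
    exact (congrArg Equiv.Perm.sign h1).trans (map_one _)
  · intro h; exact absurd (Finset.mem_univ x) h

theorem sign_toPerm_inl {D Q Λ : Type*} [Group D] [Group Q] [MulAction D Λ] [Fintype Q]
    [DecidableEq Q] [Fintype Λ] [DecidableEq Λ] (hΛ : Even (Fintype.card Λ)) (q : Q) :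
    Equiv.Perm.sign (toPerm D Q Λ (inl q)) = 1 := by
  have e : toPerm D Q Λ (inl q) = Equiv.prodCongrRight (fun _ : Λ => Equiv.mulLeft q) := by
    ext ⟨l, y⟩ <;> simp [toPerm]
  rw [e, Equiv.Perm.sign_prodCongrRight, Finset.prod_const, Finset.card_univ]
  obtain ⟨m, hm⟩ := hΛ
  rw [hm, ← two_mul, pow_mul, Int.units_sq, one_pow]

theorem GoodHom_wreath {D Q Λ : Type*} [Group D] [Group Q] [MulAction D Λ] [Fintype Q]
    [DecidableEq Q] [Fintype Λ] [DecidableEq Λ]
    (q : Q) (hq : ∀ r : Q, r = 1 ∨ r = q) (hq2 : q * q = 1)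
    (hΛ : Even (Fintype.card Λ) ∨ Subsingleton D)
    (h : GoodHom (MulAction.toPermHom D Λ)) : GoodHom (toPerm D Q Λ) := by
  obtain ⟨S, hS, h1, h2⟩ := h
  let σ : Q → D →* D ≀ᵣ Q := fun x =>
    (baseHom D Q).comp (MonoidHom.mulSingle (fun _ : Q => D) x)
  have hσ : ∀ x d, σ x d = baseHom D Q (Pi.mulSingle x d) := fun x d => rfl
  refine ⟨(⋃ x : Q, σ x '' S) ∪ {inl q}, ?_, ?_, ?_⟩
  · set C := Subgroup.closure ((⋃ x : Q, σ x '' S) ∪ {inl q}) with hC
    have hsingle : ∀ x d, σ x d ∈ C := by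
      intro x d
      have hle : (⊤ : Subgroup D) ≤ C.comap (σ x) := by
        rw [← hS, Subgroup.closure_le]
        intro z hz
        exact Subgroup.subset_closure (Or.inl (Set.mem_iUnion.mpr ⟨x, z, hz, rfl⟩))
      exact hle (Subgroup.mem_top d)
    have hbase : ∀ f : Q → D, baseHom D Q f ∈ C := by
      intro f
      have : f ∈ C.comap (baseHom D Q) :=
        Subgroup.pi_mem_of_mulSingle_mem f (fun x => hsingle x (f x))
      exact this
    have hinl : ∀ r : Q, (inl r : D ≀ᵣ Q) ∈ C := by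
      intro r
      rcases hq r with rfl | rfl
      · rw [map_one]; exact one_mem _
      · exact Subgroup.subset_closure (Or.inr rfl)
    rw [eq_top_iff]
    intro w _
    have hw : w = baseHom D Q w.left * inl w.right := by
      ext <;> simp [baseHom, mul_def]
    rw [hw]
    exact mul_mem (hbase _) (hinl _)
  · rintro _ (hmem | rfl)
    · obtain ⟨x, s, hs, rfl⟩ := Set.mem_iUnion.mp hmem
      rw [← map_mul, h1 s hs, map_one]
    · rw [← map_mul, hq2, map_one]
  · rintro _ (hmem | rfl) _ (hmem' | rfl) e e'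
    · obtain ⟨x, s, hs, rfl⟩ := Set.mem_iUnion.mp hmem
      obtain ⟨x', s', hs', rfl⟩ := Set.mem_iUnion.mp hmem'
      have es : Equiv.Perm.sign (MulAction.toPermHom D Λ s) = -1 := by
        rw [← sign_toPerm_base (Q := Q) x s]; exact e
      have es' : Equiv.Perm.sign (MulAction.toPermHom D Λ s') = -1 := by
        rw [← sign_toPerm_base (Q := Q) x' s']; exact e'
      by_cases hxx : x = x'
      · subst hxx
        rw [← map_mul, ← map_mul, h2 s hs s' hs' es es']
      · rw [hσ, hσ, ← map_mul, ← map_mul]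
        congr 1
        exact (Pi.mulSingle_commute (f := fun _ : Q => D) hxx s s').eq
    · obtain ⟨x, s, hs, rfl⟩ := Set.mem_iUnion.mp hmem
      exfalso
      rcases hΛ with hev | hsub
      · rw [sign_toPerm_inl hev] at e'
        exact absurd e' (by decide)
      · have hs1 : s = 1 := Subsingleton.elim _ _
        rw [hs1, map_one, map_one, map_one] at e
        exact absurd e (by decide)
    · obtain ⟨x, s, hs, rfl⟩ := Set.mem_iUnion.mp hmem'
      exfalso
      rcases hΛ with hev | hsub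
      · rw [sign_toPerm_inl hev] at e
        exact absurd e (by decide)
      · have hs1 : s = 1 := Subsingleton.elim _ _
        rw [hs1, map_one, map_one, map_one] at e'
        exact absurd e' (by decide)
    · rfl

theorem GoodHom_iterated : ∀ k : ℕ,
    GoodHom (iteratedWreathToPermHom (Multiplicative (ZMod 2)) k)
  | 0 => by
      refine ⟨∅, ?_, fun s hs => absurd hs (Set.notMem_empty s),
        fun s hs => absurd hs (Set.notMem_empty s)⟩
      rw [eq_top_iff]
      intro x _
      have : x = 1 := Subsingleton.elim (α := PUnit) _ _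
      rw [this]; exact one_mem _
  | k + 1 => by
      let _ := MulAction.compHom (Fin k → Multiplicative (ZMod 2))
        (iteratedWreathToPermHom (Multiplicative (ZMod 2)) k)
      have ih := GoodHom_iterated k
      have ih' : GoodHom (MulAction.toPermHom (IteratedWreathProduct (Multiplicative (ZMod 2)) k)
          (Fin k → Multiplicative (ZMod 2))) := by
        have : MulAction.toPermHom (IteratedWreathProduct (Multiplicative (ZMod 2)) k)
            (Fin k → Multiplicative (ZMod 2)) =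
            iteratedWreathToPermHom (Multiplicative (ZMod 2)) k := by
          ext; rfl
        rw [this]; exact ih
      have hΛ : Even (Fintype.card (Fin k → Multiplicative (ZMod 2))) ∨
          Subsingleton (IteratedWreathProduct (Multiplicative (ZMod 2)) k) := by
        rcases k with _ | k
        · right; exact (inferInstance : Subsingleton PUnit)
        · left
          rw [Fintype.card_fun, Fintype.card_fin, Fintype.card_multiplicative, ZMod.card,
            pow_succ]
          exact even_two.mul_left _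
      have hstep := GoodHom_wreath (D := IteratedWreathProduct (Multiplicative (ZMod 2)) k)
        (Λ := Fin k → Multiplicative (ZMod 2))
        (Multiplicative.ofAdd (1 : ZMod 2)) (by decide) (by decide) hΛ ih'
      exact GoodHom_comp _
        ((Fin.succFunEquiv (Multiplicative (ZMod 2)) k).symm.permCongrHom.toMonoidHom)
        (fun x => Equiv.Perm.sign_permCongr _ x) hstep

theorem Good_sylow_pow {α : Type} [Fintype α] [DecidableEq α] (k : ℕ) (hα : Nat.card α = 2 ^ k)
    (P : Sylow 2 (Equiv.Perm α)) : Good (P : Subgroup (Equiv.Perm α)) := by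
  have hG : Nat.card (Multiplicative (ZMod 2)) = 2 := card_mulZMod 2
  let e1 : α ≃ (Fin k → Multiplicative (ZMod 2)) := (Finite.equivFinOfCardEq hα).trans
    (Finite.equivFinOfCardEq (by rw [Nat.card_fun, Nat.card_fin, hG])).symm
  let f := e1.symm.permCongrHom.toMonoidHom.comp
    (iteratedWreathToPermHom (Multiplicative (ZMod 2)) k)
  have hf : Function.Injective f :=
    (e1.symm.permCongrHom.comp_injective _).mpr
      (iteratedWreathToPermHomInj (Multiplicative (ZMod 2)) k)
  have hgood : Good f.range := Good_range f (GoodHom_comp _ e1.symm.permCongrHom.toMonoidHom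
    (fun x => Equiv.Perm.sign_permCongr _ x) (GoodHom_iterated k))
  have hcard : Nat.card f.range = 2 ^ (Nat.card (Equiv.Perm α)).factorization 2 := by
    rw [Nat.card_congr (MonoidHom.ofInjective hf).symm.toEquiv, IteratedWreathProduct.card, hG,
      Nat.card_perm, hα, ← Nat.multiplicity_eq_factorization Nat.prime_two
        (2 ^ k).factorial_ne_zero, Nat.Prime.multiplicity_factorial_pow Nat.prime_two]
  obtain ⟨g, hg⟩ := MulAction.exists_smul_eq (Equiv.Perm α) (Sylow.ofCard f.range hcard) P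
  have hPeq : (P : Subgroup (Equiv.Perm α)) = f.range.map (MulAut.conj g).toMonoidHom := by
    rw [← hg, Sylow.coe_subgroup_smul, Sylow.coe_ofCard]
    rfl
  rw [hPeq]
  refine Good_map (MulAut.conj g).toMonoidHom (fun x => ?_) _ hgood
  show Equiv.Perm.sign (g * x * g⁻¹) = Equiv.Perm.sign x
  rw [map_mul, map_mul, map_inv, mul_comm (Equiv.Perm.sign g), mul_assoc, mul_inv_cancel,
    mul_one]

theorem Good_sylow : ∀ m : ℕ, ∀ (α : Type) [Fintype α] [DecidableEq α],
    Nat.card α = m → ∀ P : Sylow 2 (Equiv.Perm α), Good (P : Subgroup (Equiv.Perm α)) := by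
  intro m
  induction m using Nat.strong_induction_on with
  | _ m ih =>
    intro α _ _ hα P
    classical
    rcases isEmpty_or_nonempty α with hempty | hne
    · refine ⟨∅, ?_, by simp, by simp⟩
      rw [Subgroup.closure_empty]
      ext x
      simp [Subsingleton.elim x 1]
    · obtain ⟨ω⟩ := hne
      by_cases htr : MulAction.orbit (P : Subgroup (Equiv.Perm α)) ω = Set.univ
      · obtain ⟨k, hk⟩ := P.isPGroup'.card_orbit ω
        have hcard : Nat.card α = 2 ^ k := by
          rw [← hk, htr]; exact (Nat.card_congr (Equiv.Set.univ α)).symm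
        exact Good_sylow_pow k hcard P
      · set s := MulAction.orbit (P : Subgroup (Equiv.Perm α)) ω with hs
        have hinv : ∀ σ ∈ P, ∀ x, σ x ∈ s ↔ x ∈ s :=
          orbit_invariant (P : Subgroup (Equiv.Perm α)) ω
        obtain ⟨P₁, P₂, hP⟩ := sylow_decomp 2 P s hinv
        have hadd := card_split s
        have hs0 : 0 < Nat.card {x // x ∈ s} := by
          have : Nonempty {x // x ∈ s} := ⟨⟨ω, MulAction.mem_orbit_self ω⟩⟩
          exact Nat.card_pos
        have hsc0 : 0 < Nat.card {x // ¬ x ∈ s} := by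
          obtain ⟨y, hy⟩ := (Set.ne_univ_iff_exists_notMem s).mp htr
          have : Nonempty {x // ¬ x ∈ s} := ⟨⟨y, hy⟩⟩
          exact Nat.card_pos
        have h1 := ih _ (by omega) {x // x ∈ s} rfl P₁
        have h2 := ih _ (by omega) {x // ¬ x ∈ s} rfl P₂
        rw [hP]
        exact Good_prod s _ _ h1 h2

/-- If `P` has a generating set of involutions whose odd members commute, then the even part of
`P` is generated by involutions. -/
theorem alt_closure_of_good {α : Type*} [Fintype α] [DecidableEq α]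
    (P : Subgroup (Equiv.Perm α)) (h : Good P) :
    ∃ T : Set (Equiv.Perm α), Subgroup.closure T = P ⊓ alternatingGroup α ∧
      ∀ t ∈ T, t ^ 2 = 1 := by
  obtain ⟨S, hS, h1, h2⟩ := h
  have hsign : ∀ x : Equiv.Perm α, Equiv.Perm.sign x = 1 ∨ Equiv.Perm.sign x = -1 :=
    fun x => Int.units_eq_one_or _
  by_cases hodd : ∃ t ∈ S, Equiv.Perm.sign t = -1
  · obtain ⟨t, htS, ht⟩ := hodd
    have htt : t * t = 1 := h1 t htS
    let T : Set (Equiv.Perm α) :=
      {x | ∃ s ∈ S, Equiv.Perm.sign s = 1 ∧ (x = s ∨ x = t * s * t)} ∪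
        {x | ∃ s ∈ S, Equiv.Perm.sign s = -1 ∧ x = s * t}
    have hSP : ∀ s ∈ S, s ∈ P := fun s hs => hS ▸ Subgroup.subset_closure hs
    have hT2 : ∀ x ∈ T, x ^ 2 = 1 := by
      rintro x (⟨s, hs, -, hx | hx⟩ | ⟨s, hs, hso, hx⟩)
      · rw [hx, sq]; exact h1 s hs
      · rw [hx, sq]
        calc t * s * t * (t * s * t) = t * s * (t * t) * s * t := by group
          _ = t * (s * s) * t := by rw [htt]; group
          _ = 1 := by rw [h1 s hs, mul_one, htt]
      · rw [hx, sq]
        have hc := h2 s hs t htS hso ht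
        calc s * t * (s * t) = s * (t * s) * t := by group
          _ = s * (s * t) * t := by rw [hc]
          _ = (s * s) * (t * t) := by group
          _ = 1 := by rw [h1 s hs, htt, one_mul]
    have hTeven : ∀ x ∈ T, Equiv.Perm.sign x = 1 := by
      rintro x (⟨s, hs, hse, hx | hx⟩ | ⟨s, hs, hso, hx⟩)
      · rw [hx]; exact hse
      · rw [hx, map_mul, map_mul, hse, ht]; rfl
      · rw [hx, map_mul, hso, ht]; rfl
    have hTP : ∀ x ∈ T, x ∈ P := by
      rintro x (⟨s, hs, -, hx | hx⟩ | ⟨s, hs, hso, hx⟩)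
      · rw [hx]; exact hSP s hs
      · rw [hx]; exact mul_mem (mul_mem (hSP t htS) (hSP s hs)) (hSP t htS)
      · rw [hx]; exact mul_mem (hSP s hs) (hSP t htS)
    have hmemT_even : ∀ s ∈ S, Equiv.Perm.sign s = 1 → s ∈ Subgroup.closure T :=
      fun s hs hse => Subgroup.subset_closure (Or.inl ⟨s, hs, hse, Or.inl rfl⟩)
    have hmemT_conj : ∀ s ∈ S, Equiv.Perm.sign s = 1 → t * s * t ∈ Subgroup.closure T :=
      fun s hs hse => Subgroup.subset_closure (Or.inl ⟨s, hs, hse, Or.inr rfl⟩)
    have hmemT_odd : ∀ s ∈ S, Equiv.Perm.sign s = -1 → s * t ∈ Subgroup.closure T :=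
      fun s hs hso => Subgroup.subset_closure (Or.inr ⟨s, hs, hso, rfl⟩)
    have step : ∀ x : Equiv.Perm α, (x ∈ Subgroup.closure T ∨ x * t ∈ Subgroup.closure T) →
        ∀ s ∈ S, (x * s ∈ Subgroup.closure T ∨ x * s * t ∈ Subgroup.closure T) := by
      intro x hx s hs
      rcases hx with hx | hx
      · rcases hsign s with hse | hso
        · left; exact mul_mem hx (hmemT_even s hs hse)
        · right
          rw [mul_assoc]
          exact mul_mem hx (hmemT_odd s hs hso)
      · rcases hsign s with hse | hso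
        · right
          have e : x * s * t = (x * t) * (t * s * t) := by
            calc x * s * t = x * (t * t) * s * t := by rw [htt, mul_one]
              _ = (x * t) * (t * s * t) := by group
          rw [e]
          exact mul_mem hx (hmemT_conj s hs hse)
        · left
          have hc := h2 t htS s hs ht hso
          have e : x * s = (x * t) * (s * t) := by
            calc x * s = x * (t * t) * s := by rw [htt, mul_one]
              _ = x * t * (t * s) := by group
              _ = x * t * (s * t) := by rw [hc]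
          rw [e]
          exact mul_mem hx (hmemT_odd s hs hso)
    have key : ∀ x ∈ Subgroup.closure S,
        x ∈ Subgroup.closure T ∨ x * t ∈ Subgroup.closure T := by
      intro x hx
      induction hx using Subgroup.closure_induction_right with
      | one => left; exact one_mem _
      | mul_right x hx y hy ih => exact step x ih y hy
      | mul_inv_cancel x hx y hy ih =>
        have hyinv : y⁻¹ = y := inv_eq_of_mul_eq_one_left (h1 y hy)
        rw [hyinv]
        exact step x ih y hy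
    have hQ0 : Subgroup.closure T ≤ alternatingGroup α := by
      rw [Subgroup.closure_le]
      intro x hx
      exact Equiv.Perm.mem_alternatingGroup.mpr (hTeven x hx)
    refine ⟨T, le_antisymm ?_ ?_, hT2⟩
    · exact le_inf ((Subgroup.closure_le _).mpr hTP) hQ0
    · rintro x ⟨hxP, hxA⟩
      rw [← hS] at hxP
      rcases key x hxP with hx | hx
      · exact hx
      · exfalso
        have h3 := Equiv.Perm.mem_alternatingGroup.mp (hQ0 hx)
        rw [map_mul, Equiv.Perm.mem_alternatingGroup.mp hxA, ht] at h3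
        exact absurd h3 (by decide)
  · push Not at hodd
    refine ⟨S, ?_, fun s hs => by rw [sq]; exact h1 s hs⟩
    rw [hS]
    symm
    apply inf_eq_left.mpr
    rw [← hS, Subgroup.closure_le]
    intro s hs
    exact Equiv.Perm.mem_alternatingGroup.mpr ((hsign s).resolve_right (hodd s hs))

end Cfsg.Agent.Lib.Helper95.SylowSym
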