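/-
Sylow 2-subgroups of symmetric groups: orbit structure via Legendre's formula.
-/
import Cfsg.Agent.Lib.Helper95.SylowSym
import Mathlib

set_option autoImplicit false

namespace Cfsg.Agent.Lib.Helper95.SylMax

open Cfsg.Agent.Lib.Helper95.SylowSym
open scoped Pointwise

/-- 2-adic valuation of `m!` -/
def v (m : ℕ) : ℕ := padicValNat 2 (Nat.factorial m)

theorem v_zero : v 0 = 0 := by simp [v]

theorem v_two_mul (m : ℕ) : v (2 * m) = v m + m := padicValNat_factorial_mul m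

theorem v_two_mul_add_one (m : ℕ) : v (2 * m + 1) = v (2 * m) :=
  padicValNat_factorial_mul_add m (by norm_num)

theorem v_le (m : ℕ) : 1 ≤ m → v m + 1 ≤ m := by
  induction m using Nat.strong_induction_on with
  | _ m ih =>
    intro hm
    rcases Nat.even_or_odd' m with ⟨j, rfl | rfl⟩
    · rw [v_two_mul]
      have := ih j (by omega) (by omega)
      omega
    · rw [v_two_mul_add_one, v_two_mul]
      rcases Nat.eq_zero_or_pos j with h0 | h0
      · subst h0; rw [v_zero]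
      · have := ih j (by omega) (by omega)
        omega

theorem v_pow (k : ℕ) : v (2 ^ k) + 1 = 2 ^ k := by
  induction k with
  | zero => simp [v]
  | succ k ih =>
    have h2 : 2 ^ (k + 1) = 2 * 2 ^ k := by ring
    rw [h2, v_two_mul]; omega

theorem card_sylow {α : Type} [Fintype α] [DecidableEq α] (P : Sylow 2 (Equiv.Perm α)) :
    Nat.card (P : Subgroup (Equiv.Perm α)) = 2 ^ v (Nat.card α) := by
  have h := Sylow.card_eq_multiplicity P
  rw [Nat.card_perm, Nat.factorization_def _ Nat.prime_two] at h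
  exact h

theorem v_split {α : Type} [Fintype α] [DecidableEq α] (P : Sylow 2 (Equiv.Perm α)) (s : Set α)
    [DecidablePred (· ∈ s)] (hinv : ∀ σ ∈ P, ∀ x, σ x ∈ s ↔ x ∈ s) :
    v (Nat.card α) = v (Nat.card {x // x ∈ s}) + v (Nat.card {x // ¬ x ∈ s}) := by
  obtain ⟨P₁, P₂, hP⟩ := sylow_decomp 2 P s hinv
  have h := card_sylow P
  have h1 := card_sylow P₁
  have h2 := card_sylow P₂
  have h3 : Nat.card (P : Subgroup (Equiv.Perm α)) =
      Nat.card (P₁ : Subgroup (Equiv.Perm {x // x ∈ s})) *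
        Nat.card (P₂ : Subgroup (Equiv.Perm {x // ¬ x ∈ s})) := by
    rw [hP]
    exact card_map_prod s _ _
  rw [h, h1, h2, ← pow_add] at h3
  exact Nat.pow_right_injective le_rfl h3

/-- orbit as a set, in elementary terms -/
def orb {α : Type*} (P : Subgroup (Equiv.Perm α)) (x : α) : Set α := {y | ∃ σ ∈ P, σ x = y}

theorem orb_eq {α : Type*} (P : Subgroup (Equiv.Perm α)) (x : α) :
    orb P x = MulAction.orbit P x := by
  ext y
  constructor
  · rintro ⟨σ, hσ, rfl⟩; exact ⟨⟨σ, hσ⟩, rfl⟩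
  · rintro ⟨⟨σ, hσ⟩, rfl⟩; exact ⟨σ, hσ, rfl⟩

theorem mem_orb_self {α : Type*} (P : Subgroup (Equiv.Perm α)) (x : α) : x ∈ orb P x :=
  ⟨1, P.one_mem, rfl⟩

theorem orb_inv {α : Type*} (P : Subgroup (Equiv.Perm α)) (x : α) :
    ∀ σ ∈ P, ∀ y, σ y ∈ orb P x ↔ y ∈ orb P x := by
  rw [orb_eq]
  exact Cfsg.Agent.S2254.orbit_invariant P x

theorem card_orb_pow {α : Type*} [Finite α] {P : Subgroup (Equiv.Perm α)} (hP : IsPGroup 2 P)
    (x : α) : ∃ a : ℕ, Nat.card (orb P x) = 2 ^ a := by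
  rw [orb_eq]
  exact hP.card_orbit x

/-- transitivity on a set, in elementary terms -/
def TransOn {α : Type*} (P : Subgroup (Equiv.Perm α)) (s : Set α) : Prop :=
  ∀ y ∈ s, ∀ y' ∈ s, ∃ σ ∈ P, σ y = y'

theorem transOn_orb {α : Type*} (P : Subgroup (Equiv.Perm α)) (x : α) : TransOn P (orb P x) := by
  rintro y ⟨σ, hσ, rfl⟩ y' ⟨τ, hτ, rfl⟩
  exact ⟨τ * σ⁻¹, P.mul_mem hτ (P.inv_mem hσ), by simp⟩

theorem eq_orb_of_transOn {α : Type*} (P : Subgroup (Equiv.Perm α)) (s : Set α)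
    (hinv : ∀ σ ∈ P, ∀ y, σ y ∈ s ↔ y ∈ s) (htr : TransOn P s) (x : α) (hx : x ∈ s) :
    s = orb P x := by
  ext y
  constructor
  · intro hy
    exact htr x hx y hy
  · rintro ⟨σ, hσ, rfl⟩
    exact (hinv σ hσ x).mpr hx

theorem card_pow_of_transOn {α : Type*} [Finite α] {P : Subgroup (Equiv.Perm α)}
    (hP : IsPGroup 2 P) (s : Set α)
    (hinv : ∀ σ ∈ P, ∀ y, σ y ∈ s ↔ y ∈ s) (htr : TransOn P s) (hne : s.Nonempty) :
    ∃ a : ℕ, Nat.card s = 2 ^ a := by
  obtain ⟨x, hx⟩ := hne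
  rw [eq_orb_of_transOn P s hinv htr x hx]
  exact card_orb_pow hP x

/-- For `n = 2 ^ k + 1`, a Sylow 2-subgroup of the symmetric group fixes a point and is
transitive on the remaining points. -/
theorem exists_fixed_point {α : Type} [Fintype α] [DecidableEq α] (P : Sylow 2 (Equiv.Perm α))
    (k : ℕ) (hk : 1 ≤ k) (hα : Nat.card α = 2 ^ k + 1) :
    ∃ w : α, (∀ σ ∈ P, σ w = w) ∧ ∀ y y' : α, y ≠ w → y' ≠ w → ∃ σ ∈ P, σ y = y' := by
  classical
  have hcard := card_sylow P
  obtain ⟨k', rfl⟩ : ∃ k', k = k' + 1 := ⟨k - 1, by omega⟩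
  have h2k : 2 ^ (k' + 1) = 2 * 2 ^ k' := by ring
  have hvk := v_pow (k' + 1)
  rw [h2k] at hvk hα
  have hvn : v (Nat.card α) = v (2 * 2 ^ k') := by rw [hα, v_two_mul_add_one]
  have hpos : 0 < 2 ^ k' := Nat.pos_of_ne_zero (by positivity)
  have hne : ∃ σ ∈ P, σ ≠ 1 := by
    by_contra hcon
    push Not at hcon
    have hbot : (P : Subgroup (Equiv.Perm α)) = ⊥ := (Subgroup.eq_bot_iff_forall _).mpr hcon
    rw [hbot, Subgroup.card_bot, hvn] at hcard
    have h1 : 1 ≤ v (2 * 2 ^ k') := by omega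
    have h2 : 2 ^ 1 ≤ 2 ^ v (2 * 2 ^ k') := Nat.pow_le_pow_right (by norm_num) h1
    omega
  obtain ⟨σ, hσ, hσ1⟩ := hne
  obtain ⟨x, hx⟩ : ∃ x, σ x ≠ x := by
    by_contra hcon
    push Not at hcon
    exact hσ1 (Equiv.ext hcon)
  have hinv : ∀ τ ∈ P, ∀ y, τ y ∈ orb (P : Subgroup (Equiv.Perm α)) x ↔
      y ∈ orb (P : Subgroup (Equiv.Perm α)) x := orb_inv _ x
  obtain ⟨a, ha⟩ := card_orb_pow P.isPGroup' x
  have hsplit := v_split P (orb (P : Subgroup (Equiv.Perm α)) x) hinv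
  have hadd := card_split (orb (P : Subgroup (Equiv.Perm α)) x)
  have ha1 : 1 ≤ a := by
    by_contra hcon
    have ha0 : a = 0 := by omega
    rw [ha0, pow_zero] at ha
    have hsub : Subsingleton (orb (P : Subgroup (Equiv.Perm α)) x) :=
      (Nat.card_eq_one_iff_unique.mp ha).1
    have := Subsingleton.elim
      (⟨x, mem_orb_self _ x⟩ : orb (P : Subgroup (Equiv.Perm α)) x) ⟨σ x, ⟨σ, hσ, rfl⟩⟩
    exact hx (congrArg Subtype.val this).symm
  obtain ⟨a', rfl⟩ : ∃ a', a = a' + 1 := ⟨a - 1, by omega⟩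
  have h2a : 2 ^ (a' + 1) = 2 * 2 ^ a' := by ring
  have hva := v_pow (a' + 1)
  rw [h2a] at hva ha
  have ha' : Nat.card {y // y ∈ orb (P : Subgroup (Equiv.Perm α)) x} = 2 * 2 ^ a' := ha
  rw [ha', hvn] at hsplit
  rw [ha', hα] at hadd
  have hposa : 0 < 2 ^ a' := Nat.pos_of_ne_zero (by positivity)
  -- the complement has exactly one point
  have hm : Nat.card {y // ¬ y ∈ orb (P : Subgroup (Equiv.Perm α)) x} = 1 := by
    rcases Nat.even_or_odd' (Nat.card {y // ¬ y ∈ orb (P : Subgroup (Equiv.Perm α)) x})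
      with ⟨j, hj | hj⟩
    · omega
    · rw [hj] at hsplit hadd ⊢
      rw [v_two_mul_add_one] at hsplit
      rcases Nat.eq_zero_or_pos j with h0 | h0
      · omega
      · have := v_le (2 * j) (by omega)
        omega
  obtain ⟨hsub, ⟨⟨w, hw⟩⟩⟩ := Nat.card_eq_one_iff_unique.mp hm
  refine ⟨w, ?_, ?_⟩
  · intro τ hτ
    have h1 : ¬ τ w ∈ orb (P : Subgroup (Equiv.Perm α)) x := fun h => hw ((hinv τ hτ w).mp h)
    have := @Subsingleton.elim _ hsub ⟨τ w, h1⟩ ⟨w, hw⟩
    exact congrArg Subtype.val this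
  · intro y y' hy hy'
    have h1 : y ∈ orb (P : Subgroup (Equiv.Perm α)) x := by
      by_contra hcon
      exact hy (congrArg Subtype.val (@Subsingleton.elim _ hsub ⟨y, hcon⟩ ⟨w, hw⟩))
    have h2 : y' ∈ orb (P : Subgroup (Equiv.Perm α)) x := by
      by_contra hcon
      exact hy' (congrArg Subtype.val (@Subsingleton.elim _ hsub ⟨y', hcon⟩ ⟨w, hw⟩))
    exact transOn_orb _ x y h1 y' h2

/-- An invariant set and its complement cannot both have the same 2-power cardinality. -/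
theorem card_ne_of_inv {α : Type} [Fintype α] [DecidableEq α] (P : Sylow 2 (Equiv.Perm α))
    (s : Set α) (hinv : ∀ σ ∈ P, ∀ x, σ x ∈ s ↔ x ∈ s) (a : ℕ)
    (h1 : Nat.card {x // x ∈ s} = 2 ^ a) (h2 : Nat.card {x // ¬ x ∈ s} = 2 ^ a) : False := by
  classical
  have hsplit := v_split P s hinv
  have hadd := card_split s
  rw [h1, h2] at hsplit hadd
  have hva := v_pow a
  have h3 : Nat.card α = 2 * 2 ^ a := by omega
  rw [h3, v_two_mul] at hsplit
  omega

/-- Every Sylow 2-subgroup of `G` is the preimage of a Sylow 2-subgroup of the symmetric group. -/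
theorem exists_sylow_comap {α : Type} [Fintype α] [DecidableEq α] {G : Type*} [Group G]
    (ι : G →* Equiv.Perm α) (hι : Function.Injective ι) (R : Sylow 2 G) :
    ∃ P : Sylow 2 (Equiv.Perm α), (R : Subgroup G) = (P : Subgroup (Equiv.Perm α)).comap ι := by
  obtain ⟨P, hP⟩ := (R.isPGroup'.map ι).exists_le_sylow
  refine ⟨P, ?_⟩
  have hpg : IsPGroup 2 ((P : Subgroup (Equiv.Perm α)).comap ι) :=
    P.isPGroup'.comap_of_injective ι hι
  have hle : (R : Subgroup G) ≤ (P : Subgroup (Equiv.Perm α)).comap ι :=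
    Subgroup.map_le_iff_le_comap.mp hP
  exact (R.is_maximal' hpg hle).symm

/-- A set of pairwise commuting involutions can be conjugated into a given Sylow 2-subgroup. -/
theorem conj_into_sylow {G : Type*} [Group G] [Finite G] (R : Sylow 2 G) (S : Set G)
    (h1 : ∀ s ∈ S, s * s = 1) (h2 : ∀ s ∈ S, ∀ t ∈ S, s * t = t * s) :
    ∃ g : G, ∀ s ∈ S, g * s * g⁻¹ ∈ R := by
  have hc1 : Subgroup.closure S ≤ Subgroup.centralizer S := by
    rw [Subgroup.closure_le]
    intro s hs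
    exact Subgroup.mem_centralizer_iff.mpr (fun t ht => h2 t ht s hs)
  have hc2 : Subgroup.closure S ≤ Subgroup.centralizer (Subgroup.closure S : Set G) := by
    rw [Subgroup.closure_le]
    intro s hs
    refine Subgroup.mem_centralizer_iff.mpr (fun t ht => ?_)
    exact ((Subgroup.mem_centralizer_iff.mp (hc1 ht)) s hs).symm
  have hsq : ∀ x ∈ Subgroup.closure S, x * x = 1 := by
    intro x hx
    induction hx using Subgroup.closure_induction with
    | mem y hy => exact h1 y hy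
    | one => exact one_mul 1
    | mul a b ha hb iha ihb =>
      have hab : b * a = a * b := Subgroup.mem_centralizer_iff.mp (hc2 ha) b hb
      calc a * b * (a * b) = a * (b * a) * b := by simp only [mul_assoc]
        _ = a * (a * b) * b := by rw [hab]
        _ = (a * a) * (b * b) := by simp only [mul_assoc]
        _ = 1 := by rw [iha, ihb, mul_one]
    | inv a ha iha =>
      rw [← mul_inv_rev, iha, inv_one]
  have hpg : IsPGroup 2 (Subgroup.closure S) := by
    intro x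
    refine ⟨1, ?_⟩
    rw [pow_one, sq]
    exact Subtype.ext (hsq x.1 x.2)
  obtain ⟨Q, hQ⟩ := hpg.exists_le_sylow
  obtain ⟨g, hg⟩ := MulAction.exists_smul_eq G Q R
  refine ⟨g, fun s hs => ?_⟩
  have hsQ : s ∈ Q := hQ (Subgroup.subset_closure hs)
  rw [← hg, Sylow.smul_def]
  show g * s * g⁻¹ ∈ MulAut.conj g • (Q : Subgroup G)
  exact Subgroup.smul_mem_pointwise_smul s (MulAut.conj g) (Q : Subgroup G) hsQ

end Cfsg.Agent.Lib.Helper95.SylMax
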