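/-
Permutation-group lemmas: 2-transitivity, three-cycles from double transpositions.
-/
import Mathlib

set_option autoImplicit false
set_option linter.unusedSectionVars false

namespace Cfsg.Agent.Lib.Helper95.SylMax

open Equiv
open scoped Pointwise

section perm

variable {α : Type*} [Fintype α] [DecidableEq α]

theorem inv_apply_self' (e : Perm α) (m : α) : e⁻¹ (e m) = m := e.symm_apply_apply m

theorem apply_inv_self' (e : Perm α) (m : α) : e (e⁻¹ m) = m := e.apply_symm_apply m

theorem conj_swap (g : Perm α) (a b : α) : g * swap a b * g⁻¹ = swap (g a) (g b) :=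
  (Equiv.swap_apply_apply g a b).symm

theorem conj_swap_mul (g : Perm α) (a b c d : α) :
    g * (swap a b * swap c d) * g⁻¹ = swap (g a) (g b) * swap (g c) (g d) := by
  rw [← conj_swap, ← conj_swap]; group

theorem swap_comm_of (a b c d : α) (h : [a, b, c, d].Nodup) : Commute (swap a b) (swap c d) :=
  (Equiv.Perm.disjoint_swap_swap h).commute

theorem sign_swap_mul_swap {a b c d : α} (hab : a ≠ b) (hcd : c ≠ d) :
    Equiv.Perm.sign (swap a b * swap c d) = 1 := by
  rw [map_mul, Equiv.Perm.sign_swap hab, Equiv.Perm.sign_swap hcd]; rfl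

/-- the Klein four-group relation -/
theorem v4_mul (a b c d : α) (h : [a, b, c, d].Nodup) :
    swap a b * swap c d * (swap a c * swap b d) = swap a d * swap b c := by
  ext x
  simp only [Perm.mul_apply, swap_apply_def]
  grind

theorem v4_comm (a b c d : α) (h : [a, b, c, d].Nodup) :
    swap a b * swap c d * (swap a c * swap b d) = swap a c * swap b d * (swap a b * swap c d) := by
  ext x
  simp only [Perm.mul_apply, swap_apply_def]
  grind

theorem dswap_mul_self (a b c d : α) (h : [a, b, c, d].Nodup) :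
    swap a b * swap c d * (swap a b * swap c d) = 1 := by
  have c1 := swap_comm_of a b c d h
  calc swap a b * swap c d * (swap a b * swap c d)
      = swap a b * (swap c d * swap a b) * swap c d := by simp only [mul_assoc]
    _ = swap a b * (swap a b * swap c d) * swap c d := by rw [c1.eq]
    _ = (swap a b * swap a b) * (swap c d * swap c d) := by simp only [mul_assoc]
    _ = 1 := by rw [Equiv.swap_mul_self, Equiv.swap_mul_self, one_mul]

theorem threeCycle_sq_aux (A B Z e f u v : α) (h : [A, B, Z, e, f, u, v].Nodup) :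
    ((swap A B * swap e f * (swap A Z * swap u v)) ^ 2).IsThreeCycle := by
  have c1 : Commute (swap e f) (swap A Z) := swap_comm_of _ _ _ _ (by grind)
  have c2 : Commute (swap e f) (swap A B) := swap_comm_of _ _ _ _ (by grind)
  have c3 : Commute (swap u v) (swap A B) := swap_comm_of _ _ _ _ (by grind)
  have c4 : Commute (swap u v) (swap A Z) := swap_comm_of _ _ _ _ (by grind)
  have c5 : Commute (swap e f) (swap u v) := swap_comm_of _ _ _ _ (by grind)
  have e1 : swap A B * swap e f * (swap A Z * swap u v) =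
      (swap A B * swap A Z) * (swap e f * swap u v) := by
    calc swap A B * swap e f * (swap A Z * swap u v)
        = swap A B * (swap e f * swap A Z) * swap u v := by simp only [mul_assoc]
      _ = swap A B * (swap A Z * swap e f) * swap u v := by rw [c1.eq]
      _ = _ := by simp only [mul_assoc]
  have c6 : Commute (swap A B * swap A Z) (swap e f * swap u v) :=
    Commute.mul_left (Commute.mul_right c2.symm c3.symm) (Commute.mul_right c1.symm c4.symm)
  have e2 : (swap e f * swap u v) ^ 2 = 1 := by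
    rw [c5.mul_pow, sq, sq, Equiv.swap_mul_self, Equiv.swap_mul_self, one_mul]
  rw [e1, c6.mul_pow, e2, mul_one, sq]
  exact Equiv.Perm.IsThreeCycle.isThreeCycle_sq
    (Equiv.Perm.isThreeCycle_swap_mul_swap_same (by grind) (by grind) (by grind))

theorem threeCycle_mul_aux (A W Z u v : α) (h : [A, W, Z, u, v].Nodup) :
    (swap A W * swap u v * (swap A Z * swap u v)).IsThreeCycle := by
  have c4 : Commute (swap u v) (swap A Z) := swap_comm_of _ _ _ _ (by grind)
  have e : swap A W * swap u v * (swap A Z * swap u v) = swap A W * swap A Z := by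
    calc swap A W * swap u v * (swap A Z * swap u v)
        = swap A W * (swap u v * swap A Z) * swap u v := by simp only [mul_assoc]
      _ = swap A W * (swap A Z * swap u v) * swap u v := by rw [c4.eq]
      _ = swap A W * swap A Z * (swap u v * swap u v) := by simp only [mul_assoc]
      _ = swap A W * swap A Z := by rw [Equiv.swap_mul_self, mul_one]
  rw [e]
  exact Equiv.Perm.isThreeCycle_swap_mul_swap_same (by grind) (by grind) (by grind)

/-- A subgroup containing enough double transpositions and a suitable element contains a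
three-cycle. -/
theorem exists_threeCycle_big (K : Subgroup (Perm α)) (q : Fin 8 → α)
    (hq : Function.Injective q)
    (h1 : swap (q 0) (q 1) * swap (q 2) (q 3) ∈ K)
    (h2 : swap (q 0) (q 1) * swap (q 4) (q 5) ∈ K)
    (h3 : swap (q 0) (q 1) * swap (q 6) (q 7) ∈ K)
    (z : α) (hz : ∀ i, q i ≠ z) (g : Perm α) (hg : g ∈ K) (hg0 : g (q 0) = q 0)
    (hg1 : g (q 1) = z) : ∃ c ∈ K, c.IsThreeCycle := by
  have hgi : ∀ a b, g a = g b → a = b := fun a b h => g.injective h
  have hqi : ∀ i j, q i = q j → i = j := fun i j h => hq h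
  have c1 : swap (q 0) z * swap (g (q 2)) (g (q 3)) ∈ K := by
    have := K.mul_mem (K.mul_mem hg h1) (K.inv_mem hg)
    rwa [conj_swap_mul, hg0, hg1] at this
  have c2 : swap (q 0) z * swap (g (q 4)) (g (q 5)) ∈ K := by
    have := K.mul_mem (K.mul_mem hg h2) (K.inv_mem hg)
    rwa [conj_swap_mul, hg0, hg1] at this
  obtain ⟨u, v, hs, hu, hu2, hv2⟩ : ∃ u v, swap (q 0) z * swap u v ∈ K ∧
      [q 0, q 1, z, u, v].Nodup ∧ (∃ i, u = g (q i)) ∧ (∃ i, v = g (q i)) := by
    by_cases hc : q 1 ≠ g (q 2) ∧ q 1 ≠ g (q 3)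
    · exact ⟨g (q 2), g (q 3), c1, by grind, ⟨2, rfl⟩, ⟨3, rfl⟩⟩
    · exact ⟨g (q 4), g (q 5), c2, by grind, ⟨4, rfl⟩, ⟨5, rfl⟩⟩
  obtain ⟨e, f, hef, hn⟩ : ∃ e f, swap (q 0) (q 1) * swap e f ∈ K ∧
      [q 0, q 1, z, e, f, u, v].Nodup := by
    by_cases hc2 : u ≠ q 2 ∧ u ≠ q 3 ∧ v ≠ q 2 ∧ v ≠ q 3
    · exact ⟨q 2, q 3, h1, by grind⟩
    · by_cases hc4 : u ≠ q 4 ∧ u ≠ q 5 ∧ v ≠ q 4 ∧ v ≠ q 5
      · exact ⟨q 4, q 5, h2, by grind⟩
      · exact ⟨q 6, q 7, h3, by grind⟩
  exact ⟨_, K.pow_mem (K.mul_mem hef hs) 2, threeCycle_sq_aux _ _ _ _ _ _ _ hn⟩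

/-- the five-point version -/
theorem exists_threeCycle_small (K : Subgroup (Perm α)) (a b c d z : α)
    (hnd : [a, b, c, d, z].Nodup) (hall : ∀ y, y = a ∨ y = b ∨ y = c ∨ y = d ∨ y = z)
    (h1 : swap a b * swap c d ∈ K) (h2 : swap a c * swap b d ∈ K)
    (h3 : swap a d * swap b c ∈ K)
    (g : Perm α) (hg : g ∈ K) (hg0 : g a = a) (hg1 : g b = z) : ∃ t ∈ K, t.IsThreeCycle := by
  have hgi : ∀ x y, g x = g y → x = y := fun x y h => g.injective h
  have hs : swap a z * swap (g c) (g d) ∈ K := by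
    have := K.mul_mem (K.mul_mem hg h1) (K.inv_mem hg)
    rwa [conj_swap_mul, hg0, hg1] at this
  obtain ⟨W, u, v, hτ, huv, hn⟩ : ∃ W u v, swap a W * swap u v ∈ K ∧
      swap (g c) (g d) = swap u v ∧ [a, W, z, u, v].Nodup := by
    have hc := hall (g c)
    have hd := hall (g d)
    rcases hc with hc | hc | hc | hc | hc <;> rcases hd with hd | hd | hd | hd | hd
    all_goals first
      | (refine ⟨d, b, c, h3, ?_, ?_⟩
         · rw [hc, hd]
         · grind)
      | (refine ⟨d, b, c, h3, ?_, ?_⟩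
         · rw [hc, hd, Equiv.swap_comm]
         · grind)
      | (refine ⟨c, b, d, h2, ?_, ?_⟩
         · rw [hc, hd]
         · grind)
      | (refine ⟨c, b, d, h2, ?_, ?_⟩
         · rw [hc, hd, Equiv.swap_comm]
         · grind)
      | (refine ⟨b, c, d, h1, ?_, ?_⟩
         · rw [hc, hd]
         · grind)
      | (refine ⟨b, c, d, h1, ?_, ?_⟩
         · rw [hc, hd, Equiv.swap_comm]
         · grind)
      | (exfalso; grind)
  rw [huv] at hs
  exact ⟨_, K.mul_mem hτ hs, threeCycle_mul_aux a W z u v hn⟩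

/-- two-transitivity from a transitive point stabiliser -/
theorem two_trans_of_stab (K : Subgroup (Perm α)) (x : α)
    (h1 : ∀ y y', y ≠ x → y' ≠ x → ∃ g ∈ K, g x = x ∧ g y = y')
    (h2 : ∃ g ∈ K, g x ≠ x) :
    ∀ a b c d : α, a ≠ b → c ≠ d → ∃ g ∈ K, g a = c ∧ g b = d := by
  obtain ⟨g0, hg0, hg0x⟩ := h2
  have htr : ∀ a, ∃ g ∈ K, g a = x := by
    intro a
    by_cases ha : a = x
    · exact ⟨1, K.one_mem, ha⟩
    · obtain ⟨k, hk, hkx, hka⟩ := h1 a (g0 x) ha hg0x
      refine ⟨g0⁻¹ * k, K.mul_mem (K.inv_mem hg0) hk, ?_⟩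
      rw [Perm.mul_apply, hka, inv_apply_self']
  intro a b c d hab hcd
  obtain ⟨ga, hga, hgaa⟩ := htr a
  obtain ⟨gc, hgc, hgcc⟩ := htr c
  have hb : ga b ≠ x := by
    intro h
    exact hab (ga.injective (hgaa.trans h.symm))
  have hd : gc d ≠ x := by
    intro h
    exact hcd (gc.injective (hgcc.trans h.symm))
  obtain ⟨k, hk, hkx, hkb⟩ := h1 (ga b) (gc d) hb hd
  refine ⟨gc⁻¹ * k * ga, K.mul_mem (K.mul_mem (K.inv_mem hgc) hk) hga, ?_, ?_⟩
  · rw [Perm.mul_apply, Perm.mul_apply, hgaa, hkx, ← hgcc, inv_apply_self']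
  · rw [Perm.mul_apply, Perm.mul_apply, hkb, inv_apply_self']

theorem preprimitive_of_two_trans (K : Subgroup (Perm α))
    (h : ∀ a b c d : α, a ≠ b → c ≠ d → ∃ g ∈ K, g a = c ∧ g b = d) :
    MulAction.IsPreprimitive K α := by
  apply MulAction.isPreprimitive_of_is_two_pretransitive
  rw [MulAction.is_two_pretransitive_iff]
  intro a b c d hab hcd
  obtain ⟨g, hg, h1, h2⟩ := h a b c d hab hcd
  exact ⟨⟨g, hg⟩, h1, h2⟩

/-- an even element of `P` with prescribed image of a point -/
theorem exists_even_of_transOn (P : Subgroup (Perm α)) (T : Set α)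
    (htr : ∀ y ∈ T, ∀ y' ∈ T, ∃ σ ∈ P, σ y = y')
    (u v : α) (huv : u ≠ v) (hτ : swap u v ∈ P) (w : α) (hwT : w ∈ T) (hwu : w ≠ u)
    (hwv : w ≠ v) (y y' : α) (hy : y ∈ T) (hy' : y' ∈ T) :
    ∃ σ ∈ P, Perm.sign σ = 1 ∧ σ y = y' := by
  obtain ⟨p, hp, hpy⟩ := htr y hy y' hy'
  by_cases hs : Perm.sign p = 1
  · exact ⟨p, hp, hs, hpy⟩
  · obtain ⟨p2, hp2, hp2w⟩ := htr w hwT y hy
    have hmem : p * swap (p2 u) (p2 v) ∈ P := by
      rw [← conj_swap]
      exact P.mul_mem hp (P.mul_mem (P.mul_mem hp2 hτ) (P.inv_mem hp2))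
    refine ⟨p * swap (p2 u) (p2 v), hmem, ?_, ?_⟩
    · have hs' : Perm.sign p = -1 := (Int.units_eq_one_or _).resolve_left hs
      rw [map_mul, hs', Perm.sign_swap (fun h => huv (p2.injective h))]
      rfl
    · have h1 : y ≠ p2 u := by
        rw [← hp2w]
        exact fun h => hwu (p2.injective h)
      have h2 : y ≠ p2 v := by
        rw [← hp2w]
        exact fun h => hwv (p2.injective h)
      rw [Perm.mul_apply, Equiv.swap_apply_of_ne_of_ne h1 h2, hpy]

theorem exists_mem_notMem_list (s : Set α) (l : List α) (h : l.length < s.ncard) :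
    ∃ t ∈ s, t ∉ l := by
  by_contra hcon
  push Not at hcon
  have hsub : s ⊆ (↑l.toFinset : Set α) := fun t ht => by simpa using hcon t ht
  have h1 := Set.ncard_le_ncard hsub (Finset.finite_toSet _)
  rw [Set.ncard_coe_finset] at h1
  have h2 := List.toFinset_card_le l
  omega

theorem exists_notMem_list (l : List α) (h : l.length < Nat.card α) : ∃ t : α, t ∉ l := by
  have h' : l.length < (Set.univ : Set α).ncard := by rwa [Set.ncard_univ]
  obtain ⟨t, _, ht⟩ := exists_mem_notMem_list Set.univ l h'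
  exact ⟨t, ht⟩

/-- the stabiliser of the partition `{O, Oᶜ}` -/
def Hpart (O : Set α) : Subgroup (Perm α) where
  carrier := {σ | (∀ y, σ y ∈ O ↔ y ∈ O) ∨ (∀ y, σ y ∈ O ↔ y ∉ O)}
  mul_mem' := by
    rintro σ τ (hσ | hσ) (hτ | hτ)
    · left; intro y; rw [Perm.mul_apply, hσ, hτ]
    · right; intro y; rw [Perm.mul_apply, hσ, hτ]
    · right; intro y; rw [Perm.mul_apply, hσ, hτ]
    · left; intro y; rw [Perm.mul_apply, hσ, hτ, not_not]
  one_mem' := Or.inl (fun y => Iff.rfl)
  inv_mem' := by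
    rintro σ (hσ | hσ)
    · left; intro y
      have := hσ (σ⁻¹ y)
      rw [apply_inv_self'] at this
      exact this.symm
    · right; intro y
      have := hσ (σ⁻¹ y)
      rw [apply_inv_self'] at this
      tauto

theorem mem_Hpart_of_fix (O : Set α) (σ : Perm α) (h : ∀ y ∈ O, σ y ∈ O) : σ ∈ Hpart O := by
  left
  have hst : σ ∈ MulAction.stabilizer (Perm α) O :=
    (MulAction.mem_stabilizer_set' (Set.toFinite O)).mpr (fun b hb => h b hb)
  intro y
  exact MulAction.mem_stabilizer_set.mp hst y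

end perm


end Cfsg.Agent.Lib.Helper95.SylMax
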