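/-
Sylow 2-subgroups of symmetric groups: central fixed-point-free involutions, halves.
-/
import Cfsg.Agent.Lib.Helper95.SylMax1
import Cfsg.Agent.Lib.Helper95.SylMax2
import Mathlib

set_option autoImplicit false
set_option linter.unusedSectionVars false

namespace Cfsg.Agent.Lib.Helper95.SylMax

open Equiv
open Cfsg.Agent.Lib.Helper95.SylowSym
open scoped Pointwise

/-- A transitive 2-group of permutations has a central fixed-point-free involution. -/
theorem exists_fpf_central_of_trans {β : Type*} [Fintype β] [DecidableEq β]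
    (Q : Subgroup (Perm β)) (hQ : IsPGroup 2 Q) (htr : ∀ y y' : β, ∃ q ∈ Q, q y = y')
    (y0 y1 : β) (h01 : y0 ≠ y1) :
    ∃ z ∈ Q, (∀ σ ∈ Q, σ * z = z * σ) ∧ z * z = 1 ∧ ∀ y, z y ≠ y := by
  have hnt : Nontrivial Q := by
    obtain ⟨q, hq, hq01⟩ := htr y0 y1
    refine ⟨⟨⟨q, hq⟩, 1, ?_⟩⟩
    intro h
    have h1 : q = 1 := congrArg Subtype.val h
    rw [h1] at hq01
    exact h01 hq01
  have hcn : Nontrivial (Subgroup.center Q) := hQ.center_nontrivial
  have hc : IsPGroup 2 (Subgroup.center Q) := hQ.to_subgroup _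
  obtain ⟨m, hm⟩ := IsPGroup.iff_card.mp hc
  have hm1 : m ≠ 0 := by
    rintro rfl
    rw [pow_zero] at hm
    exact (Finite.one_lt_card (α := Subgroup.center Q)).ne' hm
  have hdvd : 2 ∣ Nat.card (Subgroup.center Q) := by rw [hm]; exact dvd_pow_self 2 hm1
  obtain ⟨c, hc2⟩ := exists_prime_orderOf_dvd_card' 2 hdvd
  have hcsq : c ^ 2 = 1 := hc2 ▸ pow_orderOf_eq_one c
  have hc1 : c ≠ 1 := by
    intro h
    rw [h, orderOf_one] at hc2
    omega
  have hzsq : ((c : Q) : Perm β) * ((c : Q) : Perm β) = 1 := by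
    have := congrArg (fun t : Subgroup.center Q => ((t : Q) : Perm β)) hcsq
    simpa [sq] using this
  have hz1 : ((c : Q) : Perm β) ≠ 1 := by
    intro h
    exact hc1 (Subtype.ext (Subtype.ext h))
  have hcen : ∀ σ ∈ Q, σ * ((c : Q) : Perm β) = ((c : Q) : Perm β) * σ := by
    intro σ hσ
    have := Subgroup.mem_center_iff.mp c.2 ⟨σ, hσ⟩
    exact congrArg Subtype.val this
  refine ⟨((c : Q) : Perm β), (c : Q).2, hcen, hzsq, ?_⟩
  intro y hy
  apply hz1
  ext y'
  obtain ⟨q, hq, hqy⟩ := htr y y'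
  have h1 := congrArg (fun t : Perm β => t y) (hcen q hq)
  simp only [Perm.mul_apply] at h1
  rw [hy, hqy] at h1
  rw [Perm.one_apply]
  exact h1.symm

/-- A Sylow 2-subgroup of a symmetric group without fixed points has a central
fixed-point-free involution. -/
theorem exists_fpf_central : ∀ m : ℕ, ∀ (α : Type) [Fintype α] [DecidableEq α],
    Nat.card α = m → ∀ P : Sylow 2 (Perm α), (∀ x, ∃ σ ∈ P, σ x ≠ x) →
    ∃ z ∈ P, (∀ σ ∈ P, σ * z = z * σ) ∧ z * z = 1 ∧ ∀ y, z y ≠ y := by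
  intro m
  induction m using Nat.strong_induction_on with
  | _ m ih =>
    intro α _ _ hα P hnf
    classical
    rcases isEmpty_or_nonempty α with hempty | hne
    · exact ⟨1, (P : Subgroup (Perm α)).one_mem, fun σ _ => by rw [mul_one, one_mul],
        one_mul 1, fun y => (hempty.false y).elim⟩
    · obtain ⟨ω⟩ := hne
      by_cases htr : ∀ y, y ∈ orb (P : Subgroup (Perm α)) ω
      · obtain ⟨σ, hσ, hσω⟩ := hnf ω
        refine exists_fpf_central_of_trans (P : Subgroup (Perm α)) P.isPGroup' ?_ ω (σ ω)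
          (Ne.symm hσω)
        intro y y'
        exact transOn_orb _ ω y (htr y) y' (htr y')
      · push Not at htr
        obtain ⟨y1, hy1⟩ := htr
        have hinv : ∀ σ ∈ P, ∀ x, σ x ∈ orb (P : Subgroup (Perm α)) ω ↔
            x ∈ orb (P : Subgroup (Perm α)) ω := orb_inv _ ω
        obtain ⟨P₁, P₂, hP⟩ := sylow_decomp 2 P (orb (P : Subgroup (Perm α)) ω) hinv
        have hadd := card_split (orb (P : Subgroup (Perm α)) ω)
        have hs0 : 0 < Nat.card {x // x ∈ orb (P : Subgroup (Perm α)) ω} := by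
          have : Nonempty {x // x ∈ orb (P : Subgroup (Perm α)) ω} :=
            ⟨⟨ω, mem_orb_self _ ω⟩⟩
          exact Nat.card_pos
        have hsc0 : 0 < Nat.card {x // ¬ x ∈ orb (P : Subgroup (Perm α)) ω} := by
          have : Nonempty {x // ¬ x ∈ orb (P : Subgroup (Perm α)) ω} := ⟨⟨y1, hy1⟩⟩
          exact Nat.card_pos
        have hmemP : ∀ σ : Perm α, σ ∈ P ↔ σ ∈ ((P₁ : Subgroup (Perm _)).prod
            (P₂ : Subgroup (Perm _))).map
              (Perm.subtypeCongrHom (· ∈ orb (P : Subgroup (Perm α)) ω)) := by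
          intro σ
          exact SetLike.ext_iff.mp hP σ
        have hnf1 : ∀ x : {x // x ∈ orb (P : Subgroup (Perm α)) ω}, ∃ σ ∈ P₁, σ x ≠ x := by
          intro x
          obtain ⟨σ, hσ, hσx⟩ := hnf x.1
          obtain ⟨⟨a, b⟩, ⟨ha, hb⟩, rfl⟩ := (hmemP σ).mp hσ
          refine ⟨a, ha, fun h => hσx ?_⟩
          rw [Perm.subtypeCongrHom_apply, Perm.subtypeCongr.left_apply _ _ x.2]
          exact congrArg Subtype.val h
        have hnf2 : ∀ x : {x // ¬ x ∈ orb (P : Subgroup (Perm α)) ω}, ∃ σ ∈ P₂, σ x ≠ x := by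
          intro x
          obtain ⟨σ, hσ, hσx⟩ := hnf x.1
          obtain ⟨⟨a, b⟩, ⟨ha, hb⟩, rfl⟩ := (hmemP σ).mp hσ
          refine ⟨b, hb, fun h => hσx ?_⟩
          rw [Perm.subtypeCongrHom_apply, Perm.subtypeCongr.right_apply _ _ x.2]
          exact congrArg Subtype.val h
        obtain ⟨z₁, hz₁, hc₁, hsq₁, hf₁⟩ := ih _ (by omega) _ rfl P₁ hnf1
        obtain ⟨z₂, hz₂, hc₂, hsq₂, hf₂⟩ := ih _ (by omega) _ rfl P₂ hnf2
        refine ⟨Perm.subtypeCongrHom (· ∈ orb (P : Subgroup (Perm α)) ω) (z₁, z₂),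
          (hmemP _).mpr ⟨(z₁, z₂), ⟨hz₁, hz₂⟩, rfl⟩, ?_, ?_, ?_⟩
        · intro σ hσ
          obtain ⟨⟨a, b⟩, ⟨ha, hb⟩, rfl⟩ := (hmemP σ).mp hσ
          rw [← map_mul, ← map_mul, Prod.mk_mul_mk, Prod.mk_mul_mk, hc₁ a ha, hc₂ b hb]
        · rw [← map_mul, Prod.mk_mul_mk, hsq₁, hsq₂]
          exact map_one _
        · intro y
          by_cases hy : y ∈ orb (P : Subgroup (Perm α)) ω
          · rw [Perm.subtypeCongrHom_apply, Perm.subtypeCongr.left_apply _ _ hy]
            intro h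
            exact hf₁ ⟨y, hy⟩ (Subtype.ext h)
          · rw [Perm.subtypeCongrHom_apply, Perm.subtypeCongr.right_apply _ _ hy]
            intro h
            exact hf₂ ⟨y, hy⟩ (Subtype.ext h)

/-- A transitive 2-group of permutations preserves a partition into two halves. -/
theorem exists_halves {α : Type*} [Fintype α] [DecidableEq α] (P : Subgroup (Perm α))
    (hP : IsPGroup 2 P) (htr : ∀ y y' : α, ∃ p ∈ P, p y = y') (x : α)
    (hx : ∃ p ∈ P, p x ≠ x) :
    ∃ O' : Set α, (∀ p ∈ P, (∀ y, p y ∈ O' ↔ y ∈ O') ∨ (∀ y, p y ∈ O' ↔ y ∉ O')) ∧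
      2 * O'.ncard = Nat.card α := by
  classical
  obtain ⟨e, he⟩ := IsPGroup.iff_card.mp hP
  have hSt : IsPGroup 2 (MulAction.stabilizer P x) := hP.to_subgroup _
  obtain ⟨f, hf⟩ := IsPGroup.iff_card.mp hSt
  have hfe : f ≤ e := by
    have h1 := Subgroup.card_subgroup_dvd_card (MulAction.stabilizer P x)
    rw [hf, he] at h1
    exact (Nat.pow_dvd_pow_iff_le_right (by norm_num)).mp h1
  have hne : f ≠ e := by
    intro h
    have h1 : MulAction.stabilizer P x = ⊤ :=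
      Subgroup.eq_top_of_card_eq _ (by rw [hf, he, h])
    obtain ⟨p, hp, hpx⟩ := hx
    have h2 : (⟨p, hp⟩ : P) ∈ MulAction.stabilizer P x := by rw [h1]; trivial
    exact hpx (MulAction.mem_stabilizer_iff.mp h2)
  obtain ⟨e', rfl⟩ : ∃ e', e = e' + 1 := ⟨e - 1, by omega⟩
  obtain ⟨Q, hQc, hQle⟩ := Sylow.exists_subgroup_card_pow_prime_le 2
    (by rw [he]; exact pow_dvd_pow 2 (Nat.le_succ e')) (MulAction.stabilizer P x) hf
    (by omega : f ≤ e')
  have hidx : Q.index = 2 := by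
    have h1 := Subgroup.card_mul_index Q
    rw [hQc, he, pow_succ] at h1
    exact Nat.eq_of_mul_eq_mul_left (by positivity) h1
  refine ⟨{y | ∃ q : P, q ∈ Q ∧ (q : Perm α) x = y}, ?_, ?_⟩
  · intro p hp
    by_cases hpQ : (⟨p, hp⟩ : P) ∈ Q
    · left
      intro y
      constructor
      · rintro ⟨q, hq, hqy⟩
        refine ⟨⟨p, hp⟩⁻¹ * q, Q.mul_mem (Q.inv_mem hpQ) hq, ?_⟩
        show p⁻¹ ((q : Perm α) x) = y
        rw [hqy, inv_apply_self']
      · rintro ⟨q, hq, rfl⟩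
        exact ⟨⟨p, hp⟩ * q, Q.mul_mem hpQ hq, rfl⟩
    · right
      intro y
      constructor
      · rintro ⟨q, hq, hqy⟩ ⟨q', hq', rfl⟩
        have hst : q⁻¹ * ⟨p, hp⟩ * q' ∈ MulAction.stabilizer P x := by
          rw [MulAction.mem_stabilizer_iff]
          show (q : Perm α)⁻¹ (p ((q' : Perm α) x)) = x
          rw [← hqy, inv_apply_self']
        have h1 := Q.mul_mem (Q.mul_mem hq (hQle hst)) (Q.inv_mem hq')
        have h2 : q * (q⁻¹ * ⟨p, hp⟩ * q') * q'⁻¹ = ⟨p, hp⟩ := by group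
        rw [h2] at h1
        exact hpQ h1
      · intro hy
        obtain ⟨r, hr, hry⟩ := htr x y
        have hrQ : (⟨r, hr⟩ : P) ∉ Q := fun h => hy ⟨⟨r, hr⟩, h, hry⟩
        have h1 : (⟨p, hp⟩ : P) * ⟨r, hr⟩ ∈ Q :=
          (Subgroup.mul_mem_iff_of_index_two hidx).mpr (by tauto)
        refine ⟨⟨p, hp⟩ * ⟨r, hr⟩, h1, ?_⟩
        rw [← hry]
        rfl
  · obtain ⟨p0, hp0⟩ : ∃ p0 : P, p0 ∉ Q := by
      by_contra hcon
      push Not at hcon
      have h1 : Q = ⊤ := by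
        ext t
        exact ⟨fun _ => trivial, fun _ => hcon t⟩
      rw [h1, Subgroup.index_top] at hidx
      omega
    have hsw : ∀ y, (p0 : Perm α) y ∈ {y | ∃ q : P, q ∈ Q ∧ (q : Perm α) x = y} ↔
        y ∉ {y | ∃ q : P, q ∈ Q ∧ (q : Perm α) x = y} := by
      intro y
      constructor
      · rintro ⟨q, hq, hqy⟩ ⟨q', hq', rfl⟩
        have hst : q⁻¹ * p0 * q' ∈ MulAction.stabilizer P x := by
          rw [MulAction.mem_stabilizer_iff]
          show (q : Perm α)⁻¹ ((p0 : Perm α) ((q' : Perm α) x)) = x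
          rw [← hqy, inv_apply_self']
        have h1 := Q.mul_mem (Q.mul_mem hq (hQle hst)) (Q.inv_mem hq')
        have h2 : q * (q⁻¹ * p0 * q') * q'⁻¹ = p0 := by group
        rw [h2] at h1
        exact hp0 h1
      · intro hy
        obtain ⟨r, hr, hry⟩ := htr x y
        have hrQ : (⟨r, hr⟩ : P) ∉ Q := fun h => hy ⟨⟨r, hr⟩, h, hry⟩
        have h1 : p0 * ⟨r, hr⟩ ∈ Q :=
          (Subgroup.mul_mem_iff_of_index_two hidx).mpr (by tauto)
        refine ⟨p0 * ⟨r, hr⟩, h1, ?_⟩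
        rw [← hry]
        rfl
    have hcompl : {y | ∃ q : P, q ∈ Q ∧ (q : Perm α) x = y}ᶜ =
        (p0 : Perm α).symm '' {y | ∃ q : P, q ∈ Q ∧ (q : Perm α) x = y} := by
      ext y
      rw [Set.mem_compl_iff, ← hsw y]
      constructor
      · intro h
        exact ⟨_, h, (p0 : Perm α).symm_apply_apply y⟩
      · rintro ⟨t, ht, rfl⟩
        rw [Equiv.apply_symm_apply]
        exact ht
    have h1 := Set.ncard_add_ncard_compl {y | ∃ q : P, q ∈ Q ∧ (q : Perm α) x = y}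
    rw [hcompl, Set.ncard_image_of_injective _ (p0 : Perm α).symm.injective] at h1
    omega

end Cfsg.Agent.Lib.Helper95.SylMax
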