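/-
Sylow 2-subgroups of symmetric and alternating groups contained in a unique maximal subgroup.
-/
import Cfsg.Agent.Lib.Helper95.SylMax3
import Mathlib

set_option autoImplicit false
set_option linter.unusedSectionVars false

namespace Cfsg.Agent.Lib.Helper95.SylMax

open Equiv
open scoped Pointwise

theorem dswap_apply_ne {α : Type*} [DecidableEq α] (a b c d : α) (h : [a, b, c, d].Nodup)
    (x : α) (hx : x = a ∨ x = b ∨ x = c ∨ x = d) : (swap a b * swap c d) x ≠ x := by
  simp only [Perm.mul_apply, swap_apply_def]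
  grind

theorem dswap_comm {α : Type*} [DecidableEq α] (a b c d e f : α)
    (h : [a, b, c, d, e, f].Nodup) :
    swap a b * swap c d * (swap a b * swap e f) = swap a b * swap e f * (swap a b * swap c d) := by
  ext x
  simp only [Perm.mul_apply, swap_apply_def]
  grind

theorem all_mem_of_nodup_card {α : Type*} [Fintype α] [DecidableEq α] (l : List α)
    (hl : l.Nodup) (hc : l.length = Nat.card α) : ∀ y, y ∈ l := by
  intro y
  have h1 : l.toFinset.card = Fintype.card α := by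
    rw [List.toFinset_card_of_nodup hl, hc, Nat.card_eq_fintype_card]
  have h2 := Finset.eq_univ_of_card _ h1
  have h3 : y ∈ l.toFinset := by rw [h2]; exact Finset.mem_univ y
  exact List.mem_toFinset.mp h3

theorem le_of_unique {G : Type*} [Group G] [Finite G] (R M : Subgroup G)
    (huniq : ∀ M', IsCoatom M' → R ≤ M' → M' = M) (H : Subgroup G) (hRH : R ≤ H)
    (hH : H ≠ ⊤) : H ≤ M := by
  obtain ⟨M', hM', hHM'⟩ := (eq_top_or_exists_le_coatom H).resolve_left hH
  rw [← huniq M' hM' (hRH.trans hHM')]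
  exact hHM'

theorem nodup4 (j : Fin 3) :
    [(0 : Fin 8), 1, ⟨2 * j.val + 2, by omega⟩, ⟨2 * j.val + 3, by omega⟩].Nodup := by
  fin_cases j <;> decide

theorem nodup6 (i j : Fin 3) (hij : i ≠ j) :
    [(0 : Fin 8), 1, ⟨2 * i.val + 2, by omega⟩, ⟨2 * i.val + 3, by omega⟩,
      ⟨2 * j.val + 2, by omega⟩, ⟨2 * j.val + 3, by omega⟩].Nodup := by
  fin_cases i <;> fin_cases j <;> first | decide | exact absurd rfl hij

section core

variable {α : Type} [Fintype α] [DecidableEq α] {G : Type*} [Group G] (ι : G →* Perm α)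

/-- preimage of the set stabiliser -/
def stabG (s : Set α) : Subgroup G := (MulAction.stabilizer (Perm α) s).comap ι

theorem mem_stabG (s : Set α) (g : G) : g ∈ stabG ι s ↔ ∀ b, ι g b ∈ s ↔ b ∈ s := by
  unfold stabG
  rw [Subgroup.mem_comap, MulAction.mem_stabilizer_set]
  rfl

theorem mem_stabG_of (s : Set α) (g : G) (h : ∀ b ∈ s, ι g b ∈ s) : g ∈ stabG ι s := by
  unfold stabG
  rw [Subgroup.mem_comap]
  exact (MulAction.mem_stabilizer_set' (Set.toFinite s)).mpr (fun b hb => h b hb)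

/-- preimage of the centraliser -/
def centG (z : Perm α) : Subgroup G := (Subgroup.centralizer ({z} : Set (Perm α))).comap ι

theorem mem_centG (z : Perm α) (g : G) : g ∈ centG ι z ↔ ι g * z = z * ι g := by
  unfold centG
  rw [Subgroup.mem_comap, Subgroup.mem_centralizer_singleton_iff]

/-- the standing hypotheses -/
structure Setup (ι : G →* Perm α) : Prop where
  inj : Function.Injective ι
  alt : alternatingGroup α ≤ ι.range
  co : ∀ s : Set α, s.Nonempty → sᶜ.Nonempty → Nat.card α ≠ 2 * s.ncard → IsCoatom (stabG ι s)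
  card : 5 ≤ Nat.card α

variable {ι}

theorem Setup.exists_of_even (h : Setup ι) (σ : Perm α) (hσ : Perm.sign σ = 1) :
    ∃ g : G, ι g = σ :=
  h.alt (Perm.mem_alternatingGroup.mpr hσ)

theorem Setup.range_of_odd (h : Setup ι) (σ0 : Perm α) (h0 : σ0 ∈ ι.range)
    (hs : Perm.sign σ0 = -1) (τ : Perm α) : τ ∈ ι.range := by
  rcases Int.units_eq_one_or (Perm.sign τ) with h1 | h1
  · exact h.alt (Perm.mem_alternatingGroup.mpr h1)
  · have h2 : Perm.sign (τ * σ0⁻¹) = 1 := by
      rw [map_mul, map_inv, h1, hs]; rfl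
    have h3 := ι.range.mul_mem (h.alt (Perm.mem_alternatingGroup.mpr h2)) h0
    rwa [inv_mul_cancel_right] at h3

theorem Setup.eq_top_of_alt_le (h : Setup ι) (M : Subgroup G)
    (hAK : alternatingGroup α ≤ M.map ι)
    (hodd : (∃ σ ∈ ι.range, Perm.sign σ = -1) → ∃ τ ∈ M.map ι, Perm.sign τ = -1) : M = ⊤ := by
  rw [eq_top_iff]
  intro g _
  rcases Int.units_eq_one_or (Perm.sign (ι g)) with h1 | h1
  · obtain ⟨m, hm, hmg⟩ := hAK (Perm.mem_alternatingGroup.mpr h1)
    rw [← h.inj hmg]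
    exact hm
  · obtain ⟨τ, ⟨m, hm, rfl⟩, hτs⟩ := hodd ⟨ι g, ⟨g, rfl⟩, h1⟩
    have h2 : Perm.sign (ι (g * m⁻¹)) = 1 := by
      rw [map_mul, map_mul, map_inv, map_inv, h1, hτs]; rfl
    obtain ⟨m', hm', hmg⟩ := hAK (Perm.mem_alternatingGroup.mpr h2)
    have h3 : m' = g * m⁻¹ := h.inj hmg
    have h4 := M.mul_mem hm' hm
    rwa [h3, inv_mul_cancel_right] at h4

/-- existence of a three-cycle in the "if" direction -/
theorem exists_threeCycle_of_fixed [Finite G] (h : Setup ι) (R : Sylow 2 G)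
    (P : Sylow 2 (Perm α)) (hmemR : ∀ g : G, g ∈ R ↔ ι g ∈ P) (w : α)
    (hw : ∀ σ ∈ P, σ w = w) (M : Subgroup G) (hRM : (R : Subgroup G) ≤ M)
    (h2t : ∀ a b c d : α, a ≠ b → c ≠ d → ∃ g ∈ M.map ι, g a = c ∧ g b = d)
    (hc : Nat.card α = 5 ∨ 9 ≤ Nat.card α) :
    ∃ c ∈ M.map ι, c.IsThreeCycle := by
  rcases hc with hc | hc
  · -- five points
    have hcard : Fintype.card (Fin 4) ≤ Fintype.card α := by
      rw [Fintype.card_fin, ← Nat.card_eq_fintype_card]; omega
    obtain ⟨e⟩ := Function.Embedding.nonempty_of_card_le hcard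
    have hnd0 : [e 0, e 1, e 2, e 3].Nodup := by simp [e.injective.eq_iff]
    obtain ⟨e1, he1⟩ := h.exists_of_even (swap (e 0) (e 1) * swap (e 2) (e 3))
      (sign_swap_mul_swap (by grind) (by grind))
    obtain ⟨e2, he2⟩ := h.exists_of_even (swap (e 0) (e 2) * swap (e 1) (e 3))
      (sign_swap_mul_swap (by grind) (by grind))
    have hsq1 : e1 * e1 = 1 := h.inj (by
      rw [ι.map_mul, he1, ι.map_one]; exact dswap_mul_self _ _ _ _ hnd0)
    have hsq2 : e2 * e2 = 1 := h.inj (by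
      rw [ι.map_mul, he2, ι.map_one]; exact dswap_mul_self (e 0) (e 2) (e 1) (e 3) (by grind))
    have hcomm : e1 * e2 = e2 * e1 := h.inj (by
      rw [ι.map_mul, ι.map_mul, he1, he2]; exact v4_comm _ _ _ _ hnd0)
    obtain ⟨g, hg⟩ := conj_into_sylow R {e1, e2}
      (by rintro s (rfl | rfl) <;> assumption)
      (by rintro s (rfl | rfl) t (rfl | rfl) <;> first | rfl | exact hcomm | exact hcomm.symm)
    have hP1 : swap (ι g (e 0)) (ι g (e 1)) * swap (ι g (e 2)) (ι g (e 3)) ∈ P := by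
      have := (hmemR _).mp (hg e1 (Or.inl rfl))
      rwa [ι.map_mul, ι.map_mul, ι.map_inv, he1, conj_swap_mul] at this
    have hP2 : swap (ι g (e 0)) (ι g (e 2)) * swap (ι g (e 1)) (ι g (e 3)) ∈ P := by
      have := (hmemR _).mp (hg e2 (Or.inr rfl))
      rwa [ι.map_mul, ι.map_mul, ι.map_inv, he2, conj_swap_mul] at this
    have hK1 : swap (ι g (e 0)) (ι g (e 1)) * swap (ι g (e 2)) (ι g (e 3)) ∈ M.map ι := by
      refine ⟨g * e1 * g⁻¹, hRM (hg e1 (Or.inl rfl)), ?_⟩
      rw [ι.map_mul, ι.map_mul, ι.map_inv, he1, conj_swap_mul]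
    have hK2 : swap (ι g (e 0)) (ι g (e 2)) * swap (ι g (e 1)) (ι g (e 3)) ∈ M.map ι := by
      refine ⟨g * e2 * g⁻¹, hRM (hg e2 (Or.inr rfl)), ?_⟩
      rw [ι.map_mul, ι.map_mul, ι.map_inv, he2, conj_swap_mul]
    have hgi : ∀ x y, ι g x = ι g y → x = y := fun x y hxy => (ι g).injective hxy
    have hnd : [ι g (e 0), ι g (e 1), ι g (e 2), ι g (e 3)].Nodup := by grind
    have hK3 : swap (ι g (e 0)) (ι g (e 3)) * swap (ι g (e 1)) (ι g (e 2)) ∈ M.map ι := by
      rw [← v4_mul _ _ _ _ hnd]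
      exact (M.map ι).mul_mem hK1 hK2
    have hmv : ∀ x, x = ι g (e 0) ∨ x = ι g (e 1) ∨ x = ι g (e 2) ∨ x = ι g (e 3) → x ≠ w := by
      intro x hx hxw
      have h1 := hw _ hP1
      rw [← hxw] at h1
      exact dswap_apply_ne _ _ _ _ hnd x hx h1
    have hnd5 : [ι g (e 0), ι g (e 1), ι g (e 2), ι g (e 3), w].Nodup := by
      have h0 := hmv (ι g (e 0)) (Or.inl rfl)
      have h1 := hmv (ι g (e 1)) (Or.inr (Or.inl rfl))
      have h2 := hmv (ι g (e 2)) (Or.inr (Or.inr (Or.inl rfl)))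
      have h3 := hmv (ι g (e 3)) (Or.inr (Or.inr (Or.inr rfl)))
      grind
    have hall := all_mem_of_nodup_card _ hnd5 (by rw [hc]; rfl)
    obtain ⟨g', hg', hg'0, hg'1⟩ := h2t (ι g (e 0)) (ι g (e 1)) (ι g (e 0)) w
      (by grind) (hmv _ (Or.inl rfl))
    exact exists_threeCycle_small (M.map ι) _ _ _ _ w hnd5
      (fun y => by simpa using hall y) hK1 hK2 hK3 g' hg' hg'0 hg'1
  · -- at least nine points
    have hcard : Fintype.card (Fin 8) ≤ Fintype.card α := by
      rw [Fintype.card_fin, ← Nat.card_eq_fintype_card]; omega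
    obtain ⟨e⟩ := Function.Embedding.nonempty_of_card_le hcard
    have hex : ∀ j : Fin 3, ∃ x : G, ι x = swap (e 0) (e 1) *
        swap (e ⟨2 * j.val + 2, by omega⟩) (e ⟨2 * j.val + 3, by omega⟩) := by
      intro j
      have hnd := (nodup4 j).map e.injective
      apply h.exists_of_even
      apply sign_swap_mul_swap
      · intro hh
        simp only [List.map_cons, List.map_nil] at hnd
        grind
      · intro hh
        simp only [List.map_cons, List.map_nil] at hnd
        grind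
    choose E hE using hex
    have hsq : ∀ j, E j * E j = 1 := fun j => h.inj (by
      rw [ι.map_mul, hE, ι.map_one]
      exact dswap_mul_self _ _ _ _ ((nodup4 j).map e.injective))
    have hcomm : ∀ i j, E i * E j = E j * E i := by
      intro i j
      by_cases hij : i = j
      · rw [hij]
      · exact h.inj (by
          rw [ι.map_mul, ι.map_mul, hE, hE]
          exact dswap_comm _ _ _ _ _ _ ((nodup6 i j hij).map e.injective))
    obtain ⟨g, hg⟩ := conj_into_sylow R (Set.range E)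
      (by rintro s ⟨j, rfl⟩; exact hsq j)
      (by rintro s ⟨i, rfl⟩ t ⟨j, rfl⟩; exact hcomm i j)
    have hqinj : Function.Injective (fun i : Fin 8 => ι g (e i)) :=
      fun i j hij => e.injective ((ι g).injective hij)
    have hPj : ∀ j : Fin 3, swap (ι g (e 0)) (ι g (e 1)) *
        swap (ι g (e ⟨2 * j.val + 2, by omega⟩)) (ι g (e ⟨2 * j.val + 3, by omega⟩)) ∈ P := by
      intro j
      have := (hmemR _).mp (hg (E j) ⟨j, rfl⟩)
      rwa [ι.map_mul, ι.map_mul, ι.map_inv, hE, conj_swap_mul] at this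
    have hKj : ∀ j : Fin 3, swap (ι g (e 0)) (ι g (e 1)) *
        swap (ι g (e ⟨2 * j.val + 2, by omega⟩)) (ι g (e ⟨2 * j.val + 3, by omega⟩)) ∈
          M.map ι := by
      intro j
      refine ⟨g * E j * g⁻¹, hRM (hg (E j) ⟨j, rfl⟩), ?_⟩
      rw [ι.map_mul, ι.map_mul, ι.map_inv, hE, conj_swap_mul]
    have hz : ∀ i : Fin 8, ι g (e i) ≠ w := by
      intro i hi
      have key : ∀ j : Fin 3, (i = 0 ∨ i = 1 ∨ i = ⟨2 * j.val + 2, by omega⟩ ∨
          i = ⟨2 * j.val + 3, by omega⟩) → False := by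
        intro j hj
        have h1 := hw _ (hPj j)
        rw [← hi] at h1
        refine dswap_apply_ne _ _ _ _ ((nodup4 j).map hqinj) (ι g (e i)) ?_ h1
        rcases hj with hj | hj | hj | hj
        · left; rw [hj]
        · right; left; rw [hj]
        · right; right; left; rw [hj]
        · right; right; right; rw [hj]
      fin_cases i
      · exact key 0 (Or.inl rfl)
      · exact key 0 (Or.inr (Or.inl rfl))
      · exact key 0 (Or.inr (Or.inr (Or.inl rfl)))
      · exact key 0 (Or.inr (Or.inr (Or.inr rfl)))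
      · exact key 1 (Or.inr (Or.inr (Or.inl rfl)))
      · exact key 1 (Or.inr (Or.inr (Or.inr rfl)))
      · exact key 2 (Or.inr (Or.inr (Or.inl rfl)))
      · exact key 2 (Or.inr (Or.inr (Or.inr rfl)))
    obtain ⟨g', hg', hg'0, hg'1⟩ := h2t (ι g (e 0)) (ι g (e 1)) (ι g (e 0)) w
      (fun hh => by have := hqinj hh; simp at this) (hz 0)
    exact exists_threeCycle_big (M.map ι) (fun i : Fin 8 => ι g (e i)) hqinj
      (hKj 0) (hKj 1) (hKj 2) w hz g' hg' hg'0 hg'1

/-- the "if" direction -/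
theorem unique_of_pow_add_one [Finite G] (h : Setup ι) (R : Sylow 2 G) (k : ℕ) (hk : 2 ≤ k)
    (hα : Nat.card α = 2 ^ k + 1) :
    ∃! M : Subgroup G, IsCoatom M ∧ (R : Subgroup G) ≤ M := by
  obtain ⟨P, hRP⟩ := exists_sylow_comap ι h.inj R
  have hmemR : ∀ g : G, g ∈ R ↔ ι g ∈ P := fun g => SetLike.ext_iff.mp hRP g
  obtain ⟨w, hw, htr⟩ := exists_fixed_point P k (by omega) hα
  have hcard5 : 5 ≤ Nat.card α := h.card
  have hS : IsCoatom (stabG ι ({w} : Set α)) := by
    apply h.co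
    · exact Set.singleton_nonempty w
    · obtain ⟨t, ht⟩ := exists_notMem_list [w] (by simp only [List.length_cons, List.length_nil]; omega)
      exact ⟨t, by simpa using ht⟩
    · rw [Set.ncard_singleton]; omega
  have hmemS : ∀ g : G, g ∈ stabG ι ({w} : Set α) ↔ ι g w = w := by
    intro g
    unfold stabG
    rw [Subgroup.mem_comap, MulAction.stabilizer_singleton, MulAction.mem_stabilizer_iff]
    rfl
  have hRS : (R : Subgroup G) ≤ stabG ι ({w} : Set α) := fun r hr =>
    (hmemS r).mpr (hw _ ((hmemR r).mp hr))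
  refine ⟨_, ⟨hS, hRS⟩, ?_⟩
  rintro M ⟨hM, hRM⟩
  by_contra hne
  have hnle : ¬ M ≤ stabG ι ({w} : Set α) := by
    intro hle
    rcases eq_or_lt_of_le hle with h1 | h1
    · exact hne h1
    · exact hS.1 (hM.2 _ h1)
  obtain ⟨m0, hm0, hm0w⟩ : ∃ m ∈ M, ι m w ≠ w := by
    by_contra hcon
    push Not at hcon
    exact hnle (fun m hm => (hmemS m).mpr (hcon m hm))
  -- a transposition in `P`
  obtain ⟨u, v, huv, hτ⟩ : ∃ u v : α, u ≠ v ∧ swap u v ∈ P := by
    obtain ⟨t1, ht1⟩ := exists_notMem_list [w] (by simp only [List.length_cons, List.length_nil]; omega)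
    have ht1w : t1 ≠ w := by simpa using ht1
    obtain ⟨g, hg⟩ := conj_into_sylow P {swap w t1}
      (by rintro s rfl; exact Equiv.swap_mul_self _ _)
      (by rintro s rfl t rfl; rfl)
    have h1 := hg (swap w t1) rfl
    rw [conj_swap] at h1
    exact ⟨g w, g t1, fun hh => ht1w (g.injective hh).symm, h1⟩
  have huw : u ≠ w := by
    intro hh
    have h1 := hw _ hτ
    rw [← hh, Equiv.swap_apply_left] at h1
    exact huv h1.symm
  have hvw : v ≠ w := by
    intro hh
    have h1 := hw _ hτ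
    rw [← hh, Equiv.swap_apply_right] at h1
    exact huv h1
  obtain ⟨w', hw'⟩ := exists_notMem_list [u, v, w] (by simp only [List.length_cons, List.length_nil]; omega)
  simp only [List.mem_cons, List.not_mem_nil, or_false, not_or] at hw'
  have heven : ∀ y y', y ≠ w → y' ≠ w → ∃ σ ∈ P, Perm.sign σ = 1 ∧ σ y = y' := by
    intro y y' hy hy'
    exact exists_even_of_transOn (P : Subgroup (Perm α)) {y | y ≠ w}
      (fun a ha b hb => htr a b ha hb) u v huv hτ w' hw'.2.2 hw'.1 hw'.2.1 y y' hy hy'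
  have hRK : ∀ σ ∈ P, Perm.sign σ = 1 → σ ∈ M.map ι := by
    intro σ hσ hs
    obtain ⟨r, rfl⟩ := h.exists_of_even σ hs
    exact ⟨r, hRM ((hmemR r).mpr hσ), rfl⟩
  have hK1 : ∀ y y', y ≠ w → y' ≠ w → ∃ g ∈ M.map ι, g w = w ∧ g y = y' := by
    intro y y' hy hy'
    obtain ⟨σ, hσP, hσs, hσy⟩ := heven y y' hy hy'
    exact ⟨σ, hRK σ hσP hσs, hw σ hσP, hσy⟩
  have h2t := two_trans_of_stab (M.map ι) w hK1 ⟨ι m0, ⟨m0, hm0, rfl⟩, hm0w⟩
  have hprim := preprimitive_of_two_trans (M.map ι) h2t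
  have hc : Nat.card α = 5 ∨ 9 ≤ Nat.card α := by
    rcases Nat.lt_or_ge k 3 with hk3 | hk3
    · left
      have hk2 : k = 2 := by omega
      rw [hα, hk2]
      norm_num
    · right
      have h8 : 2 ^ 3 ≤ 2 ^ k := Nat.pow_le_pow_right (by norm_num) hk3
      omega
  obtain ⟨c, hcK, hc3⟩ := exists_threeCycle_of_fixed h R P hmemR w hw M hRM h2t hc
  have hAK : alternatingGroup α ≤ M.map ι :=
    Equiv.Perm.alternatingGroup_le_of_isPreprimitive_of_isThreeCycle_mem hprim hc3 hcK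
  apply hM.1
  apply h.eq_top_of_alt_le M hAK
  rintro ⟨σ0, h0, hs0⟩
  obtain ⟨r, hr⟩ := h.range_of_odd σ0 h0 hs0 (swap u v)
  refine ⟨swap u v, ⟨r, hRM ((hmemR r).mpr ?_), hr⟩, Perm.sign_swap huv⟩
  rw [hr]
  exact hτ

end core

end Cfsg.Agent.Lib.Helper95.SylMax
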