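/-
Sylow 2-subgroups of symmetric and alternating groups contained in a unique maximal subgroup:
the "only if" direction.
-/
import Cfsg.Agent.Lib.Helper95.SylMax4
import Mathlib

set_option autoImplicit false
set_option linter.unusedSectionVars false

namespace Cfsg.Agent.Lib.Helper95.SylMax

open Equiv
open scoped Pointwise

section core2

variable {α : Type} [Fintype α] [DecidableEq α] {G : Type*} [Group G] {ι : G →* Perm α}

theorem sq_apply (z : Perm α) (hz2 : z * z = 1) (a : α) : z (z a) = a := by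
  have := congrArg (fun f : Perm α => f a) hz2
  simpa using this

theorem cross_comm (z : Perm α) (hz2 : z * z = 1) (y t : α) (hnd : [z y, z t, y, t].Nodup) :
    (swap y t * swap (z y) (z t)) * z = z * (swap y t * swap (z y) (z t)) := by
  have h1 : z * (swap y t * swap (z y) (z t)) * z⁻¹ =
      swap (z y) (z t) * swap (z (z y)) (z (z t)) := conj_swap_mul z _ _ _ _
  rw [sq_apply z hz2, sq_apply z hz2, (swap_comm_of _ _ _ _ hnd).eq] at h1
  exact (mul_inv_eq_iff_eq_mul.mp h1).symm

theorem flip_comm (z : Perm α) (hz2 : z * z = 1) (y t : α) :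
    (swap y (z y) * swap t (z t)) * z = z * (swap y (z y) * swap t (z t)) := by
  have h1 : z * (swap y (z y) * swap t (z t)) * z⁻¹ =
      swap (z y) (z (z y)) * swap (z t) (z (z t)) := conj_swap_mul z _ _ _ _
  rw [sq_apply z hz2, sq_apply z hz2, Equiv.swap_comm (z y) y, Equiv.swap_comm (z t) t] at h1
  exact (mul_inv_eq_iff_eq_mul.mp h1).symm

theorem centG_ne_top (h : Setup ι) (z : Perm α) (hz2 : z * z = 1) (hfpf : ∀ y, z y ≠ y) :
    centG ι z ≠ ⊤ := by
  have hcard := h.card
  obtain ⟨y⟩ : Nonempty α := by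
    rw [← Finite.card_pos_iff]; omega
  obtain ⟨t, ht⟩ := exists_notMem_list [y, z y]
    (by simp only [List.length_cons, List.length_nil]; omega)
  simp only [List.mem_cons, List.not_mem_nil, or_false, not_or] at ht
  have hy := hfpf y
  obtain ⟨g, hg⟩ := h.exists_of_even (swap y t * swap y (z y))
    (sign_swap_mul_swap (Ne.symm ht.1) (Ne.symm hy))
  intro htop
  have hmem : g ∈ centG ι z := by rw [htop]; trivial
  rw [mem_centG, hg] at hmem
  have h1 := congrArg (fun f : Perm α => f y) hmem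
  have hzz := sq_apply z hz2 y
  simp only [Perm.mul_apply, swap_apply_def] at h1
  grind

theorem orb_disjoint (P : Subgroup (Perm α)) (x y : α) (hy : y ∉ orb P x) :
    ∀ t, t ∈ orb P x → t ∉ orb P y := by
  rintro t ⟨σ, hσ, rfl⟩ ⟨τ, hτ, hτy⟩
  apply hy
  refine ⟨τ⁻¹ * σ, P.mul_mem (P.inv_mem hτ) hσ, ?_⟩
  rw [Perm.mul_apply, ← hτy, inv_apply_self']

/-- two different invariant sets with maximal stabilisers -/
theorem false_of_two (h : Setup ι) (M : Subgroup G) (S S' : Set α)
    (hS : stabG ι S = M) (hS' : stabG ι S' = M) (x' x y : α) (hx' : x' ∈ S) (hx : x ∈ S')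
    (hdisj : ∀ t, t ∈ S → t ∉ S') (hyS : y ∉ S) (hyS' : y ∉ S') : False := by
  have hcard := h.card
  obtain ⟨t, ht⟩ := exists_notMem_list [x', x, y]
    (by simp only [List.length_cons, List.length_nil]; omega)
  simp only [List.mem_cons, List.not_mem_nil, or_false, not_or] at ht
  have hxS : x ∉ S := fun hh => hdisj x hh hx
  have hx'S' : x' ∉ S' := hdisj x' hx'
  by_cases htS : t ∈ S
  · have htS' : t ∉ S' := hdisj t htS
    obtain ⟨g, hg⟩ := h.exists_of_even (swap x y * swap x' t)
      (sign_swap_mul_swap (by grind) (by grind))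
    have hgS : g ∈ stabG ι S := by
      apply mem_stabG_of
      intro b hb
      rw [hg]
      simp only [Perm.mul_apply, swap_apply_def]
      grind
    rw [hS, ← hS', mem_stabG, hg] at hgS
    have h1 := (hgS x).mpr hx
    simp only [Perm.mul_apply, swap_apply_def] at h1
    grind
  · by_cases htS' : t ∈ S'
    · obtain ⟨g, hg⟩ := h.exists_of_even (swap x' y * swap x t)
        (sign_swap_mul_swap (by grind) (by grind))
      have hgS : g ∈ stabG ι S' := by
        apply mem_stabG_of
        intro b hb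
        rw [hg]
        simp only [Perm.mul_apply, swap_apply_def]
        grind
      rw [hS', ← hS, mem_stabG, hg] at hgS
      have h1 := (hgS x').mpr hx'
      simp only [Perm.mul_apply, swap_apply_def] at h1
      grind
    · obtain ⟨g, hg⟩ := h.exists_of_even (swap x t * swap x y)
        (sign_swap_mul_swap (by grind) (by grind))
      have hgS : g ∈ stabG ι S := by
        apply mem_stabG_of
        intro b hb
        rw [hg]
        simp only [Perm.mul_apply, swap_apply_def]
        grind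
      rw [hS, ← hS', mem_stabG, hg] at hgS
      have h1 := (hgS x).mpr hx
      simp only [Perm.mul_apply, swap_apply_def] at h1
      grind

/-- three orbits -/
theorem false_of_three (h : Setup ι) (P : Sylow 2 (Perm α)) (M : Subgroup G)
    (hstab : ∀ s : Set α, (∀ σ ∈ P, ∀ x, σ x ∈ s ↔ x ∈ s) → s.Nonempty → sᶜ.Nonempty →
      Nat.card α ≠ 2 * s.ncard → stabG ι s = M)
    (x1 x2 x3 : α) (h12 : x2 ∉ orb (P : Subgroup (Perm α)) x1)
    (h13 : x3 ∉ orb (P : Subgroup (Perm α)) x1) (h23 : x3 ∉ orb (P : Subgroup (Perm α)) x2) :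
    False := by
  have hd12 := orb_disjoint (P : Subgroup (Perm α)) x1 x2 h12
  have hd13 := orb_disjoint (P : Subgroup (Perm α)) x1 x3 h13
  have hd23 := orb_disjoint (P : Subgroup (Perm α)) x2 x3 h23
  have hm1 := mem_orb_self (P : Subgroup (Perm α)) x1
  have hm2 := mem_orb_self (P : Subgroup (Perm α)) x2
  have hm3 := mem_orb_self (P : Subgroup (Perm α)) x3
  have hi1 := orb_inv (P : Subgroup (Perm α)) x1
  have hi2 := orb_inv (P : Subgroup (Perm α)) x2
  have hi3 := orb_inv (P : Subgroup (Perm α)) x3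
  have hp1 : 0 < (orb (P : Subgroup (Perm α)) x1).ncard := (Set.ncard_pos (Set.toFinite _)).mpr ⟨x1, hm1⟩
  have hp2 : 0 < (orb (P : Subgroup (Perm α)) x2).ncard := (Set.ncard_pos (Set.toFinite _)).mpr ⟨x2, hm2⟩
  have hp3 : 0 < (orb (P : Subgroup (Perm α)) x3).ncard := (Set.ncard_pos (Set.toFinite _)).mpr ⟨x3, hm3⟩
  have hsum : (orb (P : Subgroup (Perm α)) x1).ncard + (orb (P : Subgroup (Perm α)) x2).ncard +
      (orb (P : Subgroup (Perm α)) x3).ncard ≤ Nat.card α := by
    have hdj1 : Disjoint (orb (P : Subgroup (Perm α)) x1) (orb (P : Subgroup (Perm α)) x2) :=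
      Set.disjoint_left.mpr (fun t ht => hd12 t ht)
    have hdj2 : Disjoint (orb (P : Subgroup (Perm α)) x1 ∪ orb (P : Subgroup (Perm α)) x2)
        (orb (P : Subgroup (Perm α)) x3) := by
      rw [Set.disjoint_left]
      rintro t (ht | ht)
      · exact hd13 t ht
      · exact hd23 t ht
    have e1 := Set.ncard_union_eq hdj1
    have e2 := Set.ncard_union_eq hdj2
    have e3 := Set.ncard_le_card (orb (P : Subgroup (Perm α)) x1 ∪
      orb (P : Subgroup (Perm α)) x2 ∪ orb (P : Subgroup (Perm α)) x3)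
    omega
  by_cases e1 : Nat.card α = 2 * (orb (P : Subgroup (Perm α)) x1).ncard
  · have hS2 := hstab _ hi2 ⟨x2, hm2⟩ ⟨x1, fun hh => hd12 x1 hm1 hh⟩ (by omega)
    have hS3 := hstab _ hi3 ⟨x3, hm3⟩ ⟨x1, fun hh => hd13 x1 hm1 hh⟩ (by omega)
    exact false_of_two h M _ _ hS2 hS3 x2 x3 x1 hm2 hm3 hd23
      (fun hh => hd12 x1 hm1 hh) (fun hh => hd13 x1 hm1 hh)
  · by_cases e2 : Nat.card α = 2 * (orb (P : Subgroup (Perm α)) x2).ncard
    · have hS1 := hstab _ hi1 ⟨x1, hm1⟩ ⟨x2, h12⟩ e1
      have hS3 := hstab _ hi3 ⟨x3, hm3⟩ ⟨x1, fun hh => hd13 x1 hm1 hh⟩ (by omega)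
      exact false_of_two h M _ _ hS1 hS3 x1 x3 x2 hm1 hm3 hd13 h12 (hd23 x2 hm2)
    · have hS1 := hstab _ hi1 ⟨x1, hm1⟩ ⟨x2, h12⟩ e1
      have hS2 := hstab _ hi2 ⟨x2, hm2⟩ ⟨x1, fun hh => hd12 x1 hm1 hh⟩ e2
      exact false_of_two h M _ _ hS1 hS2 x1 x2 x3 hm1 hm2 hd12 h13 h23

/-- two orbits, both of size at least two -/
theorem false_of_two_orbits (h : Setup ι) (R : Sylow 2 G) (P : Sylow 2 (Perm α))
    (hmemR : ∀ g : G, g ∈ R ↔ ι g ∈ P) (M : Subgroup G)
    (hle : ∀ H : Subgroup G, (R : Subgroup G) ≤ H → H ≠ ⊤ → H ≤ M)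
    (O : Set α) (hinv : ∀ σ ∈ P, ∀ x, σ x ∈ O ↔ x ∈ O) (hMO : stabG ι O = M)
    (hnf : ∀ x, ∃ σ ∈ P, σ x ≠ x) (y t : α) (hy : y ∈ O) (ht : t ∉ O) : False := by
  obtain ⟨z, hzP, hzc, hz2, hfpf⟩ := exists_fpf_central _ α rfl P hnf
  have hRc : (R : Subgroup G) ≤ centG ι z := by
    intro r hr
    rw [mem_centG]
    exact hzc _ ((hmemR r).mp hr)
  have hcM := hle _ hRc (centG_ne_top h z hz2 hfpf)
  have hzy : z y ∈ O := (hinv z hzP y).mpr hy
  have hzt : z t ∉ O := fun hh => ht ((hinv z hzP t).mp hh)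
  have h1 := hfpf y
  have h2 := hfpf t
  have hzi : ∀ a b, z a = z b → a = b := fun a b hab => z.injective hab
  have hnd : [z y, z t, y, t].Nodup := by grind
  obtain ⟨g, hg⟩ := h.exists_of_even (swap y t * swap (z y) (z t))
    (sign_swap_mul_swap (by grind) (by grind))
  have hgc : g ∈ centG ι z := by
    rw [mem_centG, hg]
    exact cross_comm z hz2 y t hnd
  have hgM := hcM hgc
  rw [← hMO, mem_stabG, hg] at hgM
  have h3 := (hgM y).mpr hy
  simp only [Perm.mul_apply, swap_apply_def] at h3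
  grind

theorem mem_Hpart (O : Set α) (σ : Perm α) :
    σ ∈ Hpart O ↔ (∀ y, σ y ∈ O ↔ y ∈ O) ∨ (∀ y, σ y ∈ O ↔ y ∉ O) := Iff.rfl

/-- the transitive case -/
theorem false_of_transitive [Finite G] (h : Setup ι) (R : Sylow 2 G) (P : Sylow 2 (Perm α))
    (hmemR : ∀ g : G, g ∈ R ↔ ι g ∈ P) (M : Subgroup G) (hM1 : M ≠ ⊤)
    (hle : ∀ H : Subgroup G, (R : Subgroup G) ≤ H → H ≠ ⊤ → H ≤ M)
    (htr : ∀ y y' : α, ∃ σ ∈ P, σ y = y') : False := by
  have hcard := h.card
  obtain ⟨x0⟩ : Nonempty α := by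
    rw [← Finite.card_pos_iff]; omega
  have hnf : ∀ x, ∃ σ ∈ P, σ x ≠ x := by
    intro x
    obtain ⟨x', hx'⟩ := exists_notMem_list [x]
      (by simp only [List.length_cons, List.length_nil]; omega)
    obtain ⟨σ, hσ, hσx⟩ := htr x x'
    refine ⟨σ, hσ, ?_⟩
    rw [hσx]
    simpa using hx'
  have h8 : 8 ≤ Nat.card α := by
    obtain ⟨a, ha⟩ := card_pow_of_transOn P.isPGroup' (Set.univ : Set α)
      (fun _ _ _ => Iff.rfl) (fun y _ y' _ => htr y y') ⟨x0, trivial⟩
    rw [Nat.card_univ] at ha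
    rcases Nat.lt_or_ge a 3 with ha3 | ha3
    · have : 2 ^ a ≤ 2 ^ 2 := Nat.pow_le_pow_right (by norm_num) (by omega)
      omega
    · have : 2 ^ 3 ≤ 2 ^ a := Nat.pow_le_pow_right (by norm_num) ha3
      omega
  obtain ⟨z, hzP, hzc, hz2, hfpf⟩ := exists_fpf_central _ α rfl P hnf
  have hRc : (R : Subgroup G) ≤ centG ι z := by
    intro r hr
    rw [mem_centG]
    exact hzc _ ((hmemR r).mp hr)
  have hcM := hle _ hRc (centG_ne_top h z hz2 hfpf)
  obtain ⟨O', hpart, hhalf⟩ := exists_halves (P : Subgroup (Perm α)) P.isPGroup' htr x0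
    (hnf x0)
  have hc1 : 4 ≤ O'.ncard := by omega
  have hc2 : 4 ≤ O'ᶜ.ncard := by
    have := Set.ncard_add_ncard_compl O'
    omega
  have hRp : (R : Subgroup G) ≤ (Hpart O').comap ι := fun r hr => hpart _ ((hmemR r).mp hr)
  have hpne : (Hpart O').comap ι ≠ ⊤ := by
    obtain ⟨y, hy, -⟩ := exists_mem_notMem_list O' [] (by simp only [List.length_nil]; omega)
    obtain ⟨y', hy', hyy'⟩ := exists_mem_notMem_list O' [y]
      (by simp only [List.length_cons, List.length_nil]; omega)
    obtain ⟨t, ht, -⟩ := exists_mem_notMem_list O'ᶜ [] (by simp only [List.length_nil]; omega)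
    rw [Set.mem_compl_iff] at ht
    simp only [List.mem_cons, List.not_mem_nil, or_false] at hyy'
    obtain ⟨g, hg⟩ := h.exists_of_even (swap y t * swap y y')
      (sign_swap_mul_swap (by grind) (by grind))
    intro htop
    have hmem : g ∈ (Hpart O').comap ι := by rw [htop]; trivial
    rw [Subgroup.mem_comap, hg, mem_Hpart] at hmem
    rcases hmem with hp | hp
    · have h3 := hp y'
      simp only [Perm.mul_apply, swap_apply_def] at h3
      grind
    · have h3 := hp y
      simp only [Perm.mul_apply, swap_apply_def] at h3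
      grind
  have hKp : ∀ σ : Perm α, Perm.sign σ = 1 → σ ∈ Hpart O' → σ ∈ M.map ι := by
    intro σ hs hσ
    obtain ⟨g, rfl⟩ := h.exists_of_even σ hs
    exact ⟨g, hle _ hRp hpne hσ, rfl⟩
  have hKc : ∀ σ : Perm α, Perm.sign σ = 1 → σ * z = z * σ → σ ∈ M.map ι := by
    intro σ hs hσ
    obtain ⟨g, rfl⟩ := h.exists_of_even σ hs
    exact ⟨g, hcM ((mem_centG ι z g).mpr hσ), rfl⟩
  have hzi : ∀ a b, z a = z b → a = b := fun a b hab => z.injective hab
  have hzz := sq_apply z hz2
  obtain ⟨x, hx, y0, hy0, hy0x, σ, hσK, hσx, hσy0⟩ : ∃ x ∈ O', ∃ y0 ∈ O', y0 ≠ x ∧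
      ∃ σ ∈ M.map ι, σ x = x ∧ σ y0 ∉ O' := by
    by_cases hcross : ∃ y ∈ O', z y ∉ O'
    · obtain ⟨y0, hy0, hzy0⟩ := hcross
      obtain ⟨x, hx, hxy0⟩ := exists_mem_notMem_list O' [y0]
        (by simp only [List.length_cons, List.length_nil]; omega)
      obtain ⟨t, ht⟩ := exists_notMem_list [x, z x, y0, z y0]
        (by simp only [List.length_cons, List.length_nil]; omega)
      simp only [List.mem_cons, List.not_mem_nil, or_false, not_or] at ht hxy0
      have hf1 := hfpf y0
      have hf2 := hfpf t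
      have hz1 := hzz t
      have hz3 := hzz y0
      refine ⟨x, hx, y0, hy0, Ne.symm hxy0, swap y0 (z y0) * swap t (z t),
        hKc _ (sign_swap_mul_swap (Ne.symm hf1) (Ne.symm hf2)) (flip_comm z hz2 y0 t), ?_, ?_⟩
      · simp only [Perm.mul_apply, swap_apply_def]
        grind
      · simp only [Perm.mul_apply, swap_apply_def]
        grind
    · push Not at hcross
      have hcross' : ∀ t, t ∉ O' → z t ∉ O' := by
        intro t ht hh
        have h1 := hcross _ hh
        rw [hzz] at h1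
        exact ht h1
      obtain ⟨y0, hy0, -⟩ := exists_mem_notMem_list O' []
        (by simp only [List.length_nil]; omega)
      obtain ⟨x, hx, hxy0⟩ := exists_mem_notMem_list O' [y0, z y0]
        (by simp only [List.length_cons, List.length_nil]; omega)
      obtain ⟨t, ht, -⟩ := exists_mem_notMem_list O'ᶜ []
        (by simp only [List.length_nil]; omega)
      rw [Set.mem_compl_iff] at ht
      simp only [List.mem_cons, List.not_mem_nil, or_false, not_or] at hxy0
      have hzy0 := hcross y0 hy0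
      have hzt := hcross' t ht
      have hf1 := hfpf y0
      have hf2 := hfpf t
      have hnd : [z y0, z t, y0, t].Nodup := by grind
      refine ⟨x, hx, y0, hy0, Ne.symm hxy0.1, swap y0 t * swap (z y0) (z t),
        hKc _ (sign_swap_mul_swap (by grind) (by grind)) (cross_comm z hz2 y0 t hnd), ?_, ?_⟩
      · simp only [Perm.mul_apply, swap_apply_def]
        grind
      · simp only [Perm.mul_apply, swap_apply_def]
        grind
  have he1 : ∀ y y', y ∈ O' → y' ∈ O' → y ≠ x → y' ≠ x →
      ∃ k ∈ M.map ι, k x = x ∧ k y = y' := by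
    intro y y' hy hy' hyx hy'x
    by_cases hyy' : y = y'
    · exact ⟨1, (M.map ι).one_mem, rfl, hyy'⟩
    · obtain ⟨t, ht, htl⟩ := exists_mem_notMem_list O' [x, y, y']
        (by simp only [List.length_cons, List.length_nil]; omega)
      simp only [List.mem_cons, List.not_mem_nil, or_false, not_or] at htl
      refine ⟨swap y t * swap y y', hKp _ (sign_swap_mul_swap (by grind) hyy')
        (mem_Hpart_of_fix O' _ ?_), ?_, ?_⟩
      · intro b hb
        simp only [Perm.mul_apply, swap_apply_def]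
        grind
      · simp only [Perm.mul_apply, swap_apply_def]
        grind
      · simp only [Perm.mul_apply, swap_apply_def]
        grind
  have he2 : ∀ y y', y ∉ O' → y' ∉ O' → ∃ k ∈ M.map ι, k x = x ∧ k y = y' := by
    intro y y' hy hy'
    by_cases hyy' : y = y'
    · exact ⟨1, (M.map ι).one_mem, rfl, hyy'⟩
    · obtain ⟨t, ht, htl⟩ := exists_mem_notMem_list O'ᶜ [y, y']
        (by simp only [List.length_cons, List.length_nil]; omega)
      rw [Set.mem_compl_iff] at ht
      simp only [List.mem_cons, List.not_mem_nil, or_false, not_or] at htl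
      refine ⟨swap y t * swap y y', hKp _ (sign_swap_mul_swap (by grind) hyy')
        (mem_Hpart_of_fix O' _ ?_), ?_, ?_⟩
      · intro b hb
        simp only [Perm.mul_apply, swap_apply_def]
        grind
      · simp only [Perm.mul_apply, swap_apply_def]
        grind
      · simp only [Perm.mul_apply, swap_apply_def]
        grind
  have hreach : ∀ y, y ≠ x → ∃ k ∈ M.map ι, k x = x ∧ k y = y0 := by
    intro y hyx
    by_cases hyO : y ∈ O'
    · exact he1 y y0 hyO hy0 hyx hy0x
    · obtain ⟨k1, hk1, hk1x, hk1y⟩ := he2 y (σ y0) hyO hσy0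
      refine ⟨σ⁻¹ * k1, (M.map ι).mul_mem ((M.map ι).inv_mem hσK) hk1, ?_, ?_⟩
      · have h1 := inv_apply_self' σ x
        rw [hσx] at h1
        rw [Perm.mul_apply, hk1x, h1]
      · rw [Perm.mul_apply, hk1y, inv_apply_self']
  have hK1 : ∀ y y', y ≠ x → y' ≠ x → ∃ k ∈ M.map ι, k x = x ∧ k y = y' := by
    intro y y' hy hy'
    obtain ⟨k1, hk1, hk1x, hk1y⟩ := hreach y hy
    obtain ⟨k2, hk2, hk2x, hk2y⟩ := hreach y' hy'
    refine ⟨k2⁻¹ * k1, (M.map ι).mul_mem ((M.map ι).inv_mem hk2) hk1, ?_, ?_⟩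
    · have h1 := inv_apply_self' k2 x
      rw [hk2x] at h1
      rw [Perm.mul_apply, hk1x, h1]
    · rw [Perm.mul_apply, hk1y, ← hk2y, inv_apply_self']
  obtain ⟨y, hy, hyl⟩ := exists_mem_notMem_list O' [x]
    (by simp only [List.length_cons, List.length_nil]; omega)
  obtain ⟨t, ht, htl⟩ := exists_mem_notMem_list O' [x, y]
    (by simp only [List.length_cons, List.length_nil]; omega)
  simp only [List.mem_cons, List.not_mem_nil, or_false, not_or] at hyl htl
  have hτK : swap x t * swap x y ∈ M.map ι := by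
    refine hKp _ (sign_swap_mul_swap (Ne.symm htl.1) (Ne.symm hyl)) (mem_Hpart_of_fix O' _ ?_)
    intro b hb
    simp only [Perm.mul_apply, swap_apply_def]
    grind
  have hτx : (swap x t * swap x y) x ≠ x := by
    simp only [Perm.mul_apply, swap_apply_def]
    grind
  have h2t := two_trans_of_stab (M.map ι) x hK1 ⟨_, hτK, hτx⟩
  have hprim := preprimitive_of_two_trans (M.map ι) h2t
  have h3c : (swap x t * swap x y).IsThreeCycle :=
    Equiv.Perm.isThreeCycle_swap_mul_swap_same (Ne.symm htl.1) (Ne.symm hyl) htl.2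
  have hAK := Equiv.Perm.alternatingGroup_le_of_isPreprimitive_of_isThreeCycle_mem hprim h3c hτK
  apply hM1
  apply h.eq_top_of_alt_le M hAK
  rintro ⟨σ0, h0, hs0⟩
  obtain ⟨r, hr⟩ := h.range_of_odd σ0 h0 hs0 (swap x y)
  refine ⟨swap x y, ⟨r, hle _ hRp hpne ?_, hr⟩, Perm.sign_swap (Ne.symm hyl)⟩
  show ι r ∈ Hpart O'
  rw [hr]
  refine mem_Hpart_of_fix O' _ ?_
  intro b hb
  simp only [swap_apply_def]
  grind

/-- the "only if" direction -/
theorem pow_add_one_of_unique [Finite G] (h : Setup ι) (R : Sylow 2 G)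
    (hu : ∃! M : Subgroup G, IsCoatom M ∧ (R : Subgroup G) ≤ M) :
    ∃ k : ℕ, 2 ≤ k ∧ Nat.card α = 2 ^ k + 1 := by
  classical
  obtain ⟨M, ⟨hM, hRM⟩, huniq'⟩ := hu
  have huniq : ∀ M', IsCoatom M' → (R : Subgroup G) ≤ M' → M' = M :=
    fun M' h1 h2 => huniq' M' ⟨h1, h2⟩
  obtain ⟨P, hRP⟩ := exists_sylow_comap ι h.inj R
  have hmemR : ∀ g : G, g ∈ R ↔ ι g ∈ P := fun g => SetLike.ext_iff.mp hRP g
  have hle := le_of_unique (R : Subgroup G) M huniq
  have hstab : ∀ s : Set α, (∀ σ ∈ P, ∀ x, σ x ∈ s ↔ x ∈ s) → s.Nonempty → sᶜ.Nonempty →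
      Nat.card α ≠ 2 * s.ncard → stabG ι s = M := by
    intro s hinv h1 h2 h3
    refine huniq _ (h.co s h1 h2 h3) (fun r hr => ?_)
    exact (mem_stabG ι s r).mpr (fun b => hinv _ ((hmemR r).mp hr) b)
  have hcard := h.card
  obtain ⟨x0⟩ : Nonempty α := by
    rw [← Finite.card_pos_iff]; omega
  by_cases hT : ∀ y, y ∈ orb (P : Subgroup (Perm α)) x0
  · exfalso
    exact false_of_transitive h R P hmemR M hM.1 hle
      (fun y y' => transOn_orb _ x0 y (hT y) y' (hT y'))
  · push Not at hT
    obtain ⟨y1, hy1⟩ := hT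
    have hinv := orb_inv (P : Subgroup (Perm α)) x0
    have hx0 := mem_orb_self (P : Subgroup (Perm α)) x0
    by_cases hB : TransOn (P : Subgroup (Perm α)) (orb (P : Subgroup (Perm α)) x0)ᶜ
    · obtain ⟨a, ha⟩ := card_orb_pow P.isPGroup' x0
      have hinvc : ∀ σ ∈ P, ∀ x, σ x ∈ (orb (P : Subgroup (Perm α)) x0)ᶜ ↔
          x ∈ (orb (P : Subgroup (Perm α)) x0)ᶜ := fun σ hσ x => not_congr (hinv σ hσ x)
      obtain ⟨b, hb⟩ := card_pow_of_transOn P.isPGroup' _ hinvc hB ⟨y1, hy1⟩
      have hadd := Cfsg.Agent.Lib.Helper95.SylowSym.card_split (orb (P : Subgroup (Perm α)) x0)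
      have hb' : Nat.card {x // ¬ x ∈ orb (P : Subgroup (Perm α)) x0} = 2 ^ b := hb
      have ha' : Nat.card {x // x ∈ orb (P : Subgroup (Perm α)) x0} = 2 ^ a := ha
      have hab : a ≠ b := by
        intro hab
        rw [← hab] at hb'
        exact card_ne_of_inv P _ hinv a ha' hb'
      rw [ha', hb'] at hadd
      by_cases ha0 : a = 0
      · refine ⟨b, ?_, ?_⟩
        · by_contra hcon
          have : 2 ^ b ≤ 2 ^ 1 := Nat.pow_le_pow_right (by norm_num) (by omega)
          rw [ha0] at hadd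
          omega
        · rw [ha0] at hadd
          omega
      · by_cases hb0 : b = 0
        · refine ⟨a, ?_, ?_⟩
          · by_contra hcon
            have : 2 ^ a ≤ 2 ^ 1 := Nat.pow_le_pow_right (by norm_num) (by omega)
            rw [hb0] at hadd
            omega
          · rw [hb0] at hadd
            omega
        · exfalso
          have h2a : 2 ^ 1 ≤ 2 ^ a := Nat.pow_le_pow_right (by norm_num) (by omega)
          have h2b : 2 ^ 1 ≤ 2 ^ b := Nat.pow_le_pow_right (by norm_num) (by omega)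
          have hnO : (orb (P : Subgroup (Perm α)) x0).ncard = 2 ^ a := ha
          have hnOc : (orb (P : Subgroup (Perm α)) x0)ᶜ.ncard = 2 ^ b := hb
          have hnf : ∀ x, ∃ σ ∈ P, σ x ≠ x := by
            intro x
            by_cases hxO : x ∈ orb (P : Subgroup (Perm α)) x0
            · obtain ⟨x', hx', hx'l⟩ := exists_mem_notMem_list
                (orb (P : Subgroup (Perm α)) x0) [x]
                (by simp only [List.length_cons, List.length_nil]; omega)
              obtain ⟨σ, hσ, hσx⟩ := transOn_orb _ x0 x hxO x' hx'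
              refine ⟨σ, hσ, ?_⟩
              rw [hσx]
              simpa using hx'l
            · obtain ⟨x', hx', hx'l⟩ := exists_mem_notMem_list
                (orb (P : Subgroup (Perm α)) x0)ᶜ [x]
                (by simp only [List.length_cons, List.length_nil]; omega)
              obtain ⟨σ, hσ, hσx⟩ := hB x hxO x' hx'
              refine ⟨σ, hσ, ?_⟩
              rw [hσx]
              simpa using hx'l
          have hMO := hstab _ hinv ⟨x0, hx0⟩ ⟨y1, hy1⟩ (by
            rw [hnO]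
            intro hh
            have h1 : 2 ^ b = 2 ^ a := by omega
            exact hab (Nat.pow_right_injective le_rfl h1).symm)
          exact false_of_two_orbits h R P hmemR M hle _ hinv hMO hnf x0 y1 hx0 hy1
    · exfalso
      unfold TransOn at hB
      push Not at hB
      obtain ⟨y2, hy2, y3, hy3, hno⟩ := hB
      exact false_of_three h P M hstab x0 y2 y3 hy2 hy3 (fun ⟨σ, hσ, e⟩ => hno σ hσ e)

end core2

end Cfsg.Agent.Lib.Helper95.SylMax
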