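/-
Sylow 2-subgroups of symmetric and alternating groups contained in a unique maximal subgroup:
the two instances.
-/
import Cfsg.Agent.Lib.Helper95.SylMax5
import Mathlib

set_option autoImplicit false
set_option linter.unusedSectionVars false

namespace Cfsg.Agent.Lib.Helper95.SylMax

open Equiv
open scoped Pointwise

theorem core_iff {α : Type} [Fintype α] [DecidableEq α] {G : Type*} [Group G] [Finite G]
    {ι : G →* Perm α} (h : Setup ι) (R : Sylow 2 G) :
    (∃! M : Subgroup G, IsCoatom M ∧ (R : Subgroup G) ≤ M) ↔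
      ∃ k : ℕ, 2 ≤ k ∧ Nat.card α = 2 ^ k + 1 :=
  ⟨pow_add_one_of_unique h R, fun ⟨k, hk, hα⟩ => unique_of_pow_add_one h R k hk hα⟩

theorem setup_sym (n : ℕ) (hn : 5 ≤ n) : Setup (MonoidHom.id (Perm (Fin n))) where
  inj := fun _ _ hab => hab
  alt := by
    rw [MonoidHom.range_eq_top.mpr (fun x => ⟨x, rfl⟩)]
    exact le_top
  co := by
    intro s h1 h2 h3
    have h4 : stabG (MonoidHom.id (Perm (Fin n))) s = MulAction.stabilizer (Perm (Fin n)) s :=
      Subgroup.comap_id _
    rw [h4]
    exact Equiv.Perm.isCoatom_stabilizer h1 h2 h3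
  card := by rw [Nat.card_eq_fintype_card, Fintype.card_fin]; exact hn

theorem setup_alt (n : ℕ) (hn : 5 ≤ n) : Setup (alternatingGroup (Fin n)).subtype where
  inj := Subgroup.subtype_injective _
  alt := by rw [Subgroup.range_subtype]
  co := by
    intro s h1 h2 h3
    have h4 : stabG (alternatingGroup (Fin n)).subtype s =
        MulAction.stabilizer (alternatingGroup (Fin n)) s :=
      Subgroup.ext (fun g => Iff.rfl)
    rw [h4]
    exact alternatingGroup.isCoatom_stabilizer h1 h2 h3
  card := by rw [Nat.card_eq_fintype_card, Fintype.card_fin]; exact hn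

theorem sylow_two_unique_max (n : ℕ) (hn : 5 ≤ n) :
    ((∀ R : Sylow 2 ↥(alternatingGroup (Fin n)),
        (∃! M : Subgroup ↥(alternatingGroup (Fin n)), IsCoatom M ∧
          (R : Subgroup ↥(alternatingGroup (Fin n))) ≤ M) ↔
            ∃ k : ℕ, 2 ≤ k ∧ n = 2 ^ k + 1) ∧
    (∀ R : Sylow 2 (Equiv.Perm (Fin n)),
        (∃! M : Subgroup (Equiv.Perm (Fin n)), IsCoatom M ∧
          (R : Subgroup (Equiv.Perm (Fin n))) ≤ M) ↔ ∃ k : ℕ, 2 ≤ k ∧ n = 2 ^ k + 1)) := by
  have hc : Nat.card (Fin n) = n := by rw [Nat.card_eq_fintype_card, Fintype.card_fin]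
  constructor
  · intro R
    have := core_iff (setup_alt n hn) R
    rwa [hc] at this
  · intro R
    have := core_iff (setup_sym n hn) R
    rwa [hc] at this

end Cfsg.Agent.Lib.Helper95.SylMax
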