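/-
Sylow 2-subgroups of the symmetric group are self-normalising
(induction via the transpositions of the Sylow subgroup).
-/
import Mathlib
import Cfsg.Agent.Lib.Helper95.SylMax1
import Cfsg.Agent.Lib.Helper95.SylMax2

set_option autoImplicit false
set_option linter.unusedSectionVars false

namespace Cfsg.Agent.Lib.Helper95.SylNorm

open Equiv
open Cfsg.Agent.Lib.Helper95.SylMax

universe u

section

variable {α : Type u} [Fintype α] [DecidableEq α]

/-- two transpositions of a 2-group sharing a point are equal -/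
theorem swap_unique {P : Subgroup (Perm α)} (hP : IsPGroup 2 P) {a b c : α} (hab : a ≠ b)
    (hac : a ≠ c) (h1 : swap a b ∈ P) (h2 : swap a c ∈ P) : b = c := by
  by_contra hbc
  have h3 := Equiv.Perm.isThreeCycle_swap_mul_swap_same hab hac hbc
  obtain ⟨k, hk⟩ := hP ⟨swap a b * swap a c, P.mul_mem h1 h2⟩
  have hk' : (swap a b * swap a c) ^ 2 ^ k = 1 := by simpa [Subtype.ext_iff] using hk
  have h4 := orderOf_dvd_of_pow_eq_one hk'
  rw [h3.orderOf] at h4
  have h5 := Nat.Prime.dvd_of_dvd_pow Nat.prime_three h4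
  omega

/-- the transpositions of `P` -/
def T (P : Subgroup (Perm α)) : Set (Perm α) := {t | t ∈ P ∧ t.IsSwap}

theorem T_form {P : Subgroup (Perm α)} {t : Perm α} (ht : t ∈ T P) {y : α} (hy : t y ≠ y) :
    ∃ b, y ≠ b ∧ t = swap y b := by
  obtain ⟨a, b, hab, rfl⟩ := ht.2
  by_cases h1 : y = a
  · subst h1; exact ⟨b, hab, rfl⟩
  · by_cases h2 : y = b
    · subst h2; exact ⟨a, fun h => hab h.symm, swap_comm _ _⟩
    · exact absurd (swap_apply_of_ne_of_ne h1 h2) hy

theorem T_disj {P : Subgroup (Perm α)} (hP : IsPGroup 2 P) {t t' : Perm α} (ht : t ∈ T P)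
    (ht' : t' ∈ T P) {y : α} (hy : t y ≠ y) (hy' : t' y ≠ y) : t = t' := by
  obtain ⟨b, hb, rfl⟩ := T_form ht hy
  obtain ⟨b', hb', rfl⟩ := T_form ht' hy'
  rw [swap_unique hP hb hb' ht.1 ht'.1]

theorem swap_mem_T {P : Subgroup (Perm α)} {a b : α} (hab : a ≠ b) (h : swap a b ∈ P) :
    swap a b ∈ T P :=
  ⟨h, a, b, hab, rfl⟩

theorem exists_invol_fin (n : ℕ) : ∃ f : Fin n → Fin n, (∀ i, f (f i) = i) ∧
    ∀ i j, f i = i → f j = j → i = j := by
  refine ⟨fun i => if h0 : i.val % 2 = 0 then (if h : i.val + 1 < n then ⟨i.val + 1, h⟩ else i)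
    else ⟨i.val - 1, by omega⟩, ?_, ?_⟩
  · intro i
    apply Fin.ext
    by_cases h0 : i.val % 2 = 0
    · by_cases h : i.val + 1 < n
      · simp only [h0, h, dite_true]
        have h0' : ¬ (i.val + 1) % 2 = 0 := by omega
        simp only [h0', dite_false]
        omega
      · simp only [h0, h, dite_true, dite_false]
    · simp only [h0, dite_false]
      have h0' : (i.val - 1) % 2 = 0 := by omega
      have h1 : i.val - 1 + 1 < n := by omega
      simp only [h0', h1, dite_true]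
      omega
  · intro i j hi hj
    apply Fin.ext
    have hi' := congrArg Fin.val hi
    have hj' := congrArg Fin.val hj
    by_cases h0 : i.val % 2 = 0
    · by_cases h : i.val + 1 < n
      · simp only [h0, h, dite_true] at hi'
        omega
      · by_cases h0j : j.val % 2 = 0
        · by_cases hjn : j.val + 1 < n
          · simp only [h0j, hjn, dite_true] at hj'
            omega
          · omega
        · simp only [h0j, dite_false] at hj'
          omega
    · simp only [h0, dite_false] at hi'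
      omega

theorem exists_invol (α : Type u) [Fintype α] :
    ∃ τ : Perm α, (∀ x, τ (τ x) = x) ∧ ∀ x y, τ x = x → τ y = y → x = y := by
  obtain ⟨f, hf1, hf2⟩ := exists_invol_fin (Fintype.card α)
  let e := Fintype.equivFin α
  refine ⟨⟨fun x => e.symm (f (e x)), fun x => e.symm (f (e x)), ?_, ?_⟩, ?_, ?_⟩
  · intro x; simp [hf1]
  · intro x; simp [hf1]
  · intro x; simp [hf1]
  · intro x y hx hy
    have hx' : f (e x) = e x := by
      have := congrArg e hx
      simpa using this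
    have hy' : f (e y) = e y := by
      have := congrArg e hy
      simpa using this
    exact e.injective (hf2 _ _ hx' hy')

/-- at most one point is fixed by all transpositions of a Sylow 2-subgroup -/
theorem T_cover (P : Sylow 2 (Perm α)) {y y' : α}
    (hy : ∀ t ∈ T (P : Subgroup (Perm α)), t y = y)
    (hy' : ∀ t ∈ T (P : Subgroup (Perm α)), t y' = y') : y = y' := by
  obtain ⟨τ, hτ1, hτ2⟩ := exists_invol α
  have hS1 : ∀ s ∈ {s : Perm α | ∃ x, τ x ≠ x ∧ s = swap x (τ x)}, s * s = 1 := by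
    rintro s ⟨x, hx, rfl⟩; exact swap_mul_self _ _
  have hS2 : ∀ s ∈ {s : Perm α | ∃ x, τ x ≠ x ∧ s = swap x (τ x)},
      ∀ t ∈ {s : Perm α | ∃ x, τ x ≠ x ∧ s = swap x (τ x)}, s * t = t * s := by
    rintro s ⟨x, hx, rfl⟩ t ⟨x', hx', rfl⟩
    ext z
    simp only [Perm.mul_apply, swap_apply_def]
    have := hτ1 x
    have := hτ1 x'
    grind
  obtain ⟨c, hc⟩ := conj_into_sylow P _ hS1 hS2
  have key : ∀ z, (∀ t ∈ T (P : Subgroup (Perm α)), t z = z) → τ (c⁻¹ z) = c⁻¹ z := by
    intro z hz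
    by_contra hne
    have h1 := hc _ ⟨c⁻¹ z, hne, rfl⟩
    rw [conj_swap, apply_inv_self'] at h1
    have hne' : z ≠ c (τ (c⁻¹ z)) := by
      intro h
      apply hne
      have := congrArg (fun w => c⁻¹ w) h
      simp only [inv_apply_self'] at this
      exact this.symm
    have h2 := hz _ (swap_mem_T hne' h1)
    rw [swap_apply_left] at h2
    exact hne' h2.symm
  have := hτ2 _ _ (key y hy) (key y' hy')
  simpa using this

/-- `σ` induces the permutation `π` on the transpositions of `P` -/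
def Ind (P : Subgroup (Perm α)) (σ : Perm α) (π : Perm (T P)) : Prop :=
  ∀ t : T P, σ * t.1 * σ⁻¹ = (π t).1

theorem Ind.one (P : Subgroup (Perm α)) : Ind P 1 1 := fun t => by simp

theorem Ind.mul {P : Subgroup (Perm α)} {σ σ' : Perm α} {π π' : Perm (T P)} (h : Ind P σ π)
    (h' : Ind P σ' π') : Ind P (σ * σ') (π * π') := by
  intro t
  rw [Perm.mul_apply, ← h, ← h']; group

theorem Ind.inv {P : Subgroup (Perm α)} {σ : Perm α} {π : Perm (T P)} (h : Ind P σ π) :
    Ind P σ⁻¹ π⁻¹ := by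
  intro t
  have h1 := h (π⁻¹ t)
  have h2 : π (π⁻¹ t) = t := π.apply_symm_apply t
  rw [h2] at h1
  rw [← h1]; group

theorem Ind.pow {P : Subgroup (Perm α)} {σ : Perm α} {π : Perm (T P)} (h : Ind P σ π) (m : ℕ) :
    Ind P (σ ^ m) (π ^ m) := by
  induction m with
  | zero => simpa using Ind.one P
  | succ m ih => rw [pow_succ, pow_succ]; exact ih.mul h

theorem Ind.eq_one {P : Subgroup (Perm α)} {π : Perm (T P)} (h : Ind P 1 π) : π = 1 := by
  ext t
  have := h t
  simp only [one_mul, inv_one, mul_one] at this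
  rw [Perm.one_apply, ← this]

theorem isSwap_conj (x t : Perm α) (ht : t.IsSwap) : (x * t * x⁻¹).IsSwap := by
  obtain ⟨a, b, hab, rfl⟩ := ht
  exact ⟨x a, x b, fun h => hab (x.injective h), conj_swap x a b⟩

theorem exists_ind {P : Subgroup (Perm α)} (x : Perm α) (hx : ∀ p ∈ P, x * p * x⁻¹ ∈ P)
    (hx' : ∀ p ∈ P, x⁻¹ * p * x ∈ P) : ∃ ξ : Perm (T P), Ind P x ξ := by
  refine ⟨⟨fun t => ⟨x * t.1 * x⁻¹, hx _ t.2.1, isSwap_conj x _ t.2.2⟩,
    fun t => ⟨x⁻¹ * t.1 * x, hx' _ t.2.1, by simpa using isSwap_conj x⁻¹ _ t.2.2⟩, ?_, ?_⟩,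
    fun t => rfl⟩
  · intro t; apply Subtype.ext; simp only; group
  · intro t; apply Subtype.ext; simp only; group

theorem ind_swap {P : Subgroup (Perm α)} (hP : IsPGroup 2 P) (t₁ t₂ : T P) (hne : t₁ ≠ t₂) :
    ∃ σ : Perm α, Ind P σ (swap t₁ t₂) := by
  obtain ⟨a₁, b₁, hab₁, h1⟩ := t₁.2.2
  obtain ⟨a₂, b₂, hab₂, h2⟩ := t₂.2.2
  have hd : ∀ z, t₁.1 z ≠ z → t₂.1 z = z := by
    intro z hz
    by_contra hz'
    exact hne (Subtype.ext (T_disj hP t₁.2 t₂.2 hz hz'))
  have e1 : swap a₂ b₂ a₁ = a₁ := by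
    rw [← h2]; apply hd; rw [h1, swap_apply_left]; exact hab₁.symm
  have e2 : swap a₂ b₂ b₁ = b₁ := by
    rw [← h2]; apply hd; rw [h1, swap_apply_right]; exact hab₁
  simp only [swap_apply_def] at e1 e2
  refine ⟨swap a₁ a₂ * swap b₁ b₂, fun t => ?_⟩
  by_cases ht1 : t = t₁
  · rw [ht1, swap_apply_left, h1, h2, conj_swap]
    congr 1 <;> (simp only [Perm.mul_apply, swap_apply_def]; grind)
  by_cases ht2 : t = t₂
  · rw [ht2, swap_apply_right, h1, h2, conj_swap]
    congr 1 <;> (simp only [Perm.mul_apply, swap_apply_def]; grind)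
  rw [swap_apply_of_ne_of_ne ht1 ht2]
  obtain ⟨c, d, hcd, h3⟩ := t.2.2
  have hd1 : ∀ z, t.1 z ≠ z → t₁.1 z = z := by
    intro z hz
    by_contra hz'
    exact ht1 (Subtype.ext (T_disj hP t.2 t₁.2 hz hz'))
  have hd2 : ∀ z, t.1 z ≠ z → t₂.1 z = z := by
    intro z hz
    by_contra hz'
    exact ht2 (Subtype.ext (T_disj hP t.2 t₂.2 hz hz'))
  have e3 : swap a₁ b₁ c = c := by
    rw [← h1]; apply hd1; rw [h3, swap_apply_left]; exact hcd.symm
  have e4 : swap a₁ b₁ d = d := by
    rw [← h1]; apply hd1; rw [h3, swap_apply_right]; exact hcd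
  have e5 : swap a₂ b₂ c = c := by
    rw [← h2]; apply hd2; rw [h3, swap_apply_left]; exact hcd.symm
  have e6 : swap a₂ b₂ d = d := by
    rw [← h2]; apply hd2; rw [h3, swap_apply_right]; exact hcd
  simp only [swap_apply_def] at e3 e4 e5 e6
  rw [h3, conj_swap]
  congr 1 <;> (simp only [Perm.mul_apply, swap_apply_def]; grind)

theorem ind_surj {P : Subgroup (Perm α)} (hP : IsPGroup 2 P) (π : Perm (T P)) :
    ∃ σ, Ind P σ π := by
  induction π using Equiv.Perm.swap_induction_on with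
  | one => exact ⟨1, Ind.one P⟩
  | swap_mul f x y hxy ih =>
    obtain ⟨σ, hσ⟩ := ih
    obtain ⟨σ', hσ'⟩ := ind_swap hP x y hxy
    exact ⟨σ' * σ, hσ'.mul hσ⟩

theorem ind_one_sq (P : Sylow 2 (Perm α)) {σ : Perm α}
    (h : Ind (P : Subgroup (Perm α)) σ 1) : σ * σ = 1 := by
  have hc : ∀ t ∈ T (P : Subgroup (Perm α)), σ * t * σ⁻¹ = t := fun t ht => h ⟨t, ht⟩
  ext y
  rw [Perm.mul_apply, Perm.one_apply]
  by_cases hy : ∃ t ∈ T (P : Subgroup (Perm α)), t y ≠ y
  · obtain ⟨t, ht, hty⟩ := hy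
    obtain ⟨b, hb, rfl⟩ := T_form ht hty
    have h3 := hc _ ht
    rw [conj_swap] at h3
    have e1 := congrArg (fun f => f y) h3
    have e2 := congrArg (fun f => f b) h3
    simp only [swap_apply_def] at e1 e2
    have := σ.injective.ne hb
    grind
  · push Not at hy
    have hy2 : ∀ t ∈ T (P : Subgroup (Perm α)), t (σ y) = σ y := by
      intro t ht
      have h3 := hc t ht
      have h4 : σ * t = t * σ := by
        calc σ * t = (σ * t * σ⁻¹) * σ := by group
          _ = t * σ := by rw [h3]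
      have h5 := congrArg (fun f => f y) h4
      simp only [Perm.mul_apply] at h5
      rw [hy t ht] at h5
      exact h5.symm
    have h6 := T_cover P hy2 hy
    rw [h6, h6]

end

/-- **Sylow 2-subgroups of symmetric groups are self-normalising.** -/
theorem self_norm_aux : ∀ n : ℕ, ∀ (α : Type u) [Fintype α] [DecidableEq α], Fintype.card α ≤ n →
    ∀ (P : Sylow 2 (Perm α)) (x : Perm α), (∀ p ∈ P, x * p * x⁻¹ ∈ P) → x ∈ P := by
  intro n
  induction n with
  | zero =>
    intro α _ _ hc P x hx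
    have : IsEmpty α := Fintype.card_eq_zero_iff.mp (by omega)
    have : x = 1 := Subsingleton.elim _ _
    rw [this]; exact one_mem _
  | succ n ih =>
    intro α _ _ hc P x hx
    by_cases hα : IsEmpty α
    · have : x = 1 := Subsingleton.elim _ _
      rw [this]; exact one_mem _
    rw [not_isEmpty_iff] at hα
    have hPg : IsPGroup 2 (P : Subgroup (Perm α)) := P.isPGroup'
    have hxk : ∀ k : ℕ, ∀ p ∈ P, x ^ k * p * (x ^ k)⁻¹ ∈ P := by
      intro k
      induction k with
      | zero => intro p hp; simpa using hp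
      | succ k ihk =>
        intro p hp
        have h1 := hx _ (ihk p hp)
        have e : x ^ (k + 1) * p * (x ^ (k + 1))⁻¹ = x * (x ^ k * p * (x ^ k)⁻¹) * x⁻¹ := by
          rw [pow_succ']; group
        rw [e]; exact h1
    have hx' : ∀ p ∈ P, x⁻¹ * p * x ∈ P := by
      intro p hp
      have h1 : x ^ (orderOf x - 1) = x⁻¹ := by
        have h2 := pow_orderOf_eq_one x
        have hpos := orderOf_pos x
        apply eq_inv_of_mul_eq_one_left
        rw [← pow_succ, Nat.sub_add_cancel hpos, h2]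
      have h3 := hxk (orderOf x - 1) p hp
      rwa [h1, inv_inv] at h3
    let β := T (P : Subgroup (Perm α))
    have : Fintype β := Fintype.ofFinite β
    have hβ : Fintype.card β < Fintype.card α := by
      have hmv : ∀ t : β, ∃ a, t.1 a ≠ a := by
        intro t
        obtain ⟨a, b, hab, h⟩ := t.2.2
        exact ⟨a, by rw [h, swap_apply_left]; exact hab.symm⟩
      choose f hf using hmv
      apply Fintype.card_lt_of_injective_not_surjective f
      · intro t t' htt'
        exact Subtype.ext (T_disj hPg t.2 t'.2 (hf t) (htt' ▸ hf t'))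
      · intro hsurj
        by_cases hne : Nonempty β
        · obtain ⟨t₀⟩ := hne
          obtain ⟨t, ht⟩ := hsurj (t₀.1 (f t₀))
          have h1 : t.1 (t₀.1 (f t₀)) ≠ t₀.1 (f t₀) := ht ▸ hf t
          have h2 : t₀.1 (t₀.1 (f t₀)) ≠ t₀.1 (f t₀) := fun h => hf t₀ (t₀.1.injective h)
          have h3 := Subtype.ext (T_disj hPg t.2 t₀.2 h1 h2)
          subst h3
          exact hf t ht.symm
        · obtain ⟨a⟩ := hα
          obtain ⟨t, _⟩ := hsurj a
          exact hne ⟨t⟩
    let P' : Subgroup (Perm β) :=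
      { carrier := {π | ∃ p ∈ P, Ind (P : Subgroup (Perm α)) p π}
        mul_mem' := by
          rintro π π' ⟨p, hp, h⟩ ⟨p', hp', h'⟩
          exact ⟨p * p', mul_mem hp hp', h.mul h'⟩
        one_mem' := ⟨1, one_mem _, Ind.one _⟩
        inv_mem' := by
          rintro π ⟨p, hp, h⟩
          exact ⟨p⁻¹, inv_mem hp, h.inv⟩ }
    have hP' : IsPGroup 2 P' := by
      rintro ⟨π, p, hp, h⟩
      obtain ⟨k, hk⟩ := hPg ⟨p, hp⟩
      have hk' : p ^ 2 ^ k = 1 := by simpa [Subtype.ext_iff] using hk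
      refine ⟨k, Subtype.ext ?_⟩
      have h1 := h.pow (2 ^ k)
      rw [hk'] at h1
      simpa using h1.eq_one
    obtain ⟨Q, hQ⟩ := hP'.exists_le_sylow
    let Pt : Subgroup (Perm α) :=
      { carrier := {σ | ∃ π ∈ Q, Ind (P : Subgroup (Perm α)) σ π}
        mul_mem' := by
          rintro σ σ' ⟨π, hπ, h⟩ ⟨π', hπ', h'⟩
          exact ⟨π * π', mul_mem hπ hπ', h.mul h'⟩
        one_mem' := ⟨1, one_mem _, Ind.one _⟩
        inv_mem' := by
          rintro σ ⟨π, hπ, h⟩
          exact ⟨π⁻¹, inv_mem hπ, h.inv⟩ }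
    have hPt : IsPGroup 2 Pt := by
      rintro ⟨σ, π, hπ, h⟩
      obtain ⟨k, hk⟩ := Q.isPGroup' ⟨π, hπ⟩
      have hk' : π ^ 2 ^ k = 1 := by simpa [Subtype.ext_iff] using hk
      refine ⟨k + 1, Subtype.ext ?_⟩
      have h1 := h.pow (2 ^ k)
      rw [hk'] at h1
      have h2 := ind_one_sq P h1
      show σ ^ 2 ^ (k + 1) = 1
      rw [pow_succ, pow_mul, pow_two]; exact h2
    have hPPt : (P : Subgroup (Perm α)) ≤ Pt := by
      intro p hp
      obtain ⟨π, hπ⟩ := exists_ind (P := (P : Subgroup (Perm α))) p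
        (fun q hq => mul_mem (mul_mem hp hq) (inv_mem hp))
        (fun q hq => mul_mem (mul_mem (inv_mem hp) hq) hp)
      exact ⟨π, hQ ⟨p, hp, hπ⟩, hπ⟩
    have hEq : Pt = P := P.is_maximal' hPt hPPt
    obtain ⟨ξ, hξ⟩ := exists_ind (P := (P : Subgroup (Perm α))) x hx hx'
    have hξQ : ∀ π ∈ Q, ξ * π * ξ⁻¹ ∈ Q := by
      intro π hπ
      obtain ⟨σ, hσ⟩ := ind_surj hPg π
      have hσP : σ ∈ P := by
        have : σ ∈ Pt := ⟨π, hπ, hσ⟩
        rwa [hEq] at this
      exact hQ ⟨x * σ * x⁻¹, hx σ hσP, (hξ.mul hσ).mul hξ.inv⟩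
    have hξmem := ih β (by omega) Q ξ hξQ
    have hxPt : x ∈ Pt := ⟨ξ, hξmem, hξ⟩
    rwa [hEq] at hxPt

theorem self_norm {α : Type u} [Fintype α] [DecidableEq α] (P : Sylow 2 (Perm α)) (x : Perm α)
    (hx : ∀ p ∈ P, x * p * x⁻¹ ∈ P) : x ∈ P :=
  self_norm_aux _ α le_rfl P x hx

end Cfsg.Agent.Lib.Helper95.SylNorm
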