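/-
Sylow 2-subgroups of the alternating group of degree at least 6 are self-normalising.
-/
import Mathlib
import Cfsg.Agent.Lib.Helper95.SylNorm1

set_option autoImplicit false
set_option linter.unusedSectionVars false

namespace Cfsg.Agent.Lib.Helper95.SylNorm

open Equiv
open Cfsg.Agent.Lib.Helper95.SylMax

universe u

variable {α : Type u} [Fintype α] [DecidableEq α]

theorem swap_mem_aux (P : Sylow 2 (Perm α)) {a b c d e f : α} (h : [a, b, c, d, e, f].Nodup)
    (hu : swap a b * swap c d ∈ P) (hv : swap a b * swap e f ∈ P)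
    (ha : ∃ s ∈ T (P : Subgroup (Perm α)), s a ≠ a) : swap a b ∈ P := by
  obtain ⟨s, hs, hsa⟩ := ha
  obtain ⟨y, hay, rfl⟩ := T_form hs hsa
  by_cases hyb : y = b
  · subst hyb; exact hs.1
  exfalso
  have hPg := P.isPGroup'
  have h1 : swap ((swap a b * swap c d) a) ((swap a b * swap c d) y) ∈
      T (P : Subgroup (Perm α)) := by
    rw [← conj_swap]
    exact ⟨mul_mem (mul_mem hu hs.1) (inv_mem hu), isSwap_conj _ _ hs.2⟩
  have h2 : swap ((swap a b * swap e f) a) ((swap a b * swap e f) y) ∈
      T (P : Subgroup (Perm α)) := by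
    rw [← conj_swap]
    exact ⟨mul_mem (mul_mem hv hs.1) (inv_mem hv), isSwap_conj _ _ hs.2⟩
  have ea : (swap a b * swap c d) a = b := by
    simp only [Perm.mul_apply, swap_apply_def]; grind
  have ea' : (swap a b * swap e f) a = b := by
    simp only [Perm.mul_apply, swap_apply_def]; grind
  have hne1 : (swap a b * swap c d) y ≠ b :=
    fun h => hay ((swap a b * swap c d).injective (h.trans ea.symm)).symm
  have hne2 : (swap a b * swap e f) y ≠ b :=
    fun h => hay ((swap a b * swap e f).injective (h.trans ea'.symm)).symm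
  rw [ea] at h1
  rw [ea'] at h2
  have h3 : swap b ((swap a b * swap c d) y) = swap b ((swap a b * swap e f) y) :=
    T_disj hPg h1 h2 (y := b) (by rw [swap_apply_left]; exact hne1)
      (by rw [swap_apply_left]; exact hne2)
  have h4 := congrArg (fun g => g b) h3
  simp only [swap_apply_left] at h4
  have h5 : (swap a b * swap c d) y = y := by
    simp only [Perm.mul_apply, swap_apply_def] at h4 ⊢; grind
  rw [h5] at h1
  have h6 := T_disj hPg h1 hs (y := y) (by rw [swap_apply_right]; exact fun h => hyb h.symm)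
    (by rw [swap_apply_right]; exact hay)
  have h7 := congrArg (fun g => g y) h6
  simp only [swap_apply_right] at h7
  grind

theorem swap_mem_of_dswaps (P : Sylow 2 (Perm α)) {a b c d e f : α}
    (h : [a, b, c, d, e, f].Nodup)
    (hu : swap a b * swap c d ∈ P) (hv : swap a b * swap e f ∈ P) : swap a b ∈ P := by
  by_cases ha : ∃ s ∈ T (P : Subgroup (Perm α)), s a ≠ a
  · exact swap_mem_aux P h hu hv ha
  by_cases hb : ∃ s ∈ T (P : Subgroup (Perm α)), s b ≠ b
  · rw [swap_comm a b] at hu hv ⊢
    exact swap_mem_aux P (by grind) hu hv hb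
  push Not at ha hb
  have := T_cover P ha hb
  grind

/-- An element normalising the even part of a Sylow 2-subgroup of the symmetric group of degree
at least 6 lies in that Sylow subgroup. -/
theorem self_norm_even (h6 : 6 ≤ Fintype.card α) (P : Sylow 2 (Perm α)) (x : Perm α)
    (hx : ∀ p ∈ P, Perm.sign p = 1 → x * p * x⁻¹ ∈ P) : x ∈ P := by
  have hPg := P.isPGroup'
  have hcov : ∀ l : List α, l.length ≤ 4 →
      ∃ c, c ∉ l ∧ ∃ s ∈ T (P : Subgroup (Perm α)), s c ≠ c := by
    intro l hl
    obtain ⟨c₁, hc₁⟩ := exists_notMem_list l (by rw [Nat.card_eq_fintype_card]; omega)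
    obtain ⟨c₂, hc₂⟩ := exists_notMem_list (c₁ :: l)
      (by rw [Nat.card_eq_fintype_card, List.length_cons]; omega)
    by_cases h1 : ∃ s ∈ T (P : Subgroup (Perm α)), s c₁ ≠ c₁
    · exact ⟨c₁, hc₁, h1⟩
    by_cases h2 : ∃ s ∈ T (P : Subgroup (Perm α)), s c₂ ≠ c₂
    · exact ⟨c₂, fun h => hc₂ (List.mem_cons_of_mem _ h), h2⟩
    push Not at h1 h2
    have h3 := T_cover P h1 h2
    exact absurd (h3 ▸ List.mem_cons_self) hc₂
  have key : ∀ t ∈ T (P : Subgroup (Perm α)), x * t * x⁻¹ ∈ P := by
    intro t ht
    obtain ⟨a, b, hab, rfl⟩ := ht.2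
    obtain ⟨c, hc, t₁, ht₁, htc⟩ := hcov [a, b] (by simp)
    obtain ⟨d, hcd, rfl⟩ := T_form ht₁ htc
    have hd : swap a b d = d := by
      by_contra hd
      have h1 := T_disj hPg ht ht₁ hd (by rw [swap_apply_right]; exact hcd)
      have h2 := congrArg (fun g => g c) h1
      simp only [swap_apply_def] at h2; grind
    obtain ⟨e, he, t₂, ht₂, hte⟩ := hcov [a, b, c, d] (by simp)
    obtain ⟨f, hef, rfl⟩ := T_form ht₂ hte
    have hf1 : swap a b f = f := by
      by_contra hf
      have h1 := T_disj hPg ht ht₂ hf (by rw [swap_apply_right]; exact hef)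
      have h2 := congrArg (fun g => g e) h1
      simp only [swap_apply_def] at h2; grind
    have hf2 : swap c d f = f := by
      by_contra hf
      have h1 := T_disj hPg ht₁ ht₂ hf (by rw [swap_apply_right]; exact hef)
      have h2 := congrArg (fun g => g e) h1
      simp only [swap_apply_def] at h2; grind
    simp only [swap_apply_def] at hd hf1 hf2
    have hnd : [a, b, c, d, e, f].Nodup := by grind
    have hu := hx _ (mul_mem ht.1 ht₁.1) (sign_swap_mul_swap hab hcd)
    have hv := hx _ (mul_mem ht.1 ht₂.1) (sign_swap_mul_swap hab hef)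
    rw [conj_swap_mul] at hu hv
    rw [conj_swap]
    exact swap_mem_of_dswaps P (List.Nodup.map x.injective hnd) hu hv
  have hall : ∀ p ∈ P, x * p * x⁻¹ ∈ P := by
    intro p hp
    by_cases hs : Perm.sign p = 1
    · exact hx p hp hs
    · obtain ⟨c, -, t, ht, -⟩ := hcov [] (by simp)
      have hst : Perm.sign t = -1 := by
        obtain ⟨a, b, hab, rfl⟩ := ht.2
        exact Perm.sign_swap hab
      have hs' : Perm.sign p = -1 := by
        rcases Int.units_eq_one_or (Perm.sign p) with h | h
        · exact absurd h hs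
        · exact h
      have h1 : Perm.sign (p * t) = 1 := by rw [map_mul, hs', hst]; rfl
      have h2 := hx _ (mul_mem hp ht.1) h1
      have h3 := key t ht
      have h4 : t * t = 1 := by
        obtain ⟨a, b, hab, rfl⟩ := ht.2
        exact swap_mul_self _ _
      have e : x * p * x⁻¹ = (x * (p * t) * x⁻¹) * (x * t * x⁻¹) := by
        have h5 : x * (p * t) * x⁻¹ * (x * t * x⁻¹) = x * (p * (t * t)) * x⁻¹ := by group
        rw [h5, h4, mul_one]
      rw [e]; exact mul_mem h2 h3
  exact self_norm P x hall

/-- **Sylow 2-subgroups of the alternating group of degree at least 6 are self-normalising.** -/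
theorem alt_self_norm (h6 : 6 ≤ Fintype.card α) (S : Sylow 2 (alternatingGroup α))
    (x : alternatingGroup α) (hx : ∀ s ∈ S, x * s * x⁻¹ ∈ S) : x ∈ S := by
  obtain ⟨P, hP⟩ := (S.isPGroup'.map (alternatingGroup α).subtype).exists_le_sylow
  have hpg : IsPGroup 2 ((P : Subgroup (Perm α)).comap (alternatingGroup α).subtype) :=
    P.isPGroup'.comap_of_injective _ Subtype.coe_injective
  have hle : (S : Subgroup (alternatingGroup α)) ≤
      (P : Subgroup (Perm α)).comap (alternatingGroup α).subtype :=
    Subgroup.map_le_iff_le_comap.mp hP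
  have hSP : (P : Subgroup (Perm α)).comap (alternatingGroup α).subtype = S :=
    S.is_maximal' hpg hle
  have hmem : ∀ s : alternatingGroup α, s ∈ S ↔ (s : Perm α) ∈ P := by
    intro s
    constructor
    · intro h; exact hle h
    · intro h
      have h1 : s ∈ (P : Subgroup (Perm α)).comap (alternatingGroup α).subtype := h
      rwa [hSP] at h1
  have hxP : (x : Perm α) ∈ P := by
    apply self_norm_even h6 P
    intro p hp hs
    have hpA : p ∈ alternatingGroup α := Perm.mem_alternatingGroup.mpr hs
    have h1 := hx ⟨p, hpA⟩ ((hmem _).mpr hp)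
    exact (hmem _).mp h1
  exact (hmem x).mpr hxP

end Cfsg.Agent.Lib.Helper95.SylNorm
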